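import Cfsg.Agent.Lib.Walter.R3.Central

/-!
# Rank three: the centralisers of involutions have no core
-/

set_option autoImplicit false
set_option linter.style.haveILetI false

namespace Cfsg.Agent.Walter.R3

open Subgroup Cfsg.Agent.Solv.AbelianTwo

universe u

variable {G : Type u} [Group G] [Finite G]

/-- For an involution of the chosen Sylow subgroup. -/
theorem cent_core {A : Subgroup G} (c : Ctx A) (hsol : ∀ (X : Type u) [Group X] [Finite X], SEB.Sol X) {t : G}
    (ht : t ∈ A) (ht1 : t ≠ 1) : Cfsg.oddCore ↥(centralizer ({t} : Set G)) = ⊥ := by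
  obtain ⟨M, hM, hle⟩ := c.exists_coatom (c.cent_ne_top ht ht1)
  have hm : Mem A M t := ⟨ht, ht1, hM, hle⟩
  obtain ⟨mm, F, hmt⟩ := c.exists_fam hm
  have h1 : Ol (centralizer ({t} : Set G)) ≤ Ol M := c.mem_core hsol hm
  rw [← hmt, F.core_bot c hsol ht ht1, le_bot_iff, Ol,
    Subgroup.map_eq_bot_iff_of_injective _ (Subgroup.subtype_injective _)] at h1
  exact h1

/-- **The cores of the involution centralisers in rank three.** -/
theorem rankThreeStatement_of (hsol : ∀ (X : Type u) [Group X] [Finite X], SEB.Sol X) :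
    RankThreeStatement.{u} := by
  intro G _ _ hG h3 t ht
  haveI : Fact (Nat.Prime 2) := ⟨Nat.prime_two⟩
  obtain ⟨S⟩ : Nonempty (Sylow 2 G) := inferInstance
  have c : Ctx (S : Subgroup G) := ⟨hG, h3, S, rfl⟩
  have ht2 : t * t = 1 := by rw [← pow_two, ← ht, pow_orderOf_eq_one]
  have ht1 : t ≠ 1 := fun e => by rw [e, orderOf_one] at ht; exact absurd ht (by norm_num)
  obtain ⟨g, hg⟩ := c.exists_conj ht2
  have hc := cent_core c hsol hg (fun e => ht1 (conj_eq_one_iff.1 e))
  have hmap : (centralizer ({t} : Set G)).map (MulAut.conj g).toMonoidHom = centralizer ({g * t * g⁻¹} : Set G) := by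
    ext y
    rw [mem_map_equiv, MulAut.conj_symm_apply, mem_centralizer_singleton_iff, mem_centralizer_singleton_iff]
    constructor
    · intro h
      calc y * (g * t * g⁻¹) = g * (g⁻¹ * y * g * t) * g⁻¹ := by group
        _ = g * t * g⁻¹ * y := by rw [h]; group
    · intro h
      calc g⁻¹ * y * g * t = g⁻¹ * (y * (g * t * g⁻¹)) * g := by group
        _ = t * (g⁻¹ * y * g) := by rw [h]; group
  have e := ((centralizer ({t} : Set G)).equivMapOfInjective (MulAut.conj g).toMonoidHom
    (MulAut.conj g).injective).trans (MulEquiv.subgroupCongr hmap)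
  have h1 := Fusion.map_pPrimeCore_equiv (p := 2) e
  rw [show Cfsg.pPrimeCore 2 ↥(centralizer ({g * t * g⁻¹} : Set G)) = ⊥ from hc,
    Subgroup.map_eq_bot_iff_of_injective _ e.injective] at h1
  exact h1

end Cfsg.Agent.Walter.R3
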