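import Cfsg.Agent.Lib.Walter.Core.Defs
import Cfsg.Agent.Lib.Fusion.Cores
import Cfsg.Agent.Lib.Bender.AbelianSolvable

/-!
# Rank three: a Sylow 2-subgroup

`A` is a Sylow 2-subgroup, elementary of order 8. Subgroups over `A`, odd cores and layers as subgroups of `G`.
-/

set_option autoImplicit false
set_option linter.style.haveILetI false
set_option linter.unusedSectionVars false

namespace Cfsg.Agent.Walter.R3

open Subgroup Cfsg.Agent.Solv.AbelianTwo
open scoped commutatorElement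

universe u

variable {G : Type u} [Group G]

/-- The odd core of `L`, in `G`. -/
def Ol (L : Subgroup G) : Subgroup G := (Cfsg.oddCore ↥L).map L.subtype

/-- The layer of `L`, in `G`. -/
def El (L : Subgroup G) : Subgroup G := (Cfsg.layer ↥L).map L.subtype

/-- The setting: a minimal group of rank three and one of its Sylow 2-subgroups. -/
structure Ctx (A : Subgroup G) : Prop where
  min : MinHyp G
  three : RankThree G
  syl : ∃ S : Sylow 2 G, (S : Subgroup G) = A

theorem Ol_le (L : Subgroup G) : Ol L ≤ L := map_subtype_le _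

theorem El_le (L : Subgroup G) : El L ≤ L := map_subtype_le _

theorem mem_Ol {L : Subgroup G} {g : G} (hg : g ∈ L) : g ∈ Ol L ↔ (⟨g, hg⟩ : ↥L) ∈ Cfsg.oddCore ↥L :=
  mem_map_iff_mem L.subtype_injective (x := (⟨g, hg⟩ : ↥L))

theorem mem_El {L : Subgroup G} {g : G} (hg : g ∈ L) : g ∈ El L ↔ (⟨g, hg⟩ : ↥L) ∈ Cfsg.layer ↥L :=
  mem_map_iff_mem L.subtype_injective (x := (⟨g, hg⟩ : ↥L))

/-- An element is in the normaliser when it maps the subgroup into itself. -/
theorem mem_norm [Finite G] {H : Subgroup G} {g : G} (h : ∀ x ∈ H, g * x * g⁻¹ ∈ H) :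
    g ∈ normalizer (H : Set G) :=
  mem_normalizer_fintype h

variable [Finite G]

theorem Ol_odd (L : Subgroup G) : Odd (Nat.card (Ol L)) := by
  rw [Ol, card_map_of_injective L.subtype_injective]
  exact Nat.coprime_two_right.1 (Fusion.card_pPrimeCore_coprime 2 _)

theorem odd_of_le {H K : Subgroup G} (h : H ≤ K) (hK : Odd (Nat.card K)) : Odd (Nat.card H) :=
  hK.of_dvd_nat (card_dvd_of_le h)

theorem orderOf_odd {H : Subgroup G} (hH : Odd (Nat.card H)) {x : G} (hx : x ∈ H) : Odd (orderOf x) :=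
  hH.of_dvd_nat (orderOf_dvd_natCard H hx)

/-- A normal subgroup of `L` of odd order is in the core. -/
theorem le_Ol {L R : Subgroup G} (hR : R ≤ L) (hn : L ≤ normalizer (R : Set G)) (hodd : Odd (Nat.card R)) :
    R ≤ Ol L := by
  haveI : (R.subgroupOf L).Normal := normal_subgroupOf_of_le_normalizer hn
  rw [Ol, ← map_subgroupOf_eq_of_le hR]
  refine map_mono (Fusion.le_pPrimeCore ?_)
  rw [Nat.card_congr (subgroupOfEquivOfLe hR).toEquiv]
  exact Nat.coprime_two_right.2 hodd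

theorem Ol_norm (L : Subgroup G) : L ≤ normalizer (Ol L : Set G) := by
  intro g hg
  refine mem_norm ?_
  rintro _ ⟨x, hx, rfl⟩
  exact ⟨⟨g, hg⟩ * x * ⟨g, hg⟩⁻¹, (inferInstance : (Cfsg.oddCore ↥L).Normal).conj_mem x hx _, rfl⟩

theorem El_norm (L : Subgroup G) : L ≤ normalizer (El L : Set G) := by
  intro g hg
  haveI := Local.layer_normal (H := ↥L)
  refine mem_norm ?_
  rintro _ ⟨x, hx, rfl⟩
  exact ⟨⟨g, hg⟩ * x * ⟨g, hg⟩⁻¹, (inferInstance : (Cfsg.layer ↥L).Normal).conj_mem x hx _, rfl⟩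

theorem eq_one_of_sq_of_odd {x : G} (h2 : x * x = 1) (hodd : Odd (orderOf x)) : x = 1 :=
  orderOf_eq_one_iff.1 (Nat.eq_one_of_dvd_coprimes hodd.coprime_two_left
    (orderOf_dvd_of_pow_eq_one (by rw [pow_two, h2])) dvd_rfl)

/-- An element of odd order equal to its inverse is trivial. -/
theorem eq_one_of_inv_eq {x : G} (h : x⁻¹ = x) (hodd : Odd (orderOf x)) : x = 1 :=
  eq_one_of_sq_of_odd (by nth_rw 1 [← h]; exact inv_mul_cancel x) hodd

/-- An element of odd order lies in every subgroup containing its square. -/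
theorem commute_of_sq {x y : G} (hodd : Odd (orderOf x)) (h : Commute (x * x) y) : Commute x y := by
  obtain ⟨j, hj⟩ := exists_pow_eq_self_of_coprime hodd.coprime_two_left
  rw [← hj, pow_two]
  exact h.pow_left j

namespace Ctx

variable {A : Subgroup G} (c : Ctx A)
include c

theorem simple : IsSimpleGroup G := c.min.simple

theorem pgroup : IsPGroup 2 A := by
  obtain ⟨S, rfl⟩ := c.syl
  exact S.isPGroup'

theorem card : Nat.card A = 8 := by
  obtain ⟨S, rfl⟩ := c.syl
  exact (c.three.eight S).1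

theorem sq {a : G} (ha : a ∈ A) : a * a = 1 := by
  obtain ⟨S, rfl⟩ := c.syl
  rw [← pow_two]
  exact (c.three.eight S).2 a ha

theorem inv {a : G} (ha : a ∈ A) : a⁻¹ = a := inv_eq_of_mul_eq_one_right (c.sq ha)

theorem comm {a b : G} (ha : a ∈ A) (hb : b ∈ A) : Commute a b := commute_of_mem c.min.ab c.pgroup ha hb

theorem isComm : IsMulCommutative A := ⟨⟨fun a b => Subtype.ext (c.comm a.2 b.2).eq⟩⟩

theorem order {a : G} (ha : a ∈ A) (h1 : a ≠ 1) : orderOf a = 2 :=
  haveI : Fact (Nat.Prime 2) := ⟨Nat.prime_two⟩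
  orderOf_eq_prime (by rw [pow_two, c.sq ha]) h1

theorem le_cent {a : G} (ha : a ∈ A) : A ≤ centralizer ({a} : Set G) := fun _ hb =>
  mem_centralizer_singleton_iff.2 (c.comm hb ha).eq

theorem cent_ne_top {a : G} (_ha : a ∈ A) (h1 : a ≠ 1) : centralizer ({a} : Set G) ≠ ⊤ := by
  intro h
  haveI := c.simple
  have hc : a ∈ center G := mem_center_iff.2 fun g => mem_centralizer_singleton_iff.1 (h ▸ mem_top g)
  rcases (inferInstance : (center G).Normal).eq_bot_or_eq_top with h' | h'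
  · rw [h', mem_bot] at hc
    exact h1 hc
  · exact c.min.nonab ⟨⟨fun a b => mem_center_iff.1 (h' ▸ mem_top b : b ∈ center G) a⟩⟩

theorem norm_ne_top {H : Subgroup G} (h1 : H ≠ ⊥) (ht : H ≠ ⊤) : normalizer (H : Set G) ≠ ⊤ := by
  intro h
  haveI := c.simple
  haveI : H.Normal := normalizer_eq_top_iff.1 h
  rcases (inferInstance : H.Normal).eq_bot_or_eq_top with h' | h'
  · exact h1 h'
  · exact ht h'

theorem exists_coatom {H : Subgroup G} (hH : H ≠ ⊤) : ∃ L : Subgroup G, IsCoatom L ∧ H ≤ L :=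
  (eq_top_or_exists_le_coatom H).resolve_left hH

/-- A 2-subgroup over `A` is `A`. -/
theorem eq_of_le {P : Subgroup G} (hP : IsPGroup 2 P) (h : A ≤ P) : P = A := by
  obtain ⟨S, rfl⟩ := c.syl
  exact S.is_maximal' hP h

theorem card_lt {L : Subgroup G} (hL : L ≠ ⊤) : Nat.card L < Nat.card G :=
  lt_of_le_of_ne L.card_le_card_group fun h => hL (eq_top_of_card_eq L h)

/-- Burnside: fusion in `A` is controlled by `N(A)`. -/
theorem burnside {x g : G} (hx : x ∈ A) (hg : g * x * g⁻¹ ∈ A) :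
    ∃ n ∈ normalizer (A : Set G), n * x * n⁻¹ = g * x * g⁻¹ := by
  haveI : Fact (Nat.Prime 2) := ⟨Nat.prime_two⟩
  obtain ⟨S, rfl⟩ := c.syl
  haveI := c.min.ab S
  obtain ⟨n, hn, he⟩ := S.conj_eq_normalizer_conj_of_mem x g⁻¹ hx (by rwa [inv_inv])
  rw [inv_inv] at he
  exact ⟨n⁻¹, inv_mem hn, by rw [inv_inv]; exact he.symm⟩

/-- Every involution is conjugate into `A`. -/
theorem exists_conj {x : G} (hx : x * x = 1) : ∃ g : G, g * x * g⁻¹ ∈ A := by
  haveI : Fact (Nat.Prime 2) := ⟨Nat.prime_two⟩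
  obtain ⟨S, rfl⟩ := c.syl
  have hp : IsPGroup 2 (zpowers x) := IsPGroup.iff_card.2 (by
    rw [Nat.card_zpowers]
    have h1 : x ^ 2 ^ 1 = 1 := by rw [pow_one, pow_two, hx]
    obtain ⟨i, -, hi⟩ := (Nat.dvd_prime_pow Nat.prime_two).1 (orderOf_dvd_of_pow_eq_one h1)
    exact ⟨i, hi⟩)
  obtain ⟨T, hT⟩ := hp.exists_le_sylow
  obtain ⟨g, hg⟩ := MulAction.exists_smul_eq G T S
  refine ⟨g, ?_⟩
  rw [← hg, Sylow.coe_subgroup_smul]
  exact Subgroup.smul_mem_pointwise_smul _ _ _ (hT (mem_zpowers x))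

/-- An element of odd order in `A` is trivial. -/
theorem eq_one_of_odd {a : G} (ha : a ∈ A) (h : Odd (orderOf a)) : a = 1 := eq_one_of_sq_of_odd (c.sq ha) h

theorem coprime {H K : Subgroup G} (hH : H ≤ A) (hK : Odd (Nat.card K)) : (Nat.card H).Coprime (Nat.card K) := by
  haveI : Fact (Nat.Prime 2) := ⟨Nat.prime_two⟩
  obtain ⟨k, hk⟩ := IsPGroup.iff_card.1 (c.pgroup.to_le hH)
  rw [hk]
  exact Nat.Coprime.pow_left k hK.coprime_two_left

/-- `A` as a Sylow subgroup of a subgroup over it. -/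
theorem sylow_in {L : Subgroup G} (hA : A ≤ L) :
    ∃ T : Sylow 2 ↥L, (T : Subgroup ↥L) = A.subgroupOf L := by
  obtain ⟨S, rfl⟩ := c.syl
  exact ⟨S.subtype hA, rfl⟩

end Ctx

end Cfsg.Agent.Walter.R3
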