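import Cfsg.Agent.Lib.Walter.R3.Moved
import Cfsg.Agent.Lib.GW.MaxCfg

/-!
# Rank three: the members are the centralisers and have no core
-/

set_option autoImplicit false
set_option linter.style.haveILetI false
set_option linter.unusedSectionVars false

namespace Cfsg.Agent.Walter.R3

open Subgroup Cfsg.Agent.Solv.AbelianTwo

universe u

variable {G : Type u} [Group G] [Finite G] {A L : Subgroup G} {t : G}

/-- An element commuting with every prime core commutes with the Fitting subgroup. -/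
theorem commute_fit {M : Subgroup G} {d : G} (h : ∀ r : ℕ, r.Prime → ∀ x ∈ GW.fq r M, Commute x d) {x : G}
    (hx : x ∈ (Cfsg.fittingSubgroup ↥M).map M.subtype) : Commute x d :=
  mem_centralizer_singleton_iff.1 (fit_le (N := centralizer ({d} : Set G))
    (fun r hr y hy => mem_centralizer_singleton_iff.2 (h r hr y hy).eq) hx)

namespace Ctx

variable (c : Ctx A)
include c

/-- The elements of a four group in `A`. -/
theorem four_cases {T : Subgroup G} (hT : T ≤ A) (h4 : Nat.card T = 4) {x a d : G} (hx : x ∈ T)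
    (ha : a ∈ T) (hx1 : x ≠ 1) (ha1 : a ≠ 1) (hne : x ≠ a) (hd : d ∈ T) :
    d = 1 ∨ d = x ∨ d = a ∨ d = x * a := by
  classical
  haveI := Fintype.ofFinite T
  have hs : ({1, x, a, x * a} : Finset G) ⊆ (Finset.univ : Finset T).image Subtype.val := by
    intro g hg
    simp only [Finset.mem_insert, Finset.mem_singleton] at hg
    refine Finset.mem_image.2 ⟨⟨g, ?_⟩, Finset.mem_univ _, rfl⟩
    rcases hg with rfl | rfl | rfl | rfl
    exacts [one_mem _, hx, ha, mul_mem hx ha]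
  have hxa : (1 : G) ≠ x * a := fun e => hne (by
    have h1 := eq_inv_of_mul_eq_one_right e.symm
    rw [h1, c.inv (hT hx)])
  have h : ({1, x, a, x * a} : Finset G).card = 4 := by
    have e4 : x ≠ x * a := fun e => ha1 (left_eq_mul.1 e)
    have e5 : a ≠ x * a := fun e => hx1 (right_eq_mul.1 e)
    simp [hne, hxa, e4, e5, Ne.symm hx1, Ne.symm ha1]
  have heq := Finset.eq_of_subset_of_card_le hs (by
    rw [h, Finset.card_image_of_injective _ Subtype.val_injective, Finset.card_univ, ← Nat.card_eq_fintype_card, h4])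
  have hmem : d ∈ (Finset.univ : Finset T).image Subtype.val := Finset.mem_image.2 ⟨⟨d, hd⟩, Finset.mem_univ _, rfl⟩
  rw [← heq] at hmem
  simpa only [Finset.mem_insert, Finset.mem_singleton] using hmem

/-- The image of a subgroup of odd order normalised by `C(a) ⊓ L` is normalised by the centraliser of the image of `a`. -/
theorem image_norm {a : G} (ha : a ∈ A) (haL : a ∈ L) {R : Subgroup G}
    (hn : centralizer ({a} : Set G) ⊓ L ≤ normalizer (R : Set G)) {x : Lq L} (hx : Commute x (pr L ⟨a, haL⟩)) :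
    x ∈ normalizer (((R.subgroupOf L).map (pr L) : Subgroup (Lq L)) : Set (Lq L)) := by
  obtain ⟨g, hg, rfl⟩ := lift_commute (N := Cfsg.oddCore ↥L)
    (Nat.coprime_two_right.1 (Fusion.card_pPrimeCore_coprime 2 _)) (r := (⟨a, haL⟩ : ↥L)) (Subtype.ext (c.sq ha)) hx
  refine mem_norm fun r hr => ?_
  obtain ⟨r', hr', rfl⟩ := hr
  exact ⟨g * r' * g⁻¹, (mem_normalizer_iff.1
    (hn ⟨mem_centralizer_singleton_iff.2 (congrArg Subtype.val hg.eq), g.2⟩) _).1 (mem_subgroupOf.1 hr'),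
    by rw [map_mul, map_mul, map_inv]⟩

/-- With the second shape a subgroup of odd order centralising `A` and normalised by the centraliser of an
involution other than `w` is in the core. -/
theorem gen_le {w : G} (h : Half A L w) {a : G} (ha : a ∈ A) (ha1 : a ≠ 1) (haw : a ≠ w) {R : Subgroup G}
    (hR : R ≤ L) (hodd : Odd (Nat.card R)) (hc : ∀ r ∈ R, ∀ d ∈ A, Commute r d)
    (hn : centralizer ({a} : Set G) ⊓ L ≤ normalizer (R : Set G)) : R ≤ Ol L := by
  have hbot : (R.subgroupOf L).map (pr L) = ⊥ := by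
    refine c.gen h ha ha1 haw ?_ (fun r hr d hd => ?_) fun x hx => c.image_norm ha (h.le ha) hn hx
    · refine Odd.of_dvd_nat ?_ (Subgroup.card_map_dvd _ (pr L))
      rw [Nat.card_congr (subgroupOfEquivOfLe hR).toEquiv]
      exact hodd
    · obtain ⟨r', hr', rfl⟩ := hr
      exact (show Commute r' ⟨d, h.le hd⟩ from Subtype.ext (hc r' (mem_subgroupOf.1 hr') d hd).eq).map (pr L)
  intro r hr
  refine (mem_pr_Ol (hR hr)).1 (mem_bot.1 ?_)
  rw [← hbot]
  exact ⟨⟨r, hR hr⟩, hr, rfl⟩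

end Ctx

namespace Fam

variable {mm : G → Subgroup G} (F : Fam A mm) (c : Ctx A) (hsol : ∀ (X : Type u) [Group X] [Finite X], SEB.Sol X)
include F c hsol

/-- A member whose prime cores are centralised by its involution is the centraliser. -/
theorem member_eq {d : G} (hd : d ∈ A) (hd1 : d ≠ 1)
    (hc : ∀ s : ℕ, ∀ [Fact s.Prime], s ≠ 2 → ∀ x ∈ GW.fq s (mm d), Commute x d) :
    mm d = centralizer ({d} : Set G) := by
  have hm := F.mem d hd hd1
  have h := c.mem_half hsol hm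
  have hall : ∀ r : ℕ, r.Prime → ∀ x ∈ GW.fq r (mm d), Commute x d := by
    intro r hr x hx
    by_cases hr2 : r = 2
    · subst hr2
      rcases c.fq_two h hx with e | e <;> rw [e]
      exact Commute.one_left d
    · haveI := Fact.mk hr
      exact hc r hr2 x hx
  have hO : ∀ o ∈ Ol (mm d), Commute o d := by
    intro o ho
    obtain ⟨δ, hδ⟩ : ∃ δ, δ = o⁻¹ * (d * o * d⁻¹) := ⟨_, rfl⟩
    have hδO : δ ∈ Ol (mm d) :=
      hδ ▸ mul_mem (inv_mem ho) ((mem_normalizer_iff.1 (Ol_norm _ hm.t_mem) o).1 ho)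
    have hδF : (⟨δ, Ol_le _ hδO⟩ : ↥(mm d)) ∈ Cfsg.fittingSubgroup ↥(mm d) := by
      refine GW.centralizer_gfit_le_fit (mem_centralizer_iff.2 fun x hx => mem_centralizer_singleton_iff.1
        ((?_ : Cfsg.generalizedFittingSubgroup ↥(mm d) ≤ centralizer ({⟨δ, Ol_le _ hδO⟩} : Set ↥(mm d))) hx))
      rw [Cfsg.generalizedFittingSubgroup, sup_le_iff]
      refine ⟨fun y hy => mem_centralizer_singleton_iff.2 (Subtype.ext (El_Ol ⟨y, hy, rfl⟩ hδO).eq), fun y hy =>
        mem_centralizer_singleton_iff.2 (Subtype.ext ?_)⟩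
      haveI := Solv.fittingSubgroup_normal (G := ↥(mm d))
      have hy' : ((⟨o, Ol_le _ ho⟩ : ↥(mm d)) * y * (⟨o, Ol_le _ ho⟩ : ↥(mm d))⁻¹) ∈
          Cfsg.fittingSubgroup ↥(mm d) := (inferInstance : (Cfsg.fittingSubgroup ↥(mm d)).Normal).conj_mem y hy _
      have h1 : Commute (o * (y : G) * o⁻¹) d := commute_fit hall ⟨_, hy', rfl⟩
      have h2 : Commute (y : G) d := commute_fit hall ⟨_, hy, rfl⟩
      have e : δ * (y : G) * δ⁻¹ = y := by
        calc δ * (y : G) * δ⁻¹ = o⁻¹ * d * (o * (d⁻¹ * (y : G) * d) * o⁻¹) * d⁻¹ * o := by rw [hδ]; group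
          _ = o⁻¹ * (d * (o * (y : G) * o⁻¹) * d⁻¹) * o := by
            rw [show d⁻¹ * (y : G) * d = y by rw [mul_assoc, h2.eq, inv_mul_cancel_left]]; group
          _ = y := by rw [← h1.eq, mul_inv_cancel_right]; group
      exact (mul_inv_eq_iff_eq_mul.1 e).symm
    have hδd : Commute δ d := commute_fit hall ⟨_, hδF, rfl⟩
    have h1 : d * o * d⁻¹ = o * δ := by rw [hδ]; group
    have hδ1 : δ * δ = 1 := by
      have h2 : d * (d * o * d⁻¹) * d⁻¹ = o * (δ * δ) := by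
        rw [h1, show d * (o * δ) * d⁻¹ = d * o * d⁻¹ * (d * δ * d⁻¹) by group, h1, ← hδd.eq, mul_inv_cancel_right,
          mul_assoc]
      rw [show d * (d * o * d⁻¹) * d⁻¹ = (d * d) * o * (d * d)⁻¹ by group, c.sq hd, one_mul, inv_one, mul_one] at h2
      exact left_eq_mul.1 h2
    rw [eq_one_of_sq_of_odd hδ1 (orderOf_odd (Ol_odd _) hδO), mul_one, mul_inv_eq_iff_eq_mul] at h1
    exact h1.symm
  refine le_antisymm (fun g hg => ?_) hm.cent
  obtain ⟨o, ho, x, hx, rfl⟩ := c.mem_split hsol hm hg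
  exact (centralizer ({d} : Set G)).mul_mem (mem_centralizer_singleton_iff.2 (hO o ho).eq) hx

/-- With a layer the cores are trivial. -/
theorem core_layer (hmm : ∀ d ∈ A, d ≠ 1 → mm d = centralizer ({d} : Set G)) (ht : t ∈ A) (ht1 : t ≠ 1)
    (hE : El (mm t) ≠ ⊥) : Ol (mm t) = ⊥ := by
  by_contra hO
  haveI := c.simple
  obtain ⟨u, hu, -, hu1⟩ := exists_third (c.V_card ht ht1) 1
  have huA := V_le A t hu
  have hut : u ≠ t := fun e => c.not_mem_V ht ht1 (e ▸ hu)
  have hcA : ∀ d ∈ A, d ≠ 1 → ∀ o ∈ Ol (mm d), ∀ a ∈ A, Commute o a := by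
    intro d hd hd1 o ho a ha
    have h := c.mem_half hsol (F.mem d hd hd1)
    have hV : ∀ x ∈ V A d, Commute o x := fun x hx =>
      (c.tr_Ol h.toBase (F.El_ne c ht ht1 hd hd1 hE) ((c.tr_eq_V h).ge hx) ho).symm
    have hod : Commute o d := mem_centralizer_singleton_iff.1 (hmm d hd hd1 ▸ Ol_le _ ho)
    rcases c.V_split hd hd1 ha with h' | h'
    · exact hV a h'
    · have := hod.inv_right.mul_right (hV _ h')
      rwa [inv_mul_cancel_left] at this
  have key : ∀ d ∈ A, d ≠ 1 → ∀ e ∈ A, e ≠ 1 → d ≠ e → Ol (mm d) ≤ Ol (mm e) := by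
    intro d hd hd1 e he he1 hde
    have hle : Ol (mm d) ≤ mm e := fun o ho =>
      (F.mem e he he1).cent (mem_centralizer_singleton_iff.2 (hcA d hd hd1 o ho e he).eq)
    exact c.gen_le (c.mem_half hsol (F.mem e he he1)) hd hd1 hde hle (Ol_odd _) (hcA d hd hd1)
      (inf_le_left.trans ((F.mem d hd hd1).cent.trans (Ol_norm _)))
  have heq : Ol (mm t) = Ol (mm u) := le_antisymm (key t ht ht1 u huA hu1 hut.symm) (key u huA hu1 t ht ht1 hut)
  have hmt := F.mem t ht ht1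
  have hmu := F.mem u huA hu1
  have hne : normalizer (Ol (mm t) : Set G) ≠ ⊤ :=
    c.norm_ne_top hO fun e => hmt.coatom.1 (top_le_iff.1 (e ▸ Ol_le _))
  have h1 : mm t = normalizer (Ol (mm t) : Set G) :=
    (Ol_norm _).eq_or_lt.resolve_right fun hlt => hne (hmt.coatom.2 _ hlt)
  have h2 : mm u ≤ mm t := by rw [h1, heq]; exact Ol_norm _
  exact hut.symm (F.inj c hsol ht ht1 huA hu1 (h2.eq_or_lt.resolve_right fun hlt => hmt.coatom.1 (hmu.coatom.2 _ hlt)).symm)

/-- A prime absent from the members gives no part centralised by `d`. -/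
theorem no_part (hlay : ∀ d ∈ A, d ≠ 1 → El (mm d) = ⊥) {q : ℕ} [Fact q.Prime] (hq2 : q ≠ 2) {d : G} (hd : d ∈ A)
    (hd1 : d ≠ 1) (h0 : Cfsg.pCore q ↥(mm d) = ⊥) (ht : t ∈ A) {W : Subgroup G} (hW : IsPGroup q W)
    (hn : centralizer ({t} : Set G) ⊓ centralizer ({d} : Set G) ≤ normalizer (W : Set G))
    (hmm : mm d = centralizer ({d} : Set G)) {w : G} (hw : w ∈ W) (hinv : t * w * t⁻¹ = w⁻¹) (hwd : Commute w d) :
    w = 1 := by
  haveI := c.simple
  have hm := F.mem d hd hd1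
  have hwM : w ∈ mm d := hm.cent (mem_centralizer_singleton_iff.2 hwd.eq)
  have htM : t ∈ mm d := hm.le c ht
  have hF : (⟨w, hwM⟩ : ↥(mm d)) ∈ Cfsg.fittingSubgroup ↥(mm d) := by
    refine GW.fit_self_centralizing (El_eq_bot.1 (hlay d hd hd1)) (mem_centralizer_iff.2 fun y hy =>
      mem_centralizer_singleton_iff.1 ((?_ : Cfsg.fittingSubgroup ↥(mm d) ≤
        centralizer ({⟨w, hwM⟩} : Set ↥(mm d))) hy))
    rw [Solv.fitting_eq_iSup_pCore, iSup_le_iff]
    rintro ⟨p, hp⟩ y hy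
    refine mem_centralizer_singleton_iff.2 ?_
    show y * ⟨w, hwM⟩ = ⟨w, hwM⟩ * y
    by_cases hp2 : p = 2
    · subst hp2
      rcases c.fq_two (c.mem_half hsol hm) (x := (y : G)) ⟨y, hy, rfl⟩ with e | e
      · refine Subtype.ext ?_
        show (y : G) * w = w * y
        rw [e, one_mul, mul_one]
      · refine Subtype.ext ?_
        show (y : G) * w = w * y
        rw [e, hwd.eq]
    haveI := Fact.mk hp
    by_cases hpq : p = q
    · subst hpq
      have hy' : y ∈ (⊥ : Subgroup ↥(mm d)) := h0 ▸ hy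
      rw [mem_bot] at hy'
      rw [hy', one_mul, mul_one]
    obtain ⟨k, hk⟩ := pgroup_orderOf hW hw
    refine mem_centralizer_iff.1 (GW.centralizes_core (q := q) hp2 hpq (w := (⟨t, htM⟩ : ↥(mm d)))
      (Subtype.ext (c.sq ht)) (Subtype.ext hinv) ⟨k, (Subgroup.orderOf_mk w hwM).trans hk⟩ hq2 fun v hv hvt => ?_) y hy
    have hvt' : Commute (v : G) t := (mul_inv_eq_iff_eq_mul.1 (congrArg Subtype.val hvt)).symm
    have hvd : (v : G) ∈ centralizer ({d} : Set G) := hmm ▸ v.2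
    have hvN := hn ⟨mem_centralizer_singleton_iff.2 hvt'.eq, hvd⟩
    have hcW : w * (v : G) * w⁻¹ * (v : G)⁻¹ ∈ W := by
      rw [mul_assoc, mul_assoc, ← mul_assoc (v : G)]
      exact mul_mem hw ((mem_normalizer_iff.1 hvN _).1 (inv_mem hw))
    have hcp : w * (v : G) * w⁻¹ * (v : G)⁻¹ ∈ GW.fq p (mm d) :=
      mul_mem ((mem_normalizer_iff.1 (fq_norm p _ hwM) _).1 ⟨v, hv, rfl⟩) (inv_mem ⟨v, hv, rfl⟩)
    have h1 := GW.eq_one_of_two_primes hpq (fq_pgroup p (mm d)) hW hcp hcW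
    rw [mul_inv_eq_one, mul_inv_eq_iff_eq_mul] at h1
    exact Subtype.ext h1
  obtain ⟨k, hk⟩ := pgroup_orderOf hW hw
  have h1 : zpowers (⟨w, hwM⟩ : ↥(mm d)) ≤ Cfsg.pCore q ↥(mm d) :=
    Solv.pgroup_le_pCore_of_le_fitting (IsPGroup.of_card (n := k) (by rw [Nat.card_zpowers, Subgroup.orderOf_mk, hk]))
      (zpowers_le.2 hF)
  rw [h0, le_bot_iff, zpowers_eq_bot] at h1
  exact congrArg Subtype.val h1

/-- Without layer some prime core has a centraliser not normalised inside the member. -/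
theorem exists_part (hmm : ∀ d ∈ A, d ≠ 1 → mm d = centralizer ({d} : Set G)) (ht : t ∈ A) (ht1 : t ≠ 1)
    (hE : El (mm t) = ⊥) :
    ∃ r : ℕ, r.Prime ∧ r ≠ 2 ∧ ∃ u ∈ V A t, u ≠ 1 ∧ ∃ v ∈ V A t,
      (∃ y ∈ GW.fq r (mm t) ⊓ centralizer ({u} : Set G), ¬ Commute y v) ∧
      ¬ normalizer ((GW.fq r (mm t) ⊓ centralizer ({u} : Set G) : Subgroup G) : Set G) ≤ mm t := by
  haveI := c.simple
  have hmt := F.mem t ht ht1
  have h := c.mem_half hsol hmt
  obtain ⟨r, hr, hr2, hmv⟩ : ∃ r : ℕ, r.Prime ∧ r ≠ 2 ∧ ∃ x ∈ GW.fq r (mm t), ∃ v ∈ V A t, ¬ Commute x v := by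
    by_contra hno
    push Not at hno
    obtain ⟨v, hv, -, hv1⟩ := exists_third (c.V_card ht ht1) 1
    have hvA := V_le A t hv
    have hvM := hmt.le c hvA
    have hvF : (⟨v, hvM⟩ : ↥(mm t)) ∈ Cfsg.fittingSubgroup ↥(mm t) := by
      refine GW.fit_self_centralizing (El_eq_bot.1 hE) (mem_centralizer_iff.2 fun y hy => Subtype.ext ?_)
      refine (commute_fit (M := mm t) (d := v) (fun p hp x hx => ?_) ⟨y, hy, rfl⟩).eq
      by_cases hp2 : p = 2
      · subst hp2
        exact c.comm (c.fq_two_le (hmt.le c) hx) hvA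
      · exact hno p hp hp2 x hx v hv
    haveI : Fact (Nat.Prime 2) := ⟨Nat.prime_two⟩
    have hv2 : v ∈ GW.fq 2 (mm t) := ⟨⟨v, hvM⟩, Solv.pgroup_le_pCore_of_le_fitting
      (IsPGroup.of_card (n := 1) (by rw [Nat.card_zpowers, Subgroup.orderOf_mk, c.order hvA hv1, pow_one]))
      (zpowers_le.2 hvF) (mem_zpowers _), rfl⟩
    rcases c.fq_two h hv2 with e | e
    · exact hv1 e
    · exact c.not_mem_V ht ht1 (e ▸ hv)
  haveI := Fact.mk hr
  have hQodd := pgroup_odd hr2 (fq_pgroup r (mm t))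
  have hAQ : A ≤ normalizer (GW.fq r (mm t) : Set G) := (hmt.le c).trans (fq_norm r _)
  obtain ⟨u, hu, hu1, v, hv, y, hy, hyv⟩ : ∃ u ∈ V A t, u ≠ 1 ∧ ∃ v ∈ V A t,
      ∃ y ∈ GW.fq r (mm t) ⊓ centralizer ({u} : Set G), ¬ Commute y v := by
    by_contra hno
    push Not at hno
    obtain ⟨x, hx, a, ha, hxa⟩ := hmv
    have ha1 : a ≠ 1 := fun e => hxa (e ▸ Commute.one_right x)
    have haA := V_le A t ha
    obtain ⟨b, hb, hba, hb1⟩ := exists_third (c.V_card ht ht1) a
    have hab : a * b ≠ 1 := fun e => hba (by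
      have := eq_inv_of_mul_eq_one_right e
      rwa [c.inv haA] at this)
    have hbA := V_le A t hb
    exact hxa (mem_centralizer_singleton_iff.1 (GW.four_gen (c.sq haA) (c.sq hbA) (c.comm haA hbA) ha1 hb1 hba hQodd
      (hAQ haA) (hAQ hbA) (fun z hz hzb => hno b hb hb1 a ha z ⟨hz, mem_centralizer_singleton_iff.2 hzb.eq⟩)
      (fun z hz hzab => hno (a * b) (mul_mem ha hb) hab a ha z ⟨hz, mem_centralizer_singleton_iff.2 hzab.eq⟩) hx))
  refine ⟨r, hr, hr2, u, hu, hu1, v, hv, ⟨y, hy, hyv⟩, fun hN => ?_⟩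
  have huA := V_le A t hu
  have hmu := F.mem u huA hu1
  have hv1 : v ≠ 1 := fun e => hyv (e ▸ Commute.one_right y)
  have htQ : ∀ x ∈ GW.fq r (mm t), Commute x t := fun x hx =>
    mem_centralizer_singleton_iff.1 (hmm t ht ht1 ▸ fq_le r _ hx)
  have hCA : ∀ a ∈ A, (∀ x ∈ GW.fq r (mm t), Commute x a) → a = 1 ∨ a = t := by
    intro a ha hax
    have key : ∀ v' ∈ V A t, (∀ x ∈ GW.fq r (mm t), Commute x v') → v' = 1 := by
      intro v' hv' hx'
      by_contra hv'1
      obtain ⟨n, -, hnt, he⟩ := c.V_trans ht ht1 hv' hv'1 hv hv1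
      have hnQ := fq_norm r _ (hmt.cent (mem_centralizer_singleton_iff.2 hnt))
      obtain ⟨x, hx⟩ : ∃ x, x = n⁻¹ * y * n := ⟨_, rfl⟩
      have hxQ : x ∈ GW.fq r (mm t) := by
        rw [hx]
        simpa using (mem_normalizer_iff.1 (inv_mem hnQ) y).1 hy.1
      refine hyv ?_
      rw [← he, show y = n * x * n⁻¹ by rw [hx]; group]
      exact (Commute.conj_iff n).2 (hx' x hxQ)
    rcases c.V_split ht ht1 ha with h' | h'
    · exact Or.inl (key a h' hax)
    · refine Or.inr ?_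
      have h1 := key _ h' fun x hx => (htQ x hx).mul_right (hax x hx)
      have h2 := eq_inv_of_mul_eq_one_right h1
      rwa [c.inv ht] at h2
  have htc : t ∈ centralizer (GW.fq r (mm u) : Set G) := by
    refine Fusion.mem_centralizer_of_AB (p := r) (T := GW.fq r (mm t) ⊓ centralizer ({u} : Set G))
      (fq_pgroup r _) ((fq_pgroup r _).to_le inf_le_left) ((inf_le_right.trans hmu.cent).trans (fq_norm r _))
      (fq_norm r _ (hmu.le c ht)) (fun z hz => (htQ z hz.1).eq.symm) ?_ fun q _ hqT => ?_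
    · rw [c.order ht ht1]
      exact (Nat.coprime_primes Nat.prime_two hr).2 (Ne.symm hr2)
    · have hqM := hN (centralizer_le_normalizer _ (mem_centralizer_iff.2 fun z hz => (hqT z hz).symm))
      rw [hmm t ht ht1] at hqM
      exact (mem_centralizer_singleton_iff.1 hqM).symm
  obtain ⟨g, hgN, hgu, -⟩ := F.conj_of c ht ht1 huA hu1
  have hga : g⁻¹ * t * g ∈ A := by simpa using (mem_normalizer_iff.1 (inv_mem hgN) t).1 ht
  have hcomm : ∀ x ∈ GW.fq r (mm t), Commute x (g⁻¹ * t * g) := by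
    intro x hx
    have hgx : g * x * g⁻¹ ∈ GW.fq r (mm u) := by
      rw [← hgu, F.fq_conj c ht ht1 (hgu ▸ huA) r]
      exact ⟨x, hx, rfl⟩
    refine (Commute.conj_iff g).1 ?_
    rw [show g * (g⁻¹ * t * g) * g⁻¹ = t by group]
    exact mem_centralizer_iff.1 htc _ hgx
  rcases hCA _ hga hcomm with e | e
  · refine ht1 ?_
    rw [show t = g * (g⁻¹ * t * g) * g⁻¹ by group, e]
    group
  · refine c.not_mem_V ht ht1 ?_
    suffices h' : u = t by exact h' ▸ hu
    rw [← hgu]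
    nth_rw 1 [← e]
    group

/-- Without layer the cores are trivial. -/
theorem core_nolayer (hmm : ∀ d ∈ A, d ≠ 1 → mm d = centralizer ({d} : Set G)) (ht : t ∈ A) (ht1 : t ≠ 1)
    (hE : El (mm t) = ⊥) : False := by
  haveI := c.simple
  have hG := c.min.nonab
  obtain ⟨r, hr, hr2, u, hu, hu1, v, hv, ⟨y₀, hy₀, hyv⟩, hnle⟩ := F.exists_part c hsol hmm ht ht1 hE
  haveI := Fact.mk hr
  have huA := V_le A t hu
  have hvA := V_le A t hv
  have hmt := F.mem t ht ht1
  have hhalf := c.mem_half hsol hmt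
  have hlay : ∀ d ∈ A, d ≠ 1 → El (mm d) = ⊥ := fun d hd hd1 => by_contra fun h => F.El_ne c hd hd1 ht ht1 h hE
  obtain ⟨Y, hY⟩ : ∃ Y, Y = GW.fq r (mm t) ⊓ centralizer ({u} : Set G) := ⟨_, rfl⟩
  rw [← hY] at hy₀ hnle
  have hYQ : Y ≤ GW.fq r (mm t) := hY ▸ inf_le_left
  have hY1 : Y ≠ ⊥ := fun e => by
    rw [e, mem_bot] at hy₀
    exact hyv (hy₀ ▸ Commute.one_left v)
  have hYn : centralizer ({t} : Set G) ⊓ centralizer ({u} : Set G) ≤ normalizer (Y : Set G) := by
    intro g hg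
    rw [hY]
    exact mem_norm fun x hx => ⟨(mem_normalizer_iff.1 (fq_norm r _ (hmt.cent hg.1)) x).1 hx.1,
      (centralizer ({u} : Set G)).mul_mem ((centralizer ({u} : Set G)).mul_mem hg.2 hx.2)
        ((centralizer ({u} : Set G)).inv_mem hg.2)⟩
  obtain ⟨L, hL, hle⟩ := c.exists_coatom (c.norm_ne_top hY1 fun e => hmt.coatom.1
    (top_le_iff.1 (e ▸ hYQ.trans (fq_le r _))))
  have hAL : A ≤ L := ((le_inf (c.le_cent ht) (c.le_cent huA)).trans hYn).trans hle
  have hLM : L ≠ mm t := fun e => hnle (e ▸ hle)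
  have hlead : Cfsg.leadsTo (mm t) L := ⟨Y, hY1, hYQ.trans (fq_le_fit _), inf_le_right.trans hle⟩
  have hfacts := BenderUniq.facts hG (mm t) L hmt.coatom hlead
  have htwo : Cfsg.pCore 2 ↥(mm t) ≠ ⊥ := by
    haveI : Fact (Nat.Prime 2) := ⟨Nat.prime_two⟩
    intro h0
    haveI : (zpowers (⟨t, hmt.t_mem⟩ : ↥(mm t))).Normal := by
      refine ⟨fun x hx g => ?_⟩
      obtain ⟨i, rfl⟩ := mem_zpowers_iff.1 hx
      rw [← conj_zpow, show g * ⟨t, hmt.t_mem⟩ * g⁻¹ = (⟨t, hmt.t_mem⟩ : ↥(mm t)) from Subtype.ext (by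
        show (g : G) * t * (g : G)⁻¹ = t
        rw [mem_centralizer_singleton_iff.1 (show (g : G) ∈ centralizer ({t} : Set G) from hmm t ht ht1 ▸ g.2),
          mul_inv_cancel_right])]
      exact zpow_mem (mem_zpowers _) i
    have h1 : zpowers (⟨t, hmt.t_mem⟩ : ↥(mm t)) ≤ Cfsg.pCore 2 ↥(mm t) :=
      Fusion.le_pCore (IsPGroup.of_card (n := 1) (by rw [Nat.card_zpowers, Subgroup.orderOf_mk, c.order ht ht1, pow_one]))
    rw [h0, le_bot_iff, zpowers_eq_bot] at h1
    exact ht1 (congrArg Subtype.val h1)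
  have hrne : Cfsg.pCore r ↥(mm t) ≠ ⊥ := fun h0 => hY1 (le_bot_iff.1 (hYQ.trans (fq_eq_bot.2 h0).le))
  have hparts : ∀ q : ℕ, q.Prime → Cfsg.pCore q ↥(mm t) = ⊥ → GW.fq q L = ⊥ := by
    intro q hq h0
    haveI := Fact.mk hq
    have hq2 : q ≠ 2 := fun e => htwo (e ▸ h0)
    have hint : GW.fq q L ⊓ mm t = ⊥ := hfacts.2.2.1 q hq h0
    have hinvt : ∀ w ∈ GW.fq q L, t * w * t⁻¹ = w⁻¹ := GW.inverts (c.sq ht) (fq_norm q L (hAL ht))
      fun w hw hwt => mem_bot.1 (hint ▸ ⟨hw, hmt.cent (mem_centralizer_singleton_iff.2 hwt.eq)⟩)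
    have hfix : ∀ d ∈ A, d ≠ 1 → centralizer ({t} : Set G) ⊓ centralizer ({d} : Set G) ≤ L →
        ∀ w ∈ GW.fq q L, Commute w d → w = 1 := fun d hd hd1 hdL w hw hwd =>
      F.no_part c hsol hlay hq2 hd hd1 ((F.pCore_iff c ht ht1 hd hd1 hq).1 h0) ht (fq_pgroup q L)
        (hdL.trans (fq_norm q L)) (hmm d hd hd1) hw (hinvt w hw) hwd
    have hinvu : ∀ w ∈ GW.fq q L, u * w * u⁻¹ = w⁻¹ :=
      GW.inverts (c.sq huA) (fq_norm q L (hAL huA)) fun w hw hwu => hfix u huA hu1 (hYn.trans hle) w hw hwu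
    have htu1 : t * u ≠ 1 := fun e => c.not_mem_V ht ht1 (by
      have h1 := eq_inv_of_mul_eq_one_right e
      rw [c.inv ht] at h1
      exact h1 ▸ hu)
    refine (Subgroup.eq_bot_iff_forall _).2 fun w hw => hfix (t * u) (A.mul_mem ht huA) htu1 ?_ w hw ?_
    · intro g hg
      refine (hYn.trans hle) ⟨hg.1, mem_centralizer_singleton_iff.2 ?_⟩
      have h1 : Commute g (t⁻¹ * (t * u)) := (show Commute g t from mem_centralizer_singleton_iff.1 hg.1).inv_right.mul_right
        (mem_centralizer_singleton_iff.1 hg.2)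
      rw [inv_mul_cancel_left] at h1
      exact h1.eq
    · refine (mul_inv_eq_iff_eq_mul.1 ?_).symm
      rw [show t * u * w * (t * u)⁻¹ = t * (u * w * u⁻¹) * t⁻¹ by group, hinvu w hw, hinvt _ (inv_mem hw), inv_inv]
  have hFle : (Cfsg.fittingSubgroup ↥L).map L.subtype ≤ mm t := fit_le fun p hp => by
    by_cases h0 : Cfsg.pCore p ↥(mm t) = ⊥
    · exact (hparts p hp h0).le.trans bot_le
    by_cases hp2 : p = 2
    · subst hp2
      exact (c.fq_two_le hAL).trans (hmt.le c)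
    exact (hfacts.2.2.2 p hp h0 _ (Or.inr ⟨2, Nat.prime_two, Ne.symm hp2, rfl⟩)).2 htwo
  have hnoE : ¬ El L ≤ mm t := by
    intro hEL
    have hg := gfit_le hEL hFle
    by_cases hb : (Cfsg.fittingSubgroup ↥L).map L.subtype = ⊥
    · have htF : (⟨t, hAL ht⟩ : ↥L) ∈ Cfsg.fittingSubgroup ↥L :=
        GW.centralizer_gfit_le_fit (mem_centralizer_iff.2 fun z hz => Subtype.ext
          (mem_centralizer_singleton_iff.1 (show (z : G) ∈ centralizer ({t} : Set G) from
            hmm t ht ht1 ▸ hg ⟨z, hz, rfl⟩)))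
      have h1 : t ∈ (Cfsg.fittingSubgroup ↥L).map L.subtype := ⟨_, htF, rfl⟩
      rw [hb, mem_bot] at h1
      exact ht1 h1
    · rcases pair hG (mm t) L hmt.coatom hL hlead ⟨_, hb, le_rfl, inf_le_left.trans hg⟩ with h | ⟨p, hp, hpg, -⟩
      · exact hLM h.symm
      · exact not_pgroup Nat.prime_two hr (Ne.symm hr2) htwo hrne ⟨p, hp, hpg⟩
  have hEne : El L ≠ ⊥ := fun h => hnoE (h ▸ bot_le)
  rcases c.shapes hAL hL.1 hEne with hf | ⟨w, hw⟩
  · -- an element of `Y` inverted by `v`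
    obtain ⟨δ, hδ⟩ : ∃ δ, δ = y₀⁻¹ * (v * y₀ * v⁻¹) := ⟨_, rfl⟩
    have hvY : v ∈ normalizer (Y : Set G) := hYn ⟨c.le_cent ht hvA, c.le_cent huA hvA⟩
    have hδY : δ ∈ Y := hδ ▸ mul_mem (inv_mem hy₀) ((mem_normalizer_iff.1 hvY y₀).1 hy₀)
    have hδo : Odd (orderOf δ) := orderOf_odd (pgroup_odd hr2 (fq_pgroup r (mm t))) (hYQ hδY)
    have hδ1 : δ ≠ 1 := fun e => hyv (by
      rw [hδ, inv_mul_eq_one, eq_mul_inv_iff_mul_eq] at e
      exact e)
    have hδinv : v * δ * v⁻¹ = δ⁻¹ := by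
      rw [hδ, show v * (y₀⁻¹ * (v * y₀ * v⁻¹)) * v⁻¹ = v * y₀⁻¹ * v * y₀ * (v * v)⁻¹ by group, c.sq hvA, inv_one,
        mul_one, mul_inv_rev, mul_inv_rev, mul_inv_rev, inv_inv, inv_inv, c.inv hvA]
      group
    have hYL : Y ≤ L := le_normalizer.trans hle
    obtain ⟨R, hR⟩ : ∃ R, R = ((GW.fq r (mm t) ⊓ L).subgroupOf L).map (pr L) ⊓ KK L := ⟨_, rfl⟩
    have hbot : R = ⊥ := by
      refine c.small hf ht ht1 (hR ▸ inf_le_right) (fun x hx => ?_) (fun k hk hkt => ?_)
        (odd_of_le (hR ▸ inf_le_left) ?_)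
      · rw [hR] at hx
        obtain ⟨⟨x', hx', rfl⟩, -⟩ := hx
        exact (show Commute x' ⟨t, hf.le ht⟩ from Subtype.ext (mem_centralizer_singleton_iff.1
          (hmm t ht ht1 ▸ fq_le r _ (mem_subgroupOf.1 hx').1))).map (pr L)
      · rw [hR]
        haveI := hf.normal
        refine mem_norm fun x hx => ⟨(mem_normalizer_iff.1 (c.image_norm ht (hAL ht) (fun g hg => ?_) hkt) x).1 hx.1,
          hf.normal.conj_mem _ hx.2 _⟩
        exact mem_norm fun z hz => ⟨(mem_normalizer_iff.1 (fq_norm r _ (hmt.cent hg.1)) z).1 hz.1,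
          L.mul_mem (L.mul_mem hg.2 hz.2) (L.inv_mem hg.2)⟩
      · refine Odd.of_dvd_nat ?_ (Subgroup.card_map_dvd _ (pr L))
        rw [Nat.card_congr (subgroupOfEquivOfLe inf_le_right).toEquiv]
        exact odd_of_le inf_le_left (pgroup_odd hr2 (fq_pgroup r _))
    have hvK := ((mem_tr (hAL hvA)).1 (hf.eq hvA)).1
    have h1 : pr L ⟨δ, hYL hδY⟩ ∈ R := by
      rw [hR]
      refine ⟨⟨⟨δ, hYL hδY⟩, ⟨hYQ hδY, hYL hδY⟩, rfl⟩, ?_⟩
      have e : (⟨δ, hYL hδY⟩ : ↥L) = ((⟨y₀, hYL hy₀⟩ : ↥L)⁻¹ * ⟨v, hAL hvA⟩ * (⟨y₀, hYL hy₀⟩ : ↥L)⁻¹⁻¹) *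
          (⟨v, hAL hvA⟩ : ↥L)⁻¹ := Subtype.ext (by
        show δ = y₀⁻¹ * v * y₀⁻¹⁻¹ * v⁻¹
        rw [hδ]; group)
      rw [e, map_mul, map_mul, map_mul, map_inv, map_inv, map_inv]
      exact mul_mem (hf.normal.conj_mem _ hvK _) (inv_mem hvK)
    rw [hbot, mem_bot] at h1
    have h2 := c.tr_Ol hf.toBase hEne (hf.eq hvA) ((mem_pr_Ol (hYL hδY)).1 h1)
    rw [h2.eq, mul_inv_cancel_right] at hδinv
    exact hδ1 (eq_one_of_inv_eq hδinv.symm hδo)
  · have hwt : t ≠ w := fun e => hnoE (e ▸ (c.El_le_cent hw).trans (F.mem w hw.mem hw.ne).cent)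
    obtain ⟨Z, hZ⟩ : ∃ Z, Z = GW.fq r (mm t) ⊓ centralizer (GW.fq r (mm t) : Set G) := ⟨_, rfl⟩
    have hZQ : Z ≤ GW.fq r (mm t) := hZ ▸ inf_le_left
    have hZodd : Odd (Nat.card Z) := odd_of_le hZQ (pgroup_odd hr2 (fq_pgroup r _))
    have hZL : Z ≤ L := (hZ ▸ inf_le_right : Z ≤ centralizer (GW.fq r (mm t) : Set G)).trans
      ((centralizer_le (SetLike.coe_subset_coe.2 hYQ)).trans ((centralizer_le_normalizer _).trans hle))
    have hZn : mm t ≤ normalizer (Z : Set G) := by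
      intro g hg
      rw [hZ]
      refine mem_norm fun x hx => ⟨(mem_normalizer_iff.1 (fq_norm r _ hg) x).1 hx.1, mem_centralizer_iff.2 fun z hz => ?_⟩
      have h1 : g⁻¹ * z * g ∈ GW.fq r (mm t) := by
        simpa using (mem_normalizer_iff.1 (inv_mem (fq_norm r _ hg)) z).1 hz
      have h2 := mem_centralizer_iff.1 hx.2 _ h1
      calc z * (g * x * g⁻¹) = g * ((g⁻¹ * z * g) * x) * g⁻¹ := by group
        _ = g * x * g⁻¹ * z := by rw [h2]; group
    have hZne : Z ≠ ⊥ := by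
      haveI : Nontrivial ↥(GW.fq r (mm t)) :=
        (Subgroup.nontrivial_iff_ne_bot _).2 fun e => hrne (fq_eq_bot.1 e)
      haveI := (fq_pgroup r (mm t)).center_nontrivial
      obtain ⟨z, hz⟩ := exists_ne (1 : center ↥(GW.fq r (mm t)))
      refine fun e => hz (Subtype.ext (Subtype.ext (mem_bot.1 (e ▸ hZ ▸ (⟨z.1.2, mem_centralizer_iff.2 fun x hx =>
        congrArg Subtype.val (mem_center_iff.1 z.2 ⟨x, hx⟩)⟩ : (z.1 : G) ∈ GW.fq r (mm t) ⊓ _)))))
    have hZt : ∀ z ∈ Z, Commute z t := fun z hz =>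
      mem_centralizer_singleton_iff.1 (hmm t ht ht1 ▸ fq_le r _ (hZQ hz))
    have hfixZ : ∀ x ∈ V A t, x ≠ 1 → ∀ z ∈ Z, Commute z x → ∀ a ∈ V A t, Commute z a := by
      by_contra hno
      push Not at hno
      obtain ⟨x₀, hx₀, hx₀1, z₀, hz₀, hzx, a₀, ha₀, hza⟩ := hno
      -- every involution of the four group fixes a moved element
      have hall : ∀ x ∈ V A t, x ≠ 1 → ∃ z ∈ Z, Commute z x ∧ ∃ a ∈ V A t, ¬ Commute z a := by
        intro x hx hx1
        obtain ⟨n, hnN, hnt, he⟩ := c.V_trans ht ht1 hx₀ hx₀1 hx hx1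
        have hnM := hmt.cent (mem_centralizer_singleton_iff.2 hnt)
        refine ⟨n * z₀ * n⁻¹, (mem_normalizer_iff.1 (hZn hnM) z₀).1 hz₀, he ▸ (Commute.conj_iff n).2 hzx,
          n * a₀ * n⁻¹, ?_, fun h => hza ((Commute.conj_iff n).1 h)⟩
        have h2 : n * a₀ * n⁻¹ ∈ (V A t).map (MulAut.conj n).toMonoidHom := ⟨a₀, ha₀, rfl⟩
        rwa [c.V_map hnN, hnt, mul_inv_cancel_right] at h2
      obtain ⟨w', hw'V, hw'eq⟩ : ∃ w' ∈ V A t, w = w' ∨ w = t * w' := by
        rcases c.V_split ht ht1 hw.mem with h | h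
        · exact ⟨w, h, Or.inl rfl⟩
        · exact ⟨t * w, h, Or.inr (by rw [← mul_assoc, c.sq ht, one_mul])⟩
      have hw'1 : w' ≠ 1 := fun e => by
        rcases hw'eq with h | h
        · exact hw.ne (h.trans e)
        · exact hwt (by rw [h, e, mul_one])
      have key : ∀ x ∈ V A t, x ≠ 1 → x ≠ w' → ∀ b ∈ tr L A, ∀ b' ∈ V A t, (b' = b ∨ b' = t * b) →
          b' = 1 ∨ b' = x := by
        intro x hx hx1 hxw b hb b' hb' hb''
        obtain ⟨z, hz, hzx, a, ha, hza⟩ := hall x hx hx1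
        have haA := V_le A t ha
        have hxA := V_le A t hx
        obtain ⟨ε, hε⟩ : ∃ ε, ε = z⁻¹ * (a * z * a⁻¹) := ⟨_, rfl⟩
        have hεZ : ε ∈ Z := hε ▸ mul_mem (inv_mem hz) ((mem_normalizer_iff.1 (hZn (hmt.le c haA)) z).1 hz)
        have hεx : Commute ε x := by
          rw [hε]
          exact hzx.inv_left.mul_left (((c.comm haA hxA).mul_left hzx).mul_left (c.comm haA hxA).inv_left)
        have hε1 : ε ≠ 1 := fun e => hza (by
          rw [hε, inv_mul_eq_one, eq_mul_inv_iff_mul_eq] at e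
          exact e)
        have hεinv : a * ε * a⁻¹ = ε⁻¹ := by
          rw [hε, show a * (z⁻¹ * (a * z * a⁻¹)) * a⁻¹ = a * z⁻¹ * a * z * (a * a)⁻¹ by group, c.sq haA, inv_one,
            mul_one, mul_inv_rev, mul_inv_rev, mul_inv_rev, inv_inv, inv_inv, c.inv haA]
          group
        have hinv : ∀ d ∈ V A t, d = 1 ∨ d = x ∨ d * ε * d⁻¹ = ε⁻¹ := by
          intro d hd
          rcases c.four_cases (V_le A t) (c.V_card ht ht1) hx ha hx1 (fun e => hza (e ▸ Commute.one_right z))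
            (fun e => hza (by rw [← e]; exact hzx)) hd with e | e | e | e <;> rw [e]
          · exact Or.inl rfl
          · exact Or.inr (Or.inl rfl)
          · exact Or.inr (Or.inr hεinv)
          · refine Or.inr (Or.inr ?_)
            rw [show x * a * ε * (x * a)⁻¹ = x * (a * ε * a⁻¹) * x⁻¹ by group, hεinv, hεx.inv_left.eq.symm,
              mul_inv_cancel_right]
        have hεodd : Odd (orderOf ε) := orderOf_odd hZodd hεZ
        have hεL := hZL hεZ
        have hwε : w * ε * w⁻¹ = ε⁻¹ := by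
          rcases hinv w' hw'V with e | e | e
          · exact absurd e hw'1
          · exact absurd e.symm hxw
          rcases hw'eq with h | h <;> rw [h]
          · exact e
          · rw [show t * w' * ε * (t * w')⁻¹ = t * (w' * ε * w'⁻¹) * t⁻¹ by group, e,
              ((hZt ε hεZ).inv_left).eq.symm, mul_inv_cancel_right]
        have hεO : ε ∈ Ol L := by
          obtain ⟨η, hη⟩ : ∃ η, η = pr L ⟨ε, hεL⟩ := ⟨_, rfl⟩
          have h1 : η⁻¹ = pr L ⟨w, hw.w_mem⟩ * η * (pr L ⟨w, hw.w_mem⟩)⁻¹ := by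
            rw [hη, ← map_inv, ← map_mul, ← map_inv, ← map_mul]
            exact congrArg _ (Subtype.ext hwε.symm)
          rw [← mem_center_iff.1 hw.wcent η, mul_inv_cancel_right] at h1
          have h2 := eq_one_of_inv_eq h1
            (hη ▸ hεodd.of_dvd_nat ((orderOf_map_dvd (pr L) _).trans (dvd_of_eq (Subgroup.orderOf_mk ε hεL))))
          rw [hη] at h2
          exact (mem_pr_Ol hεL).1 h2
        have hεb : Commute ε b := (c.tr_Ol hw.toBase hEne hb hεO).symm
        have hεb' : Commute ε b' := by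
          rcases hb'' with e | e <;> rw [e]
          · exact hεb
          · exact (hZt ε hεZ).mul_right hεb
        rcases hinv b' hb' with e | e | e
        · exact Or.inl e
        · exact Or.inr e
        · rw [← hεb'.eq, mul_inv_cancel_right] at e
          exact absurd (eq_one_of_inv_eq e.symm hεodd) hε1
      obtain ⟨x, hx, hxw, hx1⟩ := exists_third (c.V_card ht ht1) w'
      obtain ⟨b, hb, hbt, hb1⟩ := exists_third hw.four t
      obtain ⟨b', hb', hb'eq⟩ : ∃ b' ∈ V A t, b' = b ∨ b' = t * b := by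
        rcases c.V_split ht ht1 (tr_le L A hb) with h | h
        · exact ⟨b, h, Or.inl rfl⟩
        · exact ⟨t * b, h, Or.inr rfl⟩
      have hb'1 : b' ≠ 1 := fun e => by
        rcases hb'eq with h | h
        · exact hb1 (h.symm.trans e)
        · exact hbt (by
            have h3 := eq_inv_of_mul_eq_one_right (h.symm.trans e)
            rwa [c.inv ht] at h3)
      have h1 := (key x hx hx1 hxw b hb b' hb' hb'eq).resolve_left hb'1
      have h2 := (key (w' * x) (mul_mem hw'V hx) (fun e => hxw (by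
        have h3 := eq_inv_of_mul_eq_one_right e
        rwa [c.inv (V_le A t hw'V)] at h3)) (fun e => hx1 (mul_eq_left.1 e)) b hb b' hb' hb'eq).resolve_left hb'1
      exact hw'1 (right_eq_mul.1 (h1.symm.trans h2))
    have hZA : ∀ z ∈ Z, ∀ a ∈ A, Commute z a := by
      intro z hz a ha
      have hV : ∀ a ∈ V A t, Commute z a := by
        intro a ha
        by_cases ha1 : a = 1
        · exact ha1 ▸ Commute.one_right z
        have haA := V_le A t ha
        obtain ⟨b, hb, hba, hb1⟩ := exists_third (c.V_card ht ht1) a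
        have hab : a * b ≠ 1 := fun e => hba (by
          have := eq_inv_of_mul_eq_one_right e
          rwa [c.inv haA] at this)
        have hbA := V_le A t hb
        exact mem_centralizer_singleton_iff.1 (GW.four_gen (c.sq haA) (c.sq hbA) (c.comm haA hbA) ha1 hb1 hba hZodd
          (hZn (hmt.le c haA)) (hZn (hmt.le c hbA)) (fun x hx hxb => hfixZ b hb hb1 x hx hxb a ha)
          (fun x hx hxab => hfixZ (a * b) (mul_mem ha hb) hab x hx hxab a ha) hz)
      rcases c.V_split ht ht1 ha with h | h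
      · exact hV a h
      · have := (hZt z hz).inv_right.mul_right (hV _ h)
        rwa [inv_mul_cancel_left] at this
    have hZO := c.gen_le hw ht ht1 hwt hZL hZodd hZA ((inf_le_left.trans hmt.cent).trans hZn)
    have hN : normalizer (Z : Set G) ≠ ⊤ :=
      c.norm_ne_top hZne fun e => hmt.coatom.1 (top_le_iff.1 (e ▸ hZQ.trans (fq_le r _)))
    have hNM : normalizer (Z : Set G) = mm t := (hZn.eq_or_lt.resolve_right fun hlt => hN (hmt.coatom.2 _ hlt)).symm
    refine hnoE ?_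
    rw [← hNM]
    exact le_trans (fun e he => mem_centralizer_iff.2 fun z hz => (El_Ol he (hZO hz)).eq.symm)
      (centralizer_le_normalizer _)

/-- The members have trivial cores. -/
theorem core_bot (ht : t ∈ A) (ht1 : t ≠ 1) : Ol (mm t) = ⊥ := by
  have hmm : ∀ d ∈ A, d ≠ 1 → mm d = centralizer ({d} : Set G) := fun d hd hd1 =>
    F.member_eq c hsol hd hd1 fun s _ hs2 x hx => F.moved c hsol hd hd1 hs2 hx
  by_cases hE : El (mm t) = ⊥
  · exact (F.core_nolayer c hsol hmm ht ht1 hE).elim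
  · exact F.core_layer c hsol hmm ht ht1 hE

end Fam

end Cfsg.Agent.Walter.R3
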