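import Cfsg.Agent.Lib.Walter.R3.Basic
import Cfsg.Agent.Lib.Walter.GLift
import Cfsg.Agent.Lib.GW.OtherPart

/-!
# Rank three: an element inverted by an involution is pushed into `O_s`
-/

set_option autoImplicit false
set_option linter.style.haveILetI false
set_option linter.unusedSectionVars false

namespace Cfsg.Agent.Walter.R3

open Subgroup

universe u

variable {G : Type u} [Group G] [Finite G]

/-- An `s`-element of `O(M)` inverted by `a` lies in `O_s(M)` when it lies in an `s`-group normalised by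
`C_{O(M)}(a)`. -/
theorem push {M : Subgroup G} {a : G} (ha : a ∈ M) (ha2 : a * a = 1) {s : ℕ} [hs : Fact s.Prime] (hs2 : s ≠ 2)
    {Q : Subgroup G} (hQ : IsPGroup s Q) (hn : centralizer ({a} : Set G) ⊓ Ol M ≤ normalizer (Q : Set G))
    {w : G} (hwQ : w ∈ Q) (hwW : w ∈ Ol M) (hinv : a * w * a⁻¹ = w⁻¹) : w ∈ GW.fq s M := by
  have hwM : w ∈ M := Ol_le M hwW
  obtain ⟨N, hN⟩ : ∃ N, N = Cfsg.pCore s ↥M := ⟨_, rfl⟩
  haveI : N.Normal := hN ▸ Solv.pCore_normal s
  have hNp : IsPGroup s N := hN ▸ Solv.pCore_isPGroup s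
  have hNodd : Odd (Nat.card N) := by
    obtain ⟨k, hk⟩ := IsPGroup.iff_card.1 hNp
    rw [hk]
    exact ((Fact.out : s.Prime).odd_of_ne_two hs2).pow
  obtain ⟨π, hπ⟩ : ∃ π : ↥M →* ↥M ⧸ N, π = QuotientGroup.mk' N := ⟨_, rfl⟩
  have hπs : Function.Surjective π := hπ ▸ QuotientGroup.mk'_surjective N
  have hπk : π.ker = N := hπ ▸ QuotientGroup.ker_mk' N
  obtain ⟨W, hW⟩ : ∃ W, W = (Cfsg.oddCore ↥M).map π := ⟨_, rfl⟩
  haveI hWn : W.Normal := hW ▸ (inferInstance : (Cfsg.oddCore ↥M).Normal).map π hπs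
  have hWodd : Odd (Nat.card W) := by
    rw [hW]
    exact (Nat.coprime_two_right.1 (Fusion.card_pPrimeCore_coprime 2 ↥M)).of_dvd_nat (Subgroup.card_map_dvd _ π)
  have hwO : (⟨w, hwM⟩ : ↥M) ∈ Cfsg.oddCore ↥M := (mem_Ol hwM).1 hwW
  have hw' : π ⟨w, hwM⟩ ∈ W := hW ▸ ⟨_, hwO, rfl⟩
  have hcoreS : Cfsg.pCore s (↥M ⧸ N) = ⊥ := by subst hN; exact Fusion.pCore_quotient_eq_bot
  obtain ⟨i, hi⟩ := IsPGroup.iff_orderOf.1 hQ ⟨w, hwQ⟩
  rw [Subgroup.orderOf_mk] at hi
  have hwo : ∃ k : ℕ, orderOf (π ⟨w, hwM⟩) = s ^ k := by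
    have h1 : orderOf (π ⟨w, hwM⟩) ∣ s ^ i := by
      rw [← hi, ← Subgroup.orderOf_mk w hwM]
      exact orderOf_map_dvd π _
    obtain ⟨k, -, hk⟩ := (Nat.dvd_prime_pow hs.out).1 h1
    exact ⟨k, hk⟩
  have hcent : ∀ r : ℕ, r.Prime → r ≠ 2 → π ⟨w, hwM⟩ ∈ centralizer (Cfsg.pCore r (↥M ⧸ N) : Set (↥M ⧸ N)) := by
    intro r hr hr2
    haveI := Fact.mk hr
    by_cases hrs : r = s
    · subst hrs
      exact mem_centralizer_iff.2 fun y hy => by
        rw [show y = 1 from mem_bot.1 (hcoreS ▸ hy), one_mul, mul_one]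
    refine GW.centralizes_core (q := s) hr2 hrs (w := π ⟨a, ha⟩) ?_ ?_ hwo hs2 fun v hv hva => ?_
    · rw [← map_mul, show (⟨a, ha⟩ : ↥M) * ⟨a, ha⟩ = 1 from Subtype.ext ha2, map_one]
    · rw [← map_inv, ← map_mul, ← map_mul, ← map_inv]
      exact congrArg π (Subtype.ext hinv)
    · obtain ⟨y, hy, hye⟩ := lift_commute (N := N) hNodd (r := (⟨a, ha⟩ : ↥M)) (Subtype.ext ha2) (y := v) (by
        rw [← hπ]; exact (mul_inv_eq_iff_eq_mul.1 hva).symm)
      rw [← hπ] at hye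
      have hyW : y ∈ Cfsg.oddCore ↥M := by
        obtain ⟨R, hR⟩ : ∃ R, R = (Cfsg.pCore r (↥M ⧸ N)).comap π := ⟨_, rfl⟩
        haveI : (Cfsg.pCore r (↥M ⧸ N)).Normal := Solv.pCore_normal r
        haveI : R.Normal := hR ▸ Subgroup.Normal.comap inferInstance π
        have hRodd : Odd (Nat.card R) := by
          have hNR : N ≤ R := by
            rw [hR]
            intro x hx
            rw [mem_comap, MonoidHom.mem_ker.1 (show x ∈ π.ker by rw [hπk]; exact hx)]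
            exact one_mem _
          have h1 : Nat.card R = Nat.card N * N.relIndex R := by
            have := Subgroup.relIndex_mul_relIndex ⊥ N R bot_le hNR
            rw [Subgroup.relIndex_bot_left, Subgroup.relIndex_bot_left] at this
            exact this.symm
          rw [h1]
          refine hNodd.mul ?_
          have h2 : N.relIndex R = Nat.card (R.map π) :=
            (congrArg (fun Z : Subgroup ↥M => Z.relIndex R) hπk.symm).trans (Subgroup.relIndex_ker R π)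
          rw [h2, hR, Subgroup.map_comap_eq_self_of_surjective hπs]
          obtain ⟨k, hk⟩ := IsPGroup.iff_card.1 (Solv.pCore_isPGroup (G := ↥M ⧸ N) r)
          rw [hk]
          exact (hr.odd_of_ne_two hr2).pow
        refine Fusion.le_pPrimeCore (N := R) (Nat.coprime_two_right.2 hRodd) (hR ▸ ?_)
        rw [mem_comap, hye]
        exact hv
      have hyQ : (y : G) ∈ normalizer (Q : Set G) :=
        hn ⟨mem_centralizer_singleton_iff.2 (congrArg Subtype.val hy.eq), ⟨y, hyW, rfl⟩⟩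
      -- the commutator is an `r`-element and an `s`-element
      have hcQ : w * (y : G) * w⁻¹ * (y : G)⁻¹ ∈ Q := by
        rw [mul_assoc, mul_assoc, ← mul_assoc (y : G)]
        exact mul_mem hwQ ((mem_normalizer_iff.1 hyQ _).1 (inv_mem hwQ))
      obtain ⟨k, hk⟩ := IsPGroup.iff_orderOf.1 hQ ⟨_, hcQ⟩
      rw [Subgroup.orderOf_mk] at hk
      haveI : (Cfsg.pCore r (↥M ⧸ N)).Normal := Solv.pCore_normal r
      have hd : π (⟨w, hwM⟩ * y * ⟨w, hwM⟩⁻¹ * y⁻¹) ∈ Cfsg.pCore r (↥M ⧸ N) := by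
        rw [map_mul, map_mul, map_mul, map_inv, map_inv, hye]
        exact mul_mem ((inferInstance : (Cfsg.pCore r (↥M ⧸ N)).Normal).conj_mem v hv _) (inv_mem hv)
      obtain ⟨j, hj⟩ := IsPGroup.iff_orderOf.1 (Solv.pCore_isPGroup (G := ↥M ⧸ N) r) ⟨_, hd⟩
      rw [Subgroup.orderOf_mk] at hj
      have h1 : orderOf (π (⟨w, hwM⟩ * y * ⟨w, hwM⟩⁻¹ * y⁻¹)) ∣ s ^ k := by
        rw [← hk, show w * (y : G) * w⁻¹ * (y : G)⁻¹ = ((⟨w, hwM⟩ * y * ⟨w, hwM⟩⁻¹ * y⁻¹ : ↥M) : G) from rfl,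
          Subgroup.orderOf_coe]
        exact orderOf_map_dvd π _
      have h2 := orderOf_eq_one_iff.1 (Nat.eq_one_of_dvd_coprimes
        (Nat.Coprime.pow k j ((Nat.coprime_primes hs.out hr).2 (Ne.symm hrs))) h1 hj.dvd)
      rw [map_mul, map_mul, map_mul, map_inv, map_inv, hye, mul_inv_eq_one, mul_inv_eq_iff_eq_mul] at h2
      exact h2
  -- in `W` it centralises the Fitting subgroup
  haveI : Group.IsSolvable W := Bender.AbelianSolvable.odd_solvable' hWodd
  have hmem : (⟨_, hw'⟩ : W) ∈ Cfsg.fittingSubgroup W := by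
    refine Solv.centralizer_fitting_le inferInstance (mem_centralizer_iff.2 fun y hy => ?_)
    have hle : Cfsg.fittingSubgroup W ≤ centralizer ({(⟨_, hw'⟩ : W)} : Set W) := by
      rw [Solv.fitting_eq_iSup_pCore, iSup_le_iff]
      intro r z hz
      haveI := Fact.mk r.2
      refine mem_centralizer_singleton_iff.2 (Subtype.ext ?_)
      by_cases hr2 : (r : ℕ) = 2
      · have hz1 : (z : ↥M ⧸ N) = 1 := by
          obtain ⟨k, hk⟩ := IsPGroup.iff_orderOf.1 (Solv.pCore_isPGroup (G := W) (r : ℕ)) ⟨z, hz⟩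
          rw [Subgroup.orderOf_mk] at hk
          have h1 : Odd (orderOf z) := hWodd.of_dvd_nat (_root_.orderOf_dvd_natCard z)
          rw [hk, hr2] at h1
          rcases Nat.eq_zero_or_pos k with hk0 | hk0
          · rw [hk0, pow_zero, orderOf_eq_one_iff] at hk
            rw [hk, Subgroup.coe_one]
          · exact absurd h1 (by rw [Nat.not_odd_iff_even]; exact Nat.even_pow.2 ⟨even_two, hk0.ne'⟩)
        show (z : ↥M ⧸ N) * π ⟨w, hwM⟩ = π ⟨w, hwM⟩ * z
        rw [hz1, one_mul, mul_one]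
      · haveI := Solv.pCore_normal (G := W) (r : ℕ)
        have h1 : (Cfsg.pCore (r : ℕ) W).map W.subtype ≤ Cfsg.pCore (r : ℕ) (↥M ⧸ N) :=
          haveI : ((Cfsg.pCore (r : ℕ) W).map W.subtype).Normal := Solv.map_subtype_normal_of_characteristic W _
          Fusion.le_pCore ((Solv.pCore_isPGroup (G := W) (r : ℕ)).map _)
        exact mem_centralizer_iff.1 (hcent r r.2 hr2) (z : ↥M ⧸ N) (h1 ⟨z, hz, rfl⟩)
    exact mem_centralizer_singleton_iff.1 (hle hy)
  have h1 : zpowers (⟨_, hw'⟩ : W) ≤ Cfsg.pCore s W := by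
    refine Solv.pgroup_le_pCore_of_le_fitting ?_ (zpowers_le.2 hmem)
    obtain ⟨k, hk⟩ := hwo
    exact IsPGroup.of_card (n := k) (by rw [Nat.card_zpowers, Subgroup.orderOf_mk, hk])
  have h2 : π ⟨w, hwM⟩ ∈ Cfsg.pCore s (↥M ⧸ N) := by
    haveI : ((Cfsg.pCore s W).map W.subtype).Normal := Solv.map_subtype_normal_of_characteristic W _
    exact Fusion.le_pCore ((Solv.pCore_isPGroup (G := W) s).map W.subtype) ⟨⟨_, hw'⟩, h1 (mem_zpowers _), rfl⟩
  rw [hcoreS, mem_bot, ← MonoidHom.mem_ker, hπk, hN] at h2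
  exact ⟨_, h2, rfl⟩

end Cfsg.Agent.Walter.R3
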