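import Cfsg.Agent.Lib.Walter.R3.Fit
import Cfsg.Agent.Lib.Solv.Generation
import Cfsg.Agent.Lib.Walter.R3.Push

/-!
# Rank three: elements inverted by `t` and centralised by a four group
-/

set_option autoImplicit false
set_option linter.style.haveILetI false
set_option linter.unusedSectionVars false

namespace Cfsg.Agent.Walter.R3

open Subgroup Cfsg.Agent.Solv.AbelianTwo
open scoped commutatorElement

universe u

variable {G : Type u} [Group G] [Finite G] {A : Subgroup G} {t : G}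

/-- `t` inverts `y`, the four group `B` avoiding `t` centralises it. -/
structure Eig (A : Subgroup G) (t y : G) (B : Subgroup G) : Prop where
  le : B ≤ A
  four : Nat.card B = 4
  notmem : t ∉ B
  inv : t * y * t⁻¹ = y⁻¹
  cent : ∀ b ∈ B, Commute b y

namespace Eig

variable {y : G} {B : Subgroup G} (h : Eig A t y B) (c : Ctx A) (ht : t ∈ A)
include h c ht

theorem act {a : G} (ha : a ∈ A) : a * y * a⁻¹ = y ∨ a * y * a⁻¹ = y⁻¹ := by
  rcases four_split c h.le h.four ht h.notmem ha with hb | hb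
  · exact Or.inl (by rw [(h.cent a hb).eq, mul_inv_cancel_right])
  · refine Or.inr ?_
    calc a * y * a⁻¹ = t * ((t * a) * y * (t * a)⁻¹) * t⁻¹ := by
          rw [show t * (t * a * y * (t * a)⁻¹) * t⁻¹ = (t * t) * a * y * a⁻¹ * (t * t)⁻¹ by group, c.sq ht, one_mul,
            inv_one, mul_one]
      _ = y⁻¹ := by rw [(h.cent _ hb).eq, mul_inv_cancel_right, h.inv]

theorem norm : A ≤ normalizer (zpowers y : Set G) := by
  intro a ha
  refine mem_norm ?_
  rintro _ ⟨i, rfl⟩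
  show a * y ^ i * a⁻¹ ∈ zpowers y
  rw [← conj_zpow]
  rcases h.act c ht ha with e | e <;> rw [e]
  · exact zpow_mem (mem_zpowers y) i
  · exact zpow_mem (inv_mem (mem_zpowers y)) i

theorem exact {a : G} (hy : Odd (orderOf y)) (hy1 : y ≠ 1) (ha : a ∈ A) (hay : Commute a y) : a ∈ B := by
  rcases four_split c h.le h.four ht h.notmem ha with hb | hb
  · exact hb
  exfalso
  have h1 : Commute t y := by
    have h2 := (h.cent _ hb).mul_left hay.inv_left
    rwa [mul_inv_cancel_right] at h2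
  have h3 := h.inv
  rw [h1.eq, mul_inv_cancel_right] at h3
  exact hy1 (eq_one_of_inv_eq h3.symm hy)

theorem eq_of_le (hy : Odd (orderOf y)) (hy1 : y ≠ 1) {W : Subgroup G} (hW : W ≤ A) (h4 : Nat.card W = 4)
    (hWy : ∀ a ∈ W, Commute a y) : W = B :=
  Subgroup.eq_of_le_of_card_ge (fun a ha => h.exact c ht hy hy1 (hW ha) (hWy a ha)) (by rw [h4, h.four])

end Eig

namespace Fam

variable {mm : G → Subgroup G} (F : Fam A mm) (c : Ctx A) (hsol : ∀ (X : Type u) [Group X] [Finite X], SEB.Sol X)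
include F c hsol

/-- An eigen element of `O_s` of a member lies in `O_s` of the members of its four group. -/
theorem eig_mem (ht : t ∈ A) (ht1 : t ≠ 1) {s : ℕ} [Fact s.Prime] (hs2 : s ≠ 2) {y : G} {B : Subgroup G}
    (he : Eig A t y B) (hy : y ∈ GW.fq s (mm t)) {b : G} (hb : b ∈ B) (hb1 : b ≠ 1) : y ∈ GW.fq s (mm b) := by
  have hbA := he.le hb
  have hmt := F.mem t ht ht1
  have hmb := F.mem b hbA hb1
  have hyb : y ∈ centralizer ({b} : Set G) := mem_centralizer_singleton_iff.2 (he.cent b hb).eq.symm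
  have hnorm : centralizer ({t} : Set G) ⊓ centralizer ({b} : Set G) ≤
      normalizer ((GW.fq s (mm t) ⊓ centralizer ({b} : Set G) : Subgroup G) : Set G) := fun g hg =>
    mem_norm fun x hx => ⟨(mem_normalizer_iff.1 (fq_norm s _ (hmt.cent hg.1)) x).1 hx.1,
      (centralizer ({b} : Set G)).mul_mem ((centralizer ({b} : Set G)).mul_mem hg.2 hx.2) ((centralizer ({b} : Set G)).inv_mem hg.2)⟩
  have hO := c.mem_core hsol hmb (c.core_of_inverted ht (c.cent_half hbA hb1) hs2
    ((fq_pgroup s (mm t)).to_le inf_le_left) inf_le_right hnorm (y := y) ⟨hy, hyb⟩ he.inv)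
  exact push (hmb.le c ht) (c.sq ht) hs2 (fq_pgroup s (mm t)) (inf_le_left.trans (hmt.cent.trans (fq_norm s _))) hy hO
    he.inv

/-- With a moved prime core the member has no layer. -/
theorem no_layer (ht : t ∈ A) (ht1 : t ≠ 1) {s : ℕ} [Fact s.Prime] (hs2 : s ≠ 2) {y : G} {B : Subgroup G}
    (he : Eig A t y B) (hy : y ∈ GW.fq s (mm t)) (hy1 : y ≠ 1) {d : G} (hd : d ∈ A) (hd1 : d ≠ 1) :
    El (mm d) = ⊥ := by
  by_contra hne
  have hyo : Odd (orderOf y) := orderOf_odd (pgroup_odd hs2 (fq_pgroup s (mm t))) hy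
  have key : ∀ e ∈ A, e ≠ 1 → y ∈ GW.fq s (mm e) → V A e = B := fun e he' he1 hye => by
    have h := c.mem_half hsol (F.mem e he' he1)
    refine he.eq_of_le c ht hyo hy1 (V_le A e) (c.V_card he' he1) fun a ha => ?_
    rw [← c.tr_eq_V h] at ha
    exact c.tr_Ol h.toBase (F.El_ne c hd hd1 he' he1 hne) ha (fq_le_Ol hs2 _ hye)
  obtain ⟨b, hb, -, hb1⟩ := exists_third he.four 1
  have hVt := key t ht ht1 hy
  have hVb := key b (he.le hb) hb1 (F.eig_mem c hsol ht ht1 hs2 he hy hb hb1)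
  have := c.V_inj (he.le hb) hb1 ht ht1 (hVb.trans hVt.symm)
  exact he.notmem (this ▸ hb)

/-- A subgroup generated by eigen elements, not centralised by `t`, normalised by `C(t)`. -/
theorem exists_moved (ht : t ∈ A) (ht1 : t ≠ 1) {s : ℕ} [Fact s.Prime] (hs2 : s ≠ 2)
    (hmv : ∃ x ∈ GW.fq s (mm t), ¬ Commute x t) :
    ∃ X : Subgroup G, X ≤ GW.fq s (mm t) ∧ X ≠ ⊥ ∧ centralizer ({t} : Set G) ≤ normalizer (X : Set G) ∧
      X = closure {y | y ∈ X ∧ ∃ B, Eig A t y B} ∧
      ∀ a ∈ X, ∀ b ∈ X, Commute ⁅a, b⁆ t ∧ ∀ x ∈ X, Commute ⁅a, b⁆ x := by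
  classical
  have hmt := F.mem t ht ht1
  obtain ⟨X, ⟨hXF, hXn, hXm⟩, hmin⟩ := Set.exists_min_image
    {X : Subgroup G | X ≤ GW.fq s (mm t) ∧ centralizer ({t} : Set G) ≤ normalizer (X : Set G) ∧ ∃ x ∈ X, ¬ Commute x t}
    (fun X => Nat.card X) (Set.toFinite _) ⟨_, le_rfl, hmt.cent.trans (fq_norm s _), hmv⟩
  have small : ∀ Y : Subgroup G, Y ≤ X → centralizer ({t} : Set G) ≤ normalizer (Y : Set G) →
      (∃ x ∈ Y, ¬ Commute x t) → Y = X := fun Y hY hn hm =>
    Subgroup.eq_of_le_of_card_ge hY (hmin Y ⟨hY.trans hXF, hn, hm⟩)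
  have hXodd : ∀ x ∈ X, Odd (orderOf x) := fun x hx =>
    orderOf_odd (pgroup_odd hs2 ((fq_pgroup s (mm t)).to_le hXF)) hx
  have hA : A ≤ normalizer (X : Set G) := (c.le_cent ht).trans hXn
  have htX : ∀ x ∈ X, t * x * t⁻¹ ∈ X := fun x hx => (mem_normalizer_iff.1 (hA ht) x).1 hx
  have hX1 : X ≠ ⊥ := fun e => by
    obtain ⟨x, hx, hxt⟩ := hXm
    rw [e, mem_bot] at hx
    exact hxt (hx ▸ Commute.one_left t)
  have hct : ∀ g ∈ centralizer ({t} : Set G), g * t * g⁻¹ = t := fun g hg => by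
    rw [mem_centralizer_singleton_iff.1 hg, mul_inv_cancel_right]
  -- generated by the commutators with `t`
  have hD : closure {d | ∃ x ∈ X, d = x⁻¹ * (t * x * t⁻¹)} = X := by
    refine small _ ((closure_le _).2 ?_) (fun g hg => ?_) ?_
    · rintro _ ⟨x, hx, rfl⟩
      exact mul_mem (inv_mem hx) (htX x hx)
    · refine mem_norm fun d hd => ?_
      induction hd using closure_induction with
      | mem d hd =>
        obtain ⟨x, hx, rfl⟩ := hd
        refine subset_closure ⟨g * x * g⁻¹, (mem_normalizer_iff.1 (hXn hg) x).1 hx, ?_⟩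
        calc g * (x⁻¹ * (t * x * t⁻¹)) * g⁻¹ = g * x⁻¹ * g⁻¹ * ((g * t * g⁻¹) * (g * x * g⁻¹) * (g * t * g⁻¹)⁻¹) := by
              group
          _ = _ := by rw [hct g hg]; group
      | one => rw [mul_one, mul_inv_cancel]; exact one_mem _
      | mul a b _ _ iha ihb => rw [show g * (a * b) * g⁻¹ = g * a * g⁻¹ * (g * b * g⁻¹) by group]; exact mul_mem iha ihb
      | inv a _ iha => rw [show g * a⁻¹ * g⁻¹ = (g * a * g⁻¹)⁻¹ by group]; exact inv_mem iha
    · by_contra hno
      push Not at hno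
      obtain ⟨x, hx, hxt⟩ := hXm
      obtain ⟨d, hd⟩ : ∃ d, d = x⁻¹ * (t * x * t⁻¹) := ⟨_, rfl⟩
      have hdt : Commute d t := hno d (subset_closure ⟨x, hx, hd⟩)
      have hdX : d ∈ X := hd ▸ mul_mem (inv_mem hx) (htX x hx)
      have h1 : t * x * t⁻¹ = x * d := by rw [hd]; group
      have hd1 : d * d = 1 := by
        have h2 : t * (t * x * t⁻¹) * t⁻¹ = x * (d * d) := by
          rw [h1, show t * (x * d) * t⁻¹ = t * x * t⁻¹ * (t * d * t⁻¹) by group, h1, ← hdt.eq, mul_inv_cancel_right,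
            mul_assoc]
        rw [show t * (t * x * t⁻¹) * t⁻¹ = (t * t) * x * (t * t)⁻¹ by group, c.sq ht, one_mul, inv_one, mul_one] at h2
        exact left_eq_mul.1 h2
      rw [eq_one_of_sq_of_odd hd1 (hXodd d hdX), mul_one, mul_inv_eq_iff_eq_mul] at h1
      exact hxt h1.symm
  -- the derived subgroup
  have hX' : ⁅X, X⁆ ≠ X := fun e => hX1 (perfect_le_solvable e (by
    haveI := ((fq_pgroup s (mm t)).to_le hXF).isNilpotent
    exact inferInstance) le_rfl)
  have hXt : ∀ z ∈ ⁅X, X⁆, Commute z t := by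
    by_contra hno
    push Not at hno
    refine hX' (small _ (commutator_le_self X) (fun g hg => mem_norm fun z hz => ?_) hno)
    have hmap : X.map (MulAut.conj g).toMonoidHom ≤ X := by
      rintro _ ⟨x, hx, rfl⟩
      exact (mem_normalizer_iff.1 (hXn hg) x).1 hx
    have h1 : g * z * g⁻¹ ∈ ⁅X.map (MulAut.conj g).toMonoidHom, X.map (MulAut.conj g).toMonoidHom⁆ := by
      rw [← map_commutator]
      exact ⟨z, hz, rfl⟩
    exact commutator_mono hmap hmap h1
  have hXz : ∀ z ∈ ⁅X, X⁆, ∀ x ∈ X, Commute z x := by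
    intro z hz x hx
    have hz' : Commute x z := by
      have h0 : X ≤ centralizer ({z} : Set G) := by
        conv_lhs => rw [← hD]
        refine (closure_le _).2 ?_
        rintro _ ⟨a, ha, rfl⟩
        refine mem_centralizer_singleton_iff.2 ?_
        have haz : a * z * a⁻¹ ∈ ⁅X, X⁆ := by
          have h2 : ⁅a, z⁆ * z ∈ ⁅X, X⁆ := mul_mem (commutator_mem_commutator ha (commutator_le_self X hz)) hz
          rwa [commutatorElement_def, inv_mul_cancel_right] at h2
        have h1 : t * a * t⁻¹ * z * (t * a * t⁻¹)⁻¹ = a * z * a⁻¹ := by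
          calc t * a * t⁻¹ * z * (t * a * t⁻¹)⁻¹ = t * a * (t⁻¹ * z) * t * a⁻¹ * t⁻¹ := by group
            _ = t * a * (z * t⁻¹) * t * a⁻¹ * t⁻¹ := by rw [(hXt z hz).inv_right.eq]
            _ = t * (a * z * a⁻¹) * t⁻¹ := by group
            _ = a * z * a⁻¹ := by rw [← (hXt _ haz).eq, mul_inv_cancel_right]
        calc a⁻¹ * (t * a * t⁻¹) * z = a⁻¹ * (t * a * t⁻¹ * z * (t * a * t⁻¹)⁻¹) * (t * a * t⁻¹) := by group
          _ = z * (a⁻¹ * (t * a * t⁻¹)) := by rw [h1]; group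
      exact mem_centralizer_singleton_iff.1 (h0 hx)
    exact hz'.symm
  -- generation by eigen elements
  set S := {y | y ∈ X ∧ ∃ B, Eig A t y B} with hS
  have hSX : closure S ≤ X := (closure_le _).2 fun y hy => hy.1
  obtain ⟨Y, hY⟩ : ∃ Y, Y = closure S ⊔ ⁅X, X⁆ := ⟨_, rfl⟩
  have hYn : ∀ x ∈ X, ∀ y ∈ Y, x * y * x⁻¹ ∈ Y := by
    intro x hx y hy
    have hyX : y ∈ X := (sup_le hSX (commutator_le_self X)) (hY ▸ hy)
    have h2 : ⁅x, y⁆ ∈ Y := hY ▸ mem_sup_right (commutator_mem_commutator hx hyX)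
    have h3 := mul_mem h2 hy
    rwa [commutatorElement_def, inv_mul_cancel_right] at h3
  have hgen : ∀ x ∈ X, x⁻¹ * (t * x * t⁻¹) ∈ Y := by
    let P : Subgroup G :=
      { carrier := {x | x ∈ X ∧ x⁻¹ * (t * x * t⁻¹) ∈ Y}
        one_mem' := ⟨one_mem _, by simp⟩
        mul_mem' := fun {a b} ha hb => ⟨mul_mem ha.1 hb.1, by
          rw [show (a * b)⁻¹ * (t * (a * b) * t⁻¹) = b⁻¹ * (a⁻¹ * (t * a * t⁻¹)) * b⁻¹⁻¹ * (b⁻¹ * (t * b * t⁻¹)) by group]
          exact mul_mem (hYn _ (inv_mem hb.1) _ ha.2) hb.2⟩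
        inv_mem' := fun {a} ha => ⟨inv_mem ha.1, by
          rw [show a⁻¹⁻¹ * (t * a⁻¹ * t⁻¹) = a * (a⁻¹ * (t * a * t⁻¹))⁻¹ * a⁻¹ by group]
          exact hYn _ ha.1 _ (inv_mem ha.2)⟩ }
    have hle : X ≤ P := by
      rw [← Solv.gen_eq A X c.isComm hA (c.coprime le_rfl (pgroup_odd hs2 ((fq_pgroup s (mm t)).to_le hXF)))]
      refine iSup₂_le fun B hB x hx => ⟨hx.1, ?_⟩
      obtain ⟨hBA, a, ha, hBa⟩ := hB
      by_cases htB : t ∈ B
      · rw [mem_centralizer_iff.1 hx.2 t htB, mul_inv_cancel_right, inv_mul_cancel]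
        exact one_mem _
      have hB4 : Nat.card B = 4 := by
        have h2 : Nat.card (zpowers a) ≤ 2 := by
          rw [Nat.card_zpowers]
          exact Nat.le_of_dvd (by norm_num) (orderOf_dvd_of_pow_eq_one (by rw [pow_two, c.sq ha]))
        have hinj : Function.Surjective fun p : B × zpowers a => (⟨(p.1 : G) * p.2,
            A.mul_mem (hBA p.1.2) (zpowers_le.2 ha p.2.2)⟩ : A) := by
          rintro ⟨g, hg⟩
          rw [← hBa, ← SetLike.mem_coe, coe_mul_of_left_le_normalizer_right B (zpowers a)] at hg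
          · obtain ⟨p, hp, q, hq, rfl⟩ := hg
            exact ⟨(⟨p, hp⟩, ⟨q, hq⟩), rfl⟩
          · refine le_trans (fun b hb => mem_centralizer_iff.2 fun z hz => ?_) (centralizer_le_normalizer _)
            exact (c.comm (zpowers_le.2 ha hz) (hBA hb)).eq
        have h3 := Nat.card_le_card_of_surjective _ hinj
        rw [Nat.card_prod, c.card] at h3
        have h4 := card_dvd_of_le hBA
        rw [c.card] at h4
        have h5 : Nat.card B ≠ 8 := fun e => htB ((Subgroup.eq_of_le_of_card_ge hBA (by rw [e, c.card])).ge ht)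
        have h6 := Nat.le_of_dvd (by norm_num) h4
        have h7 : 4 ≤ Nat.card B := by
          have := Nat.mul_le_mul_left (Nat.card B) h2
          omega
        interval_cases hq : Nat.card B <;> omega
      refine hY ▸ mem_sup_left (subset_closure ⟨mul_mem (inv_mem hx.1) (htX x hx.1), B, hBA, hB4, htB, ?_, fun b hb => ?_⟩)
      · have e : (x⁻¹ * (t * x * t⁻¹))⁻¹ = t * x⁻¹ * t⁻¹ * x := by group
        rw [show t * (x⁻¹ * (t * x * t⁻¹)) * t⁻¹ = t * x⁻¹ * t * x * (t * t)⁻¹ by group, c.sq ht, inv_one, mul_one, e,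
          c.inv ht]
      · have h1 : Commute b x := mem_centralizer_iff.1 hx.2 b hb
        have h2 : Commute b t := c.comm (hBA hb) ht
        exact h1.inv_right.mul_right ((h2.mul_right h1).mul_right h2.inv_right)
    exact fun x hx => (hle hx).2
  have hXY : X ≤ Y := by
    conv_lhs => rw [← hD]
    refine (closure_le _).2 ?_
    rintro _ ⟨x, hx, rfl⟩
    exact hgen x hx
  have hX'S : ⁅X, X⁆ ≤ closure S := by
    refine commutator_le.2 fun a ha b hb => ?_
    have hsplit : ∀ v ∈ X, ∃ p ∈ closure S, ∃ z ∈ ⁅X, X⁆, v = p * z := by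
      intro v hv
      have h1 := hXY hv
      rw [hY, ← SetLike.mem_coe, coe_mul_of_left_le_normalizer_right] at h1
      · obtain ⟨p, hp, z, hz, rfl⟩ := h1
        exact ⟨p, hp, z, hz, rfl⟩
      · refine hSX.trans (le_trans (fun x hx => ?_) (centralizer_le_normalizer _))
        exact mem_centralizer_iff.2 fun z hz => (hXz z hz x hx).eq
    obtain ⟨p, hp, z, hz, rfl⟩ := hsplit a ha
    obtain ⟨q, hq, z', hz', rfl⟩ := hsplit b hb
    have c1 : Commute z (q * z') := hXz z hz _ hb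
    have c2 : Commute z' p := hXz z' hz' p (hSX hp)
    have e : ⁅p * z, q * z'⁆ = ⁅p, q⁆ := by
      rw [commutatorElement_def, commutatorElement_def]
      calc p * z * (q * z') * (p * z)⁻¹ * (q * z')⁻¹ = p * (z * (q * z')) * z⁻¹ * p⁻¹ * z'⁻¹ * q⁻¹ := by group
        _ = p * q * (z' * p⁻¹) * z'⁻¹ * q⁻¹ := by rw [c1.eq]; group
        _ = p * q * p⁻¹ * q⁻¹ := by rw [c2.inv_right.eq]; group
    rw [e]
    exact mul_mem (mul_mem (mul_mem hp hq) (inv_mem hp)) (inv_mem hq)
  refine ⟨X, hXF, hX1, hXn, le_antisymm ?_ hSX, fun a ha b hb => ⟨hXt _ (commutator_mem_commutator ha hb),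
    hXz _ (commutator_mem_commutator ha hb)⟩⟩
  calc X ≤ Y := hXY
    _ ≤ closure S := hY ▸ sup_le le_rfl hX'S

end Fam

end Cfsg.Agent.Walter.R3
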