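import Cfsg.Agent.Lib.Walter.R3.Gen
import Cfsg.Agent.Lib.Walter.GLift
import Cfsg.Agent.Lib.Fusion.BenderUniq
import Cfsg.Agent.Lib.Fusion.SL2Sections
import Cfsg.Agent.Lib.GW.GoodMax
import Cfsg.Agent.S0118

/-!
# Rank three: the inputs from the theory of maximal subgroups

`pair`: Bender's symmetric theorem (no hypothesis on proper subgroups is needed). `fus`: two maximal subgroups whose
generalised Fitting subgroups are `s`-groups coincide when they share a suitable `s`-element.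
`core_of_inverted`: an element inverted by `t` is pushed into the core of `C(b)`.
-/

set_option autoImplicit false
set_option linter.style.haveILetI false
set_option linter.unusedSectionVars false

open Cfsg Cfsg.Agent Cfsg.Agent.Fusion
open scoped commutatorElement

namespace Cfsg.Agent.Walter.R3

universe u

variable {G : Type u} [Group G] [Finite G]

/-- Bender's uniqueness theorem for `M ⇝ N ⇝ M`. -/
theorem pair [IsSimpleGroup G] (hG : ¬ IsMulCommutative G) (M N : Subgroup G) (hM : IsCoatom M) (hN : IsCoatom N)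
    (hMN : Cfsg.leadsTo M N) (hNM : Cfsg.leadsTo N M) :
    M = N ∨ ∃ p : ℕ, p.Prime ∧ IsPGroup p ↥(Cfsg.generalizedFittingSubgroup ↥M) ∧
      IsPGroup p ↥(Cfsg.generalizedFittingSubgroup ↥N) := by
  by_cases hEq : M = N
  · exact Or.inl hEq
  right
  obtain ⟨hEM, hZM, haM, hbM⟩ := BenderUniq.facts hG M N hM hMN
  obtain ⟨hEN, hZN, haN, hbN⟩ := BenderUniq.facts hG N M hN hNM
  have same : ∀ (A B : Subgroup G), (∀ r : ℕ, r.Prime → Cfsg.pCore r ↥A ≠ ⊥ →
      ∃ U : Subgroup ↥A, U ≠ ⊥ ∧ U ≤ Cfsg.pCore r ↥A ∧ U.map A.subtype ≤ B) →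
      (∀ q : ℕ, q.Prime → Cfsg.pCore q ↥B = ⊥ → (Cfsg.pCore q ↥A).map A.subtype ⊓ B = ⊥) →
      ∀ r : ℕ, r.Prime → Cfsg.pCore r ↥A ≠ ⊥ → Cfsg.pCore r ↥B ≠ ⊥ := by
    intro A B hZ ha r hr hne hb
    obtain ⟨U, hU0, hUO, hUB⟩ := hZ r hr hne
    have := (le_inf (Subgroup.map_mono hUO) hUB).trans (ha r hr hb).le
    rw [le_bot_iff, Subgroup.map_eq_bot_iff_of_injective _ A.subtype_injective] at this
    exact hU0 this
  have h1 := same M N hZM haN
  have h2 := same N M hZN haM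
  -- the Fitting subgroup and the layer lie in the other subgroup once two factors are present
  have into : ∀ (A B : Subgroup G), (∀ p : ℕ, p.Prime → Cfsg.pCore p ↥A ≠ ⊥ → ∀ U : Subgroup ↥A,
      (U = Cfsg.layer ↥A ∨ ∃ q : ℕ, q.Prime ∧ q ≠ p ∧ U = Cfsg.pCore q ↥A) →
        (Cfsg.pCore p ↥B).map B.subtype ≤ Subgroup.centralizer ((U.map A.subtype : Subgroup G) : Set G) ∧
        (U ≠ ⊥ → (Cfsg.pCore p ↥B).map B.subtype ≤ A)) →
      (∀ r : ℕ, r.Prime → Cfsg.pCore r ↥B ≠ ⊥ → Cfsg.pCore r ↥A ≠ ⊥) →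
      (Cfsg.layer ↥A ≠ ⊥ ∨ ∀ p : ℕ, p.Prime → Cfsg.pCore p ↥A ≠ ⊥ → ∃ q : ℕ, q.Prime ∧ q ≠ p ∧ Cfsg.pCore q ↥A ≠ ⊥) →
      (Cfsg.layer ↥B).map B.subtype ≤ A → (Cfsg.generalizedFittingSubgroup ↥B).map B.subtype ≤ A := by
    intro A B hb hs hcase hEB
    rw [Cfsg.generalizedFittingSubgroup, Subgroup.map_sup]
    refine sup_le hEB ?_
    rw [Solv.fitting_eq_iSup_pCore, Subgroup.map_iSup]
    refine iSup_le fun p => ?_
    by_cases h0 : Cfsg.pCore (p : ℕ) ↥B = ⊥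
    · rw [h0, Subgroup.map_bot]; exact bot_le
    have hA := hs p p.2 h0
    rcases hcase with hE | hq
    · exact (hb p p.2 hA _ (Or.inl rfl)).2 hE
    · obtain ⟨q, hq, hqp, hq0⟩ := hq p p.2 hA
      exact (hb p p.2 hA _ (Or.inr ⟨q, hq, hqp, rfl⟩)).2 hq0
  by_cases htwo : ∀ p : ℕ, p.Prime → Cfsg.pCore p ↥M ≠ ⊥ → ∃ q : ℕ, q.Prime ∧ q ≠ p ∧ Cfsg.pCore q ↥M ≠ ⊥
  · refine S1312.result hG M N hM hN hEq (into N M hbN h1 (Or.inr fun p hp hne => ?_) hEM)
      (into M N hbM h2 (Or.inr htwo) hEN)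
    obtain ⟨q, hq, hqp, hq0⟩ := htwo p hp (h2 p hp hne)
    exact ⟨q, hq, hqp, h1 q hq hq0⟩
  push Not at htwo
  obtain ⟨p, hp, hp0, honly⟩ := htwo
  haveI := Fact.mk hp
  have honlyN : ∀ q : ℕ, q.Prime → q ≠ p → Cfsg.pCore q ↥N = ⊥ := fun q hq hqp =>
    not_not.1 fun h => h2 q hq h (honly q hq hqp)
  have hgf : ∀ A : Subgroup G, Cfsg.layer ↥A = ⊥ → (∀ q : ℕ, q.Prime → q ≠ p → Cfsg.pCore q ↥A = ⊥) →
      Cfsg.generalizedFittingSubgroup ↥A ≤ Cfsg.pCore p ↥A := by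
    intro A hA0 hu
    rw [Cfsg.generalizedFittingSubgroup, hA0, bot_sup_eq, Solv.fitting_eq_iSup_pCore]
    refine iSup_le fun r => ?_
    by_cases hr : (r : ℕ) = p
    · rw [hr]
    · rw [hu r r.2 hr]; exact bot_le
  -- a layer on one side forces a layer on the other
  have both : ∀ A B : Subgroup G, (Cfsg.layer ↥A).map A.subtype ≤ B →
      (Cfsg.pCore p ↥B).map B.subtype ≤ Subgroup.centralizer (((Cfsg.layer ↥A).map A.subtype : Subgroup G) : Set G) →
      (∀ q : ℕ, q.Prime → q ≠ p → Cfsg.pCore q ↥B = ⊥) → Cfsg.layer ↥B = ⊥ → Cfsg.layer ↥A = ⊥ := by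
    intro A B hAB hc hu hB0
    obtain ⟨E, hE⟩ : ∃ E, E = ((Cfsg.layer ↥A).map A.subtype).subgroupOf B := ⟨_, rfl⟩
    have hEc : E ≤ Cfsg.pCore p ↥B := by
      refine le_trans ?_ (hgf B hB0 hu)
      refine le_trans ?_ Solv.centralizer_gfit_le
      refine le_trans ?_ (Subgroup.centralizer_le (SetLike.coe_subset_coe.2 (hgf B hB0 hu)))
      intro x hx
      rw [hE, Subgroup.mem_subgroupOf] at hx
      refine Subgroup.mem_centralizer_iff.2 fun y hy => Subtype.ext ?_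
      exact (Subgroup.mem_centralizer_iff.1 (hc ⟨y, hy, rfl⟩) _ hx).symm
    have hEp : IsPGroup p ↥(Cfsg.layer ↥A) :=
      (((Solv.pCore_isPGroup (G := ↥B) p).to_le hEc).of_equiv ((MulEquiv.subgroupCongr hE).trans
        ((Subgroup.subgroupOfEquivOfLe hAB).trans
          ((Cfsg.layer ↥A).equivMapOfInjective _ A.subtype_injective).symm)))
    by_contra hne
    haveI := hEp.isNilpotent
    haveI := S1247.layer_perfect' (H := ↥A)
    haveI : Nontrivial ↥(Cfsg.layer ↥A) := (Subgroup.nontrivial_iff_ne_bot _).2 hne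
    exact Group.IsPerfect.not_isSolvable (G := ↥(Cfsg.layer ↥A)) inferInstance
  have hcM := (hbM p hp hp0 _ (Or.inl rfl)).1
  have hcN := (hbN p hp (h1 p hp hp0) _ (Or.inl rfl)).1
  by_cases hM0 : Cfsg.layer ↥M = ⊥
  · have hN0 := both N M hEN hcN honly hM0
    exact ⟨p, hp, (Solv.pCore_isPGroup (G := ↥M) p).to_le (hgf M hM0 honly),
      (Solv.pCore_isPGroup (G := ↥N) p).to_le (hgf N hN0 honlyN)⟩
  · have hN0 : Cfsg.layer ↥N ≠ ⊥ := fun h => hM0 (both M N hEM hcM honlyN h)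
    exact S1312.result hG M N hM hN hEq (into N M hbN h1 (Or.inl hN0) hEM) (into M N hbM h2 (Or.inl hM0) hEN)

/-- The centre of the Thompson subgroup of a Sylow subgroup determines the maximal subgroup. -/
theorem zj_norm [IsSimpleGroup G] {s : ℕ} [Fact s.Prime] (hs2 : s ≠ 2)
    (hfree : ¬ Cfsg.Involves (Matrix.SpecialLinearGroup (Fin 2) (ZMod s)) G) {M : Subgroup G} (hM : IsCoatom M)
    (hc : Subgroup.centralizer (Cfsg.pCore s ↥M : Set ↥M) ≤ Cfsg.pCore s ↥M) (hne : Cfsg.pCore s ↥M ≠ ⊥)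
    {g : G} (hg : g ∈ M) (hgp : ∃ k : ℕ, orderOf g = s ^ k) :
    ∃ P : Sylow s G, g ∈ (P : Subgroup G) ∧
      Subgroup.normalizer (Cfsg.centerThompsonOf s (P : Subgroup G) : Set G) = M := by
  obtain ⟨T, hgT⟩ : ∃ T : Sylow s ↥M, (⟨g, hg⟩ : ↥M) ∈ (T : Subgroup ↥M) := by
    obtain ⟨k, hk⟩ := hgp
    obtain ⟨T, hT⟩ := (IsPGroup.of_card (n := k) (by rw [Nat.card_zpowers, Subgroup.orderOf_mk, hk]) :
      IsPGroup s (Subgroup.zpowers (⟨g, hg⟩ : ↥M))).exists_le_sylow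
    exact ⟨T, hT (Subgroup.mem_zpowers _)⟩
  obtain ⟨QT, hT⟩ : ∃ QT, QT = (T : Subgroup M).map M.subtype := ⟨_, rfl⟩
  have hQTp : IsPGroup s QT := hT ▸ T.isPGroup'.map _
  have hst : ∀ (P : Subgroup M) [P.Normal], IsPGroup s P → IsPStableOn s P := fun P _ hP =>
    isPStableOn_of_not_involves_sl2 hs2
      (fun h => hfree (involves_trans h (involves_subgroup involves_refl M))) P hP
  haveI hZn := centerThompsonOf_normal (X := M) hs2 hc hst T
  have hTne : (T : Subgroup M) ≠ ⊥ := fun h => hne (le_bot_iff.1 (h ▸ pCore_le_sylow T))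
  obtain ⟨Z, hZdef⟩ : ∃ Z, Z = Cfsg.centerThompsonOf s QT := ⟨_, rfl⟩
  have hZmap : Z = (inducedFunctor (wZE s) (T : Subgroup M)).map M.subtype := by
    rw [hZdef, ← inducedFunctor_map_of_injOn isCharPFunctor_wZE M.subtype M.subtype_injective.injOn T.isPGroup', ← hT,
      inducedFunctor_wZE]
  have hZ1 : Z ≠ ⊥ := by
    rw [hZmap, ne_eq, Subgroup.map_eq_bot_iff_of_injective _ M.subtype_injective]
    intro h
    rw [inducedFunctor, Subgroup.map_eq_bot_iff_of_injective _ (Subgroup.subtype_injective _)] at h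
    exact (isCharPFunctor_wZE (p := s)).1 _ T.isPGroup' (Subgroup.nontrivial_iff_ne_bot _ |>.2 hTne) h
  have hMN : M ≤ Subgroup.normalizer (Z : Set G) := by
    intro x hx
    rw [hZmap]
    exact Subgroup.le_normalizer_map _ ⟨⟨x, hx⟩, by rw [Subgroup.normalizer_eq_top]; trivial, rfl⟩
  have hNM : Subgroup.normalizer (Z : Set G) = M := by
    rcases hM.le_iff.1 hMN with h | h
    · exfalso
      haveI : Z.Normal := Subgroup.normalizer_eq_top_iff.1 h
      rcases IsSimpleGroup.eq_bot_or_eq_top_of_normal Z inferInstance with h' | h'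
      · exact hZ1 h'
      · refine hM.1 (eq_top_iff.2 ?_)
        rw [← h', hZmap]
        exact Subgroup.map_subtype_le _
    · exact h
  obtain ⟨P, hP⟩ := hQTp.exists_le_sylow
  have hPQ : (P : Subgroup G) = QT := by
    by_contra hne'
    haveI : Group.IsNilpotent (P : Subgroup G) := P.isPGroup'.isNilpotent
    have hsub : QT.subgroupOf (P : Subgroup G) < ⊤ := by
      rw [lt_top_iff_ne_top, ne_eq, Subgroup.subgroupOf_eq_top]
      exact fun h => hne' (le_antisymm h hP)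
    obtain ⟨y, hy, hyQ⟩ := SetLike.exists_of_lt
      (Group.normalizerCondition_of_isNilpotent (QT.subgroupOf (P : Subgroup G)) hsub)
    have hyN : (y : G) ∈ Subgroup.normalizer (QT : Set G) := by
      rw [Subgroup.mem_normalizer_iff] at hy ⊢
      intro z
      constructor
      · intro hz
        exact (hy ⟨z, hP hz⟩).1 hz
      · intro hz
        have hzP : z ∈ (P : Subgroup G) := by
          have := (P : Subgroup G).mul_mem ((P : Subgroup G).mul_mem ((P : Subgroup G).inv_mem y.2) (hP hz)) y.2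
          rwa [show (y : G)⁻¹ * ((y : G) * z * (y : G)⁻¹) * (y : G) = z by group] at this
        exact (hy ⟨z, hzP⟩).2 hz
    have hyM : (y : G) ∈ M := hNM.le (by
      rw [hZdef, ← zElem_eq]
      exact normalizer_le_zElem QT hyN)
    have hp : IsPGroup s ((QT ⊔ Subgroup.zpowers (y : G)).subgroupOf M) :=
      (P.isPGroup'.to_le (sup_le hP (Subgroup.zpowers_le.2 y.2))).comap_subtype
    have hEq := T.is_maximal' hp fun a ha => by
      show (a : G) ∈ QT ⊔ Subgroup.zpowers (y : G)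
      exact Subgroup.mem_sup_left (hT ▸ ⟨a, ha, rfl⟩)
    have : (⟨(y : G), hyM⟩ : M) ∈ (T : Subgroup M) := hEq ▸ Subgroup.mem_sup_right (Subgroup.mem_zpowers _)
    exact hyQ (hT ▸ ⟨_, this, rfl⟩ : (y : G) ∈ QT)
  refine ⟨P, hPQ ▸ hT ▸ ⟨_, hgT, rfl⟩, ?_⟩
  rw [hPQ, ← hZdef, hNM]

/-- Two maximal subgroups with self centralising `O_s` coincide when one contains the centraliser of a shared
`s`-element. -/
theorem fus [IsSimpleGroup G] {s : ℕ} [Fact s.Prime] (hs2 : s ≠ 2)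
    (hfree : ¬ Cfsg.Involves (Matrix.SpecialLinearGroup (Fin 2) (ZMod s)) G) {M L : Subgroup G} (hM : IsCoatom M)
    (hL : IsCoatom L) (hcM : Subgroup.centralizer (Cfsg.pCore s ↥M : Set ↥M) ≤ Cfsg.pCore s ↥M)
    (hcL : Subgroup.centralizer (Cfsg.pCore s ↥L : Set ↥L) ≤ Cfsg.pCore s ↥L)
    (hneM : Cfsg.pCore s ↥M ≠ ⊥) (hneL : Cfsg.pCore s ↥L ≠ ⊥)
    {g : G} (hgM : g ∈ M) (hgL : g ∈ L) (hgp : ∃ k : ℕ, orderOf g = s ^ k)
    (hC : Subgroup.centralizer ({g} : Set G) ≤ L) : L = M := by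
  obtain ⟨P, hgP, hPM⟩ := zj_norm hs2 hfree hM hcM hneM hgM hgp
  obtain ⟨R, hgR, hRL⟩ := zj_norm hs2 hfree hL hcL hneL hgL hgp
  obtain ⟨x, hx⟩ := MulAction.exists_smul_eq G P R
  have hxR : ((R : Subgroup G)) = (P : Subgroup G).map (MulAut.conj x).toMonoidHom := by rw [← hx]; rfl
  have hxg : x⁻¹ * g * x ∈ (P : Subgroup G) := by
    obtain ⟨y, hy, hye⟩ := hxR.le hgR
    rw [← hye]
    show x⁻¹ * (x * y * x⁻¹) * x ∈ (P : Subgroup G)
    rw [show x⁻¹ * (x * y * x⁻¹) * x = y by group]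
    exact hy
  obtain ⟨n, hn, he⟩ := S0118.result hs2 hfree P {g} (Set.singleton_subset_iff.2 hgP) x
    (by rintro _ ⟨a, rfl, rfl⟩; exact hxg)
  rw [hPM] at hn
  have hl : x * n⁻¹ ∈ L := hC (Subgroup.mem_centralizer_singleton_iff.2 (by
    have h1 := he g rfl
    calc x * n⁻¹ * g = x * (n⁻¹ * g * n) * n⁻¹ := by group
      _ = g * (x * n⁻¹) := by rw [h1]; group))
  have hLM : L = M.map (MulAut.conj x).toMonoidHom := by
    have hzP : IsPGroup s (P : Subgroup G) := P.isPGroup'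
    rw [← hRL, ← hPM, hxR, ← inducedFunctor_wZE, ← inducedFunctor_wZE,
      inducedFunctor_map_of_injOn isCharPFunctor_wZE _ (MulAut.conj x).injective.injOn hzP]
    exact (Subgroup.map_equiv_normalizer_eq (inducedFunctor (wZE s) (P : Subgroup G)) (MulAut.conj x)).symm
  ext y
  constructor
  · intro hy
    have hy' := L.mul_mem (L.mul_mem hl hy) (L.inv_mem hl)
    rw [hLM] at hy'
    obtain ⟨m, hm, hme⟩ := hy'
    have hme : x * m * x⁻¹ = x * n⁻¹ * y * (x * n⁻¹)⁻¹ := hme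
    have hym : y = n * m * n⁻¹ := by
      calc y = n * x⁻¹ * (x * n⁻¹ * y * (x * n⁻¹)⁻¹) * x * n⁻¹ := by group
        _ = _ := by rw [← hme]; group
    rw [hym]
    exact M.mul_mem (M.mul_mem hn hm) (M.inv_mem hn)
  · intro hy
    have hz : x * (n⁻¹ * y * n) * x⁻¹ ∈ L := hLM.ge ⟨_, M.mul_mem (M.mul_mem (M.inv_mem hn) hy) hn, rfl⟩
    have := L.mul_mem (L.mul_mem (L.inv_mem hl) hz) hl
    rwa [show (x * n⁻¹)⁻¹ * (x * (n⁻¹ * y * n) * x⁻¹) * (x * n⁻¹) = y by group] at this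

namespace Ctx

open Subgroup

variable {A : Subgroup G} (c : Ctx A)
include c

/-- No `SL₂` section. -/
theorem no_sl2 {s : ℕ} [Fact s.Prime] (hs2 : s ≠ 2) :
    ¬ Cfsg.Involves (Matrix.SpecialLinearGroup (Fin 2) (ZMod s)) G := fun h => by
  obtain ⟨S⟩ : Nonempty (Sylow 2 G) := inferInstance
  exact not_isMulCommutative_of_involves hs2 h S (c.min.ab S)

/-- An element inverted by `t` in an `s`-subgroup of `C(b)` normalised by `C(t) ∩ C(b)` is in the core of `C(b)`. -/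
theorem core_of_inverted {b t : G} (ht : t ∈ A) {w : G}
    (h : Half A (centralizer ({b} : Set G)) w) {s : ℕ} [Fact s.Prime] (hs2 : s ≠ 2) {Q : Subgroup G}
    (hQ : IsPGroup s Q) (hQb : Q ≤ centralizer ({b} : Set G))
    (hn : centralizer ({t} : Set G) ⊓ centralizer ({b} : Set G) ≤ normalizer (Q : Set G))
    {y : G} (hy : y ∈ Q) (hinv : t * y * t⁻¹ = y⁻¹) : y ∈ Ol (centralizer ({b} : Set G)) := by
  have htL : t ∈ centralizer ({b} : Set G) := h.le ht
  have htn : t ∈ normalizer (Q : Set G) := hn ⟨mem_centralizer_singleton_iff.2 rfl, htL⟩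
  let Q' : Subgroup (Lq (centralizer ({b} : Set G))) :=
    (Q.subgroupOf (centralizer ({b} : Set G))).map (pr _)
  have hnorm : ∀ g : ↥(centralizer ({b} : Set G)), (g : G) ∈ normalizer (Q : Set G) →
      pr _ g ∈ normalizer (Q' : Set (Lq (centralizer ({b} : Set G)))) := fun g hg =>
    le_normalizer_map _ ⟨g, mem_normalizer_iff.2 fun z => by
      simp only [mem_subgroupOf, Subgroup.coe_mul, Subgroup.coe_inv]
      exact mem_normalizer_iff.1 hg z, rfl⟩
  have hc := c.bl h ht hs2 (Q := Q') (hQ.comap_subtype.map _) (hnorm ⟨t, htL⟩ htn) (fun x hx => by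
    obtain ⟨g, hg, rfl⟩ := lift_commute (N := Cfsg.oddCore ↥(centralizer ({b} : Set G)))
      (Nat.coprime_two_right.1 (Fusion.card_pPrimeCore_coprime 2 _))
      (r := (⟨t, htL⟩ : ↥(centralizer ({b} : Set G)))) (Subtype.ext (c.sq ht)) (y := x) hx
    exact hnorm g (hn ⟨mem_centralizer_singleton_iff.2 (congrArg Subtype.val hg.eq), g.2⟩))
    (f := pr _ ⟨y, hQb hy⟩) ⟨⟨y, hQb hy⟩, hy, rfl⟩
  have hsq : y * y ∈ Ol (centralizer ({b} : Set G)) := by
    refine (mem_pr_Ol (mul_mem (hQb hy) (hQb hy))).1 ?_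
    have h1 : pr _ ⟨y, hQb hy⟩ = (pr _ ⟨y, hQb hy⟩ : Lq (centralizer ({b} : Set G)))⁻¹ := by
      calc pr _ ⟨y, hQb hy⟩ = pr _ ⟨t, htL⟩ * pr _ ⟨y, hQb hy⟩ * (pr _ ⟨t, htL⟩)⁻¹ := by
            rw [← hc.eq, mul_inv_cancel_right]
        _ = _ := by
            rw [← map_inv, ← map_mul, ← map_mul, ← map_inv]
            exact congrArg _ (Subtype.ext hinv)
    rw [show (⟨y * y, mul_mem (hQb hy) (hQb hy)⟩ : ↥(centralizer ({b} : Set G))) = ⟨y, hQb hy⟩ * ⟨y, hQb hy⟩ from rfl,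
      map_mul]
    nth_rw 1 [h1]
    exact inv_mul_cancel _
  have hodd : Odd (orderOf y) := by
    obtain ⟨k, hk⟩ := IsPGroup.iff_orderOf.1 hQ ⟨y, hy⟩
    rw [Subgroup.orderOf_mk] at hk
    rw [hk]
    exact ((Fact.out : s.Prime).odd_of_ne_two hs2).pow
  obtain ⟨j, hj⟩ := exists_pow_eq_self_of_coprime hodd.coprime_two_left
  rw [← hj, pow_two]
  exact pow_mem hsq j

end Ctx

end Cfsg.Agent.Walter.R3
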