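import Cfsg.Agent.Lib.Walter.R3.Member
import Cfsg.Agent.Lib.Walter.R3.Tools

/-!
# Rank three: prime cores of members and of subgroups over `A`
-/

set_option autoImplicit false
set_option linter.style.haveILetI false
set_option linter.unusedSectionVars false

namespace Cfsg.Agent.Walter.R3

open Subgroup Cfsg.Agent.Solv.AbelianTwo

universe u

variable {G : Type u} [Group G] [Finite G] {A L : Subgroup G}

theorem fq_le (r : ℕ) (L : Subgroup G) : GW.fq r L ≤ L := map_subtype_le _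

theorem fq_norm (r : ℕ) (L : Subgroup G) : L ≤ normalizer (GW.fq r L : Set G) := by
  intro g hg
  haveI := Solv.pCore_normal (G := ↥L) r
  refine mem_norm ?_
  rintro _ ⟨x, hx, rfl⟩
  exact ⟨⟨g, hg⟩ * x * ⟨g, hg⟩⁻¹, (inferInstance : (Cfsg.pCore r ↥L).Normal).conj_mem x hx _, rfl⟩

theorem fq_pgroup (r : ℕ) [Fact r.Prime] (L : Subgroup G) : IsPGroup r (GW.fq r L) :=
  (Solv.pCore_isPGroup r).map _

theorem fq_eq_bot {r : ℕ} {L : Subgroup G} : GW.fq r L = ⊥ ↔ Cfsg.pCore r ↥L = ⊥ :=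
  Subgroup.map_eq_bot_iff_of_injective _ L.subtype_injective

theorem pgroup_odd {r : ℕ} [Fact r.Prime] (hr2 : r ≠ 2) {R : Subgroup G} (hR : IsPGroup r R) :
    Odd (Nat.card R) := by
  obtain ⟨k, hk⟩ := IsPGroup.iff_card.1 hR
  rw [hk]
  exact ((Fact.out : r.Prime).odd_of_ne_two hr2).pow

theorem pgroup_orderOf {r : ℕ} [Fact r.Prime] {R : Subgroup G} (hR : IsPGroup r R) {x : G} (hx : x ∈ R) :
    ∃ k : ℕ, orderOf x = r ^ k := by
  obtain ⟨k, hk⟩ := IsPGroup.iff_orderOf.1 hR ⟨x, hx⟩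
  rw [Subgroup.orderOf_mk] at hk
  exact ⟨k, hk⟩

theorem fq_le_Ol {r : ℕ} [Fact r.Prime] (hr2 : r ≠ 2) (L : Subgroup G) : GW.fq r L ≤ Ol L :=
  le_Ol (fq_le r L) (fq_norm r L) (pgroup_odd hr2 (fq_pgroup r L))

theorem fq_le_fit {r : ℕ} [Fact r.Prime] (L : Subgroup G) : GW.fq r L ≤ (Cfsg.fittingSubgroup ↥L).map L.subtype :=
  Subgroup.map_mono (Solv.pCore_le_fitting r)

/-- A fours not containing `t` has index two. -/
theorem four_split {B : Subgroup G} (c : Ctx A) (hB : B ≤ A) (h4 : Nat.card B = 4) {t a : G} (ht : t ∈ A)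
    (htB : t ∉ B) (ha : a ∈ A) : a ∈ B ∨ t * a ∈ B := by
  by_cases h : a ∈ B
  · exact Or.inl h
  refine Or.inr ?_
  have hi : (B.subgroupOf A).index = 2 := by
    have h1 := (B.subgroupOf A).card_mul_index
    rw [Nat.card_congr (subgroupOfEquivOfLe hB).toEquiv, h4, c.card] at h1
    omega
  exact (Subgroup.mul_mem_iff_of_index_two hi (a := (⟨t, ht⟩ : A)) (b := ⟨a, ha⟩)).2
    (iff_of_false (fun e => htB (mem_subgroupOf.1 e)) fun e => h (mem_subgroupOf.1 e))

namespace Ctx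

variable (c : Ctx A)
include c

/-- A normal 2-subgroup lies in `A`. -/
theorem fq_two_le (hA : A ≤ L) : GW.fq 2 L ≤ A := by
  haveI : Fact (Nat.Prime 2) := ⟨Nat.prime_two⟩
  have hp : IsPGroup 2 (GW.fq 2 L ⊔ A : Subgroup G) :=
    IsPGroup.to_sup_of_normal_left' (fq_pgroup 2 L) c.pgroup (hA.trans (fq_norm 2 L))
  exact le_sup_left.trans (c.eq_of_le hp le_sup_right).le

/-- With the second shape, `O_2` is at most the generator of the centraliser. -/
theorem fq_two {w : G} (h : Half A L w) {x : G} (hx : x ∈ GW.fq 2 L) : x = 1 ∨ x = w := by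
  haveI : Fact (Nat.Prime 2) := ⟨Nat.prime_two⟩
  haveI := h.normal
  haveI := Solv.pCore_normal (G := ↥L) 2
  obtain ⟨P, hP⟩ : ∃ P, P = (Cfsg.pCore 2 ↥L).map (pr L) := ⟨_, rfl⟩
  haveI hPn : P.Normal := hP ▸ (inferInstance : (Cfsg.pCore 2 ↥L).Normal).map _ (QuotientGroup.mk'_surjective _)
  have hPp : IsPGroup 2 P := hP ▸ (Solv.pCore_isPGroup (G := ↥L) 2).map _
  haveI := h.simple
  have hbot : P ⊓ KK L = ⊥ := by
    haveI : ((P ⊓ KK L).subgroupOf (KK L)).Normal := inferInstance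
    rcases (inferInstance : ((P ⊓ KK L).subgroupOf (KK L)).Normal).eq_bot_or_eq_top with e | e
    · rw [← map_subgroupOf_eq_of_le (inf_le_right : P ⊓ KK L ≤ KK L), e, Subgroup.map_bot]
    · exfalso
      rw [subgroupOf_eq_top] at e
      haveI := (hPp.to_le (e.trans inf_le_left)).isNilpotent
      exact CoreFree.comp_nonab h.comp ⟨⟨IsSimpleGroup.comm_iff_isSolvable.2 inferInstance⟩⟩
  have hxA := c.fq_two_le h.le hx
  have hxc : pr L ⟨x, h.le hxA⟩ ∈ centralizer (KK L : Set (Lq L)) := by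
    have hxP : pr L ⟨x, h.le hxA⟩ ∈ P := by
      rw [hP]
      obtain ⟨x', hx', rfl⟩ := hx
      exact ⟨x', hx', rfl⟩
    refine mem_centralizer_iff.2 fun k hk => ?_
    exact (Subgroup.commute_of_normal_of_disjoint P (KK L) hPn h.normal (disjoint_iff.2 hbot) _ k hxP hk).eq.symm
  rcases h.cent _ hxc with e | e
  · exact Or.inl (c.pr_eq_one hxA (h.le hxA) e)
  · exact Or.inr (c.pr_inj hxA h.mem (h.le hxA) h.w_mem e)

/-- The layer centralises the generator of the centraliser. -/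
theorem El_le_cent {w : G} (h : Half A L w) : El L ≤ centralizer ({w} : Set G) := fun e he =>
  mem_centralizer_singleton_iff.2 (El_commute (N := Ol L) (Bender.AbelianSolvable.odd_solvable' (Ol_odd L))
    ((El_le L).trans (Ol_norm L)) (fun e' he' => by
      have hm : w * e' * w⁻¹ * e'⁻¹ ∈ El L :=
        mul_mem ((mem_normalizer_iff.1 (El_norm L h.w_mem) _).1 he') (inv_mem he')
      refine ⟨hm, (mem_pr_Ol (El_le L hm)).1 ?_⟩
      rw [show (⟨w * e' * w⁻¹ * e'⁻¹, El_le L hm⟩ : ↥L) = ⟨w, h.w_mem⟩ * ⟨e', El_le L he'⟩ * (⟨w, h.w_mem⟩ : ↥L)⁻¹ *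
        (⟨e', El_le L he'⟩ : ↥L)⁻¹ from rfl, map_mul, map_mul, map_mul, map_inv, map_inv,
        ← mem_center_iff.1 h.wcent, mul_inv_cancel_right, mul_inv_cancel]) he).eq

end Ctx

namespace Fam

variable {mm : G → Subgroup G} (F : Fam A mm) (c : Ctx A)
include F c

theorem fq_conj {d : G} (hd : d ∈ A) (hd1 : d ≠ 1) {g : G} (hg : g * d * g⁻¹ ∈ A) (r : ℕ) [Fact r.Prime] :
    GW.fq r (mm (g * d * g⁻¹)) = (GW.fq r (mm d)).map (MulAut.conj g).toMonoidHom := by
  haveI := c.simple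
  rw [F.conj g d hd hd1 hg, GW.fq_map]

end Fam

end Cfsg.Agent.Walter.R3
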