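import Cfsg.Agent.Lib.Walter.R3.Local
import Cfsg.Agent.Lib.GW.LayerFacts

/-!
# Rank three: subgroups of the quotient with trace four

`gen`: a subgroup of odd order centralising the image of `A` and normalised by the centraliser of an involution
outside the centraliser of the component is trivial. `bl`: a prime power subgroup normalised by an involution and
its centraliser is centralised by it.
-/

set_option autoImplicit false
set_option linter.style.haveILetI false
set_option linter.unusedSectionVars false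

namespace Cfsg.Agent.Walter.R3

open Subgroup Cfsg.Agent.Solv.AbelianTwo

universe u

/-- A subgroup of order four has an element besides `1` and `x`. -/
theorem exists_third {K : Type u} [Group K] [Finite K] {T : Subgroup K} (h4 : Nat.card T = 4) (x : K) :
    ∃ y ∈ T, y ≠ x ∧ y ≠ 1 := by
  classical
  by_contra hno
  push Not at hno
  haveI := Fintype.ofFinite T
  have hsub : (Finset.univ : Finset T).image (Subtype.val : T → K) ⊆ {1, x} := fun y hy => by
    obtain ⟨z, -, rfl⟩ := Finset.mem_image.1 hy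
    by_cases e : (z : K) = x
    · simp [e]
    · simp [hno z z.2 e]
  have := Finset.card_le_card hsub
  rw [Finset.card_image_of_injective _ Subtype.val_injective, Finset.card_univ, ← Nat.card_eq_fintype_card, h4] at this
  have h2 : ({1, x} : Finset K).card ≤ 2 := Finset.card_le_two
  omega

/-- In `PSL₂(5)` the centraliser of a Sylow 2-subgroup has no element of odd order. -/
theorem five_cent {K : Type u} [Group K] [Finite K] [IsSimpleGroup K] (h60 : Nat.card K = 60) (S : Sylow 2 K)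
    (h4 : Nat.card (S : Subgroup K) = 4) (hcyc : Cyc (S : Subgroup K)) {z : K}
    (hz : z ∈ centralizer ((S : Subgroup K) : Set K)) (hzo : Odd (orderOf z)) : z = 1 := by
  haveI : Fact (Nat.Prime 2) := ⟨Nat.prime_two⟩
  by_contra hz1
  obtain ⟨C, hC⟩ : ∃ C, C = centralizer ((S : Subgroup K) : Set K) := ⟨_, rfl⟩
  obtain ⟨N, hN⟩ : ∃ N, N = normalizer ((S : Subgroup K) : Set K) := ⟨_, rfl⟩
  have hCN : C ≤ N := hC ▸ hN ▸ centralizer_le_normalizer _
  have hSC : (S : Subgroup K) ≤ C := hC ▸ fun x hx => mem_centralizer_iff.2 fun y hy => by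
    have hsq := hcyc.sq
    have h1 : y * x * (y * x) = 1 := hsq _ (mul_mem hy hx)
    calc y * x = (y * x)⁻¹ := (inv_eq_of_mul_eq_one_right h1).symm
      _ = x * y := by rw [mul_inv_rev, inv_eq_of_mul_eq_one_right (hsq x hx), inv_eq_of_mul_eq_one_right (hsq y hy)]
  obtain ⟨m, hm⟩ := h4 ▸ card_dvd_of_le hSC
  obtain ⟨i, hi⟩ := card_dvd_of_le hCN
  obtain ⟨j, hj⟩ := h60 ▸ Subgroup.card_subgroup_dvd_card N
  have hm2 : 2 ≤ m := by
    by_contra hlt
    have : m = 1 := by
      rcases m with _ | m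
      · exact absurd hm (by simp [Nat.card_pos.ne'])
      · omega
    subst this
    have heq := Subgroup.eq_of_le_of_card_ge hSC (by omega)
    have hzS : z ∈ (S : Subgroup K) := heq ▸ hC ▸ hz
    exact hz1 (orderOf_eq_one_iff.1 (Nat.eq_one_of_dvd_coprimes hzo.coprime_two_left
      (orderOf_dvd_of_pow_eq_one (by rw [pow_two, hcyc.sq z hzS])) dvd_rfl))
  have hi2 : 2 ≤ i := by
    by_contra hlt
    have : i = 1 := by
      rcases i with _ | i
      · exact absurd hi (by simp [Nat.card_pos.ne'])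
      · omega
    subst this
    have heq := Subgroup.eq_of_le_of_card_ge hCN (by omega)
    obtain ⟨h, hn, -, htr⟩ := hcyc.turn
    have hhC : h ∈ C := heq ▸ hN ▸ hn
    haveI : Nontrivial (S : Subgroup K) := Finite.one_lt_card_iff_nontrivial.1 (by omega)
    obtain ⟨x, hx⟩ := exists_ne (1 : (S : Subgroup K))
    have hx1 : (x : K) ≠ 1 := fun e => hx (Subtype.ext e)
    obtain ⟨y, hy, hyx, hy1⟩ := exists_third h4 (x : K)
    obtain ⟨e, he⟩ := htr x x.2 hx1 y hy hy1
    refine hyx (he.symm.trans ?_)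
    have h1 := mem_centralizer_iff.1 (show h ^ e ∈ centralizer ((S : Subgroup K) : Set K) from hC ▸ pow_mem hhC e) x x.2
    rw [← h1, mul_inv_cancel_right]
  have hmij : m * i * j = 15 := by
    have h1 : 4 * (m * i * j) = 4 * 15 := by
      calc 4 * (m * i * j) = 4 * m * i * j := by ring
        _ = 4 * 15 := by rw [← hm, ← hi, ← hj]
    exact Nat.eq_of_mul_eq_mul_left (by norm_num) h1
  have hNtop : N = ⊤ := by
    refine Subgroup.eq_top_of_card_eq N ?_
    have hm15 : m ∣ 15 := ⟨i * j, by rw [← hmij]; ring⟩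
    have hi15 : i ∣ 15 := ⟨m * j, by rw [← hmij]; ring⟩
    have hj1 : j = 1 := by
      have hmi : 4 ≤ m * i := Nat.mul_le_mul hm2 hi2
      have hjle : j ≤ 3 := by
        have := Nat.mul_le_mul_right j hmi
        omega
      interval_cases j <;> try omega
      have hd : m ∣ 5 := ⟨i, by omega⟩
      rcases (Nat.dvd_prime (by norm_num : Nat.Prime 5)).1 hd with rfl | rfl <;> omega
    rw [h60, hj, hj1, mul_one]
  rw [hN] at hNtop
  haveI : (S : Subgroup K).Normal := normalizer_eq_top_iff.1 hNtop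
  rcases (inferInstance : (S : Subgroup K).Normal).eq_bot_or_eq_top with h | h
  · rw [h, card_bot] at h4; omega
  · rw [h, card_top, h60] at h4; omega

/-- The centraliser of a Sylow 2-subgroup of `PSL₂(q)`, `q ≡ 3, 5 (mod 8)`. -/
theorem four_facts {K : Type u} [Group K] [Finite K] [IsSimpleGroup K] (hna : ¬ IsMulCommutative K) {F : Type}
    [Field F] [Fintype F] (h35 : Fintype.card F % 8 = 3 ∨ Fintype.card F % 8 = 5) (h5 : 5 ≤ Fintype.card F)
    (e : K ≃* Matrix.ProjectiveSpecialLinearGroup (Fin 2) F) (S : Sylow 2 K) (hcyc : Cyc (S : Subgroup K))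
    {z : K} (hz : ∀ q ∈ (S : Subgroup K), Commute z q) :
    (Odd (orderOf z) → z = 1) ∧ (5 < Fintype.card F → z ∈ (S : Subgroup K)) := by
  haveI : Fact (Nat.Prime 2) := ⟨Nat.prime_two⟩
  have h4 := psl_four h35 e S
  have big : 5 < Fintype.card F → z * z = 1 := by
    intro h6
    haveI : Nontrivial (S : Subgroup K) := Finite.one_lt_card_iff_nontrivial.1 (by omega)
    obtain ⟨x0, hx0⟩ := exists_ne (1 : (S : Subgroup K))
    have hx1 : (x0 : K) ≠ 1 := fun e' => hx0 (Subtype.ext e')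
    obtain ⟨hco, n, ⟨j⟩⟩ := cent_coatom h35 h6 e hcyc (hcyc.sq x0 x0.2) hx1
    obtain ⟨h, hn, -, htr⟩ := hcyc.turn
    -- some element of `S` is not central in the centraliser
    obtain ⟨y, hy, hyc⟩ : ∃ y ∈ (S : Subgroup K), ∃ g ∈ centralizer ({(x0 : K)} : Set K), g * y ≠ y * g := by
      by_contra hno
      push Not at hno
      have heq : ∀ y ∈ (S : Subgroup K), y ≠ 1 → centralizer ({(x0 : K)} : Set K) = centralizer ({y} : Set K) := by
        intro y hy hy1
        have hle : centralizer ({(x0 : K)} : Set K) ≤ centralizer ({y} : Set K) := fun g hg =>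
          mem_centralizer_singleton_iff.2 (hno y hy g hg)
        refine hle.eq_or_lt.resolve_right fun hlt => ?_
        have hc : y ∈ center K := mem_center_iff.2 fun g =>
          mem_centralizer_singleton_iff.1 ((hco.2 _ hlt).symm ▸ mem_top g)
        rcases (inferInstance : (center K).Normal).eq_bot_or_eq_top with h' | h'
        · rw [h', mem_bot] at hc
          exact hy1 hc
        · exact hna ⟨⟨fun a b => mem_center_iff.1 (h' ▸ mem_top b) a⟩⟩
      have hN : h ∈ normalizer (centralizer ({(x0 : K)} : Set K) : Set K) := by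
        refine mem_normalizer_fintype fun g hg => ?_
        have hx' : h * x0 * h⁻¹ ∈ (S : Subgroup K) := (mem_normalizer_iff.1 hn _).1 x0.2
        rw [SetLike.mem_coe, heq _ hx' fun e' => hx1 (conj_eq_one_iff.1 e'), mem_centralizer_singleton_iff]
        calc h * g * h⁻¹ * (h * x0 * h⁻¹) = h * (g * x0) * h⁻¹ := by group
          _ = h * x0 * h⁻¹ * (h * g * h⁻¹) := by rw [mem_centralizer_singleton_iff.1 hg]; group
      by_cases hhC : h ∈ centralizer ({(x0 : K)} : Set K)
      · obtain ⟨y, hy, hyx, hy1⟩ := exists_third h4 (x0 : K)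
        obtain ⟨i, hi⟩ := htr x0 x0.2 hx1 y hy hy1
        refine hyx (hi.symm.trans ?_)
        rw [mem_centralizer_singleton_iff.1 (pow_mem hhC i), mul_inv_cancel_right]
      · haveI : (centralizer ({(x0 : K)} : Set K)).Normal := by
          refine normalizer_eq_top_iff.1 (hco.2 _ (lt_of_le_of_ne le_normalizer fun e' => hhC (e' ▸ hN)))
        rcases (inferInstance : (centralizer ({(x0 : K)} : Set K)).Normal).eq_bot_or_eq_top with h' | h'
        · have h1 : (x0 : K) ∈ centralizer ({(x0 : K)} : Set K) := mem_centralizer_singleton_iff.2 rfl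
          rw [h', mem_bot] at h1
          exact hx1 h1
        · exact hco.1 h'
    have hzC : z ∈ centralizer ({(x0 : K)} : Set K) := mem_centralizer_singleton_iff.2 (hz x0 x0.2).eq
    have hyC : y ∈ centralizer ({(x0 : K)} : Set K) := mem_centralizer_singleton_iff.2 (by
      have h1 := hcyc.sq _ (mul_mem hy x0.2)
      calc y * x0 = (y * x0)⁻¹ := (inv_eq_of_mul_eq_one_right h1).symm
        _ = x0 * y := by
          rw [mul_inv_rev, inv_eq_of_mul_eq_one_right (hcyc.sq _ x0.2), inv_eq_of_mul_eq_one_right (hcyc.sq y hy)])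
    obtain ⟨g, hg, hgy⟩ := hyc
    have h1 := dihedral_sq (r := j ⟨z, hzC⟩) (y := j ⟨y, hyC⟩)
      (by rw [← map_mul, show (⟨y, hyC⟩ : centralizer ({(x0 : K)} : Set K)) * ⟨y, hyC⟩ = 1 from
        Subtype.ext (hcyc.sq y hy), map_one])
      ⟨j ⟨g, hg⟩, fun e' => hgy (congrArg Subtype.val (j.injective (a₁ := (⟨g, hg⟩ : centralizer ({(x0 : K)} : Set K)) * ⟨y, hyC⟩) (a₂ := ⟨y, hyC⟩ * ⟨g, hg⟩) (by rw [map_mul, map_mul]; exact e')))⟩
      ((show Commute (⟨z, hzC⟩ : centralizer ({(x0 : K)} : Set K)) ⟨y, hyC⟩ from Subtype.ext (hz y hy).eq).map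
        j.toMonoidHom)
    rw [← map_mul] at h1
    exact congrArg Subtype.val (j.injective (h1.trans (map_one j).symm))
  refine ⟨fun hzo => ?_, fun h6 => ?_⟩
  · rcases eq_or_lt_of_le h5 with h6 | h6
    · refine five_cent ?_ S h4 hcyc (mem_centralizer_iff.2 fun q hq => (hz q hq).eq.symm) hzo
      haveI : Finite (Matrix.ProjectiveSpecialLinearGroup (Fin 2) F) := Finite.of_surjective _ Small.PSL2.pr_surjective
      have hc := Classical.Dickson.card_psl F
      rw [← h6, ← Nat.card_congr e.toEquiv] at hc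
      norm_num at hc
      omega
    · exact orderOf_eq_one_iff.1 (Nat.eq_one_of_dvd_coprimes hzo.coprime_two_left
        (orderOf_dvd_of_pow_eq_one (by rw [pow_two, big h6])) dvd_rfl)
  · have hp : IsPGroup 2 (zpowers z ⊔ (S : Subgroup K) : Subgroup K) := by
      refine IsPGroup.to_sup_of_normal_left' ?_ S.isPGroup' ?_
      · refine IsPGroup.iff_card.2 ?_
        rw [Nat.card_zpowers]
        obtain ⟨i, -, hi⟩ := (Nat.dvd_prime_pow Nat.prime_two).1
          (orderOf_dvd_of_pow_eq_one (show z ^ 2 ^ 1 = 1 by rw [pow_one, pow_two, big h6]))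
        exact ⟨i, hi⟩
      · refine le_trans (fun q hq => mem_centralizer_iff.2 fun g hg => ?_) (centralizer_le_normalizer _)
        obtain ⟨i, rfl⟩ := mem_zpowers_iff.1 hg
        exact ((hz q hq).zpow_left i).eq
    exact (S.is_maximal' hp le_sup_right).le (mem_sup_left (mem_zpowers z))

variable {G : Type u} [Group G] [Finite G] {A L : Subgroup G}

/-- An element of odd order commutes with what its square commutes with. -/
theorem commute_of_sq' {X : Type*} [Group X] {r k : X} (hr : Odd (orderOf r)) (h : Commute (r * r) k) : Commute r k := by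
  obtain ⟨j, hj⟩ := exists_pow_eq_self_of_coprime hr.coprime_two_left
  rw [← hj, pow_two]
  exact h.pow_left j

namespace Ctx

variable (c : Ctx A)
include c

/-- Outside the centraliser: the part in the component. -/
theorem part {w : G} (h : Half A L w) {a : G} (ha : a ∈ A) (ha1 : a ≠ 1) (hw : a ≠ w) :
    ∃ x ∈ tr L A, x ≠ 1 ∧ ∀ k : Lq L, Commute k (pr L ⟨a, h.le ha⟩) ↔
      ∀ hx : x ∈ L, Commute k (pr L ⟨x, hx⟩) := by
  rcases h.split a ha with hat | hat
  · exact ⟨a, hat, ha1, fun k => ⟨fun e _ => e, fun e => e _⟩⟩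
  refine ⟨w * a, hat, fun e => hw ?_, fun k => ?_⟩
  · have := eq_inv_of_mul_eq_one_right e
    rwa [c.inv h.mem] at this
  have hwk : Commute k (pr L ⟨w, h.w_mem⟩) := mem_center_iff.1 h.wcent k
  constructor
  · intro e hx
    rw [show (⟨w * a, hx⟩ : ↥L) = ⟨w, h.w_mem⟩ * ⟨a, h.le ha⟩ from rfl, map_mul]
    exact hwk.mul_right e
  · intro e
    have h1 := hwk.mul_right (e (L.mul_mem h.w_mem (h.le ha)))
    rw [← map_mul, show (⟨w, h.w_mem⟩ : ↥L) * ⟨w * a, L.mul_mem h.w_mem (h.le ha)⟩ = ⟨a, h.le ha⟩ from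
      Subtype.ext (by show w * (w * a) = a; rw [← mul_assoc, c.sq h.mem, one_mul])] at h1
    exact h1

/-- A subgroup of odd order centralising the image of `A`, normalised by the centraliser of an involution. -/
theorem gen {w : G} (h : Half A L w) {a : G} (ha : a ∈ A) (ha1 : a ≠ 1) (hw : a ≠ w) {R : Subgroup (Lq L)}
    (hodd : Odd (Nat.card R)) (hc : ∀ r ∈ R, ∀ d (hd : d ∈ A), Commute r (pr L ⟨d, h.le hd⟩))
    (hn : ∀ x : Lq L, Commute x (pr L ⟨a, h.le ha⟩) → x ∈ normalizer (R : Set (Lq L))) : R = ⊥ := by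
  classical
  haveI : Fact (Nat.Prime 2) := ⟨Nat.prime_two⟩
  haveI := h.simple
  haveI := h.normal
  obtain ⟨F, iF, iT, h35, h5, ⟨iso⟩⟩ := c.model h
  obtain ⟨x, hxt, hx1, hxc⟩ := c.part h ha ha1 hw
  obtain ⟨y, hyt, hyx, hy1⟩ := exists_third h.four x
  obtain ⟨P, hP⟩ := c.sylow_quot h.le
  obtain ⟨Q, hQ⟩ := (CoreFree.comp_sylIn h.comp P).exists_sylow_subgroupOf
  have hcyc : Cyc (Q : Subgroup (KK L)) :=
    cyc_of_ktype (of_injective h.core.ab (KK L).subtype (KK L).subtype_injective) h.ktype Q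
  have hQmem : ∀ z : KK L, z ∈ (Q : Subgroup (KK L)) ↔ ∃ d ∈ tr L A, ∀ hd : d ∈ L, (z : Lq L) = pr L ⟨d, hd⟩ := by
    intro z
    rw [hQ, mem_subgroupOf, mem_inf, and_iff_left z.2, show ((z : Lq L) ∈ (P : Subgroup (Lq L))) ↔
      (z : Lq L) ∈ (A.subgroupOf L).map (pr L) by rw [← hP]]
    constructor
    · rintro ⟨d, hd, he⟩
      exact ⟨d, (mem_tr d.2).2 ⟨he ▸ z.2, hd⟩, fun _ => he.symm⟩
    · rintro ⟨d, hd, he⟩
      exact ⟨⟨d, h.le (tr_le L A hd)⟩, tr_le L A hd, (he _).symm⟩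
  obtain ⟨X, hX⟩ : ∃ X : KK L, (X : Lq L) = pr L ⟨x, h.le (tr_le L A hxt)⟩ :=
    ⟨⟨_, ((mem_tr (h.le (tr_le L A hxt))).1 hxt).1⟩, rfl⟩
  obtain ⟨Y, hY⟩ : ∃ Y : KK L, (Y : Lq L) = pr L ⟨y, h.le (tr_le L A hyt)⟩ :=
    ⟨⟨_, ((mem_tr (h.le (tr_le L A hyt))).1 hyt).1⟩, rfl⟩
  have hXQ : X ∈ (Q : Subgroup (KK L)) := (hQmem X).2 ⟨x, hxt, fun _ => hX⟩
  have hYQ : Y ∈ (Q : Subgroup (KK L)) := (hQmem Y).2 ⟨y, hyt, fun _ => hY⟩
  have hX1 : X ≠ 1 := fun e => hx1 (c.pr_eq_one (tr_le L A hxt) _ (hX.symm.trans (congrArg Subtype.val e)))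
  have hY1 : Y ≠ 1 := fun e => hy1 (c.pr_eq_one (tr_le L A hyt) _ (hY.symm.trans (congrArg Subtype.val e)))
  have hXY : Y ≠ X := fun e => hyx (c.pr_inj (tr_le L A hyt) (tr_le L A hxt) _ _
    (hY.symm.trans ((congrArg Subtype.val e).trans hX)))
  have hRQ : ∀ r ∈ R, ∀ q : KK L, q ∈ (Q : Subgroup (KK L)) → Commute r (q : Lq L) := by
    intro r hr q hq
    obtain ⟨d, hd, he⟩ := (hQmem q).1 hq
    rw [he (h.le (tr_le L A hd))]
    exact hc r hr d (tr_le L A hd)
  have hcX : ∀ k : KK L, Commute k X → (k : Lq L) ∈ normalizer (R : Set (Lq L)) := fun k hk =>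
    hn _ ((hxc _).2 fun hx => (show (pr L ⟨x, hx⟩ : Lq L) = X from hX.symm) ▸ congrArg Subtype.val hk.eq)
  have hKne : ¬ IsMulCommutative (KK L) := CoreFree.comp_nonab h.comp
  have hRK : ∀ r ∈ R, r ∈ KK L → r = 1 := fun r hr hrK => congrArg Subtype.val
    ((four_facts hKne h35 h5 iso Q hcyc (z := ⟨r, hrK⟩) fun q hq => Subtype.ext (hRQ r hr q hq).eq).1
      (by rw [Subgroup.orderOf_mk]; exact hodd.of_dvd_nat (orderOf_dvd_natCard R hr)))
  refine (Subgroup.eq_bot_iff_forall R).2 fun r hr => ?_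
  have hro : Odd (orderOf r) := hodd.of_dvd_nat (orderOf_dvd_natCard R hr)
  rcases eq_or_lt_of_le h5 with h6 | h6
  · -- automorphisms of odd order are inner
    refine hRK r hr ?_
    haveI : Finite (Matrix.ProjectiveSpecialLinearGroup (Fin 2) F) := Finite.of_surjective _ Small.PSL2.pr_surjective
    haveI : Fact (Nat.Prime 5) := ⟨by norm_num⟩
    obtain ⟨φ, -, -, hφk⟩ := S2602.result (F := F) (p := 5) (f := 1) le_rfl (by rw [← h6]; norm_num) (by norm_num)
    let ψ : Lq L →* Cfsg.Out (Matrix.ProjectiveSpecialLinearGroup (Fin 2) F) :=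
      (QuotientGroup.mk' _).comp ((MulAut.congr iso).toMonoidHom.comp MulAut.conjNormal)
    have hk : ψ r ∈ φ.ker := Subsingleton.elim _ _
    have hψ : ψ r = 1 := by
      have h1 : orderOf (ψ r) ∣ 2 := by
        rw [← Subgroup.orderOf_mk _ hk]
        refine (_root_.orderOf_dvd_natCard _).trans ?_
        rw [hφk]
        exact Nat.gcd_dvd_left _ _
      exact orderOf_eq_one_iff.1 (Nat.eq_one_of_dvd_coprimes hro.coprime_two_left h1 (orderOf_map_dvd ψ r))
    obtain ⟨m, hm⟩ := (QuotientGroup.eq_one_iff _).1 hψ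
    obtain ⟨k, rfl⟩ := iso.surjective m
    have hc' : (k : Lq L)⁻¹ * r ∈ centralizer (KK L : Set (Lq L)) := mem_centralizer_iff.2 fun b hb => by
      have h1 := DFunLike.congr_fun hm.symm (iso ⟨b, hb⟩)
      simp [MulAut.congr] at h1
      rw [← map_inv, ← map_mul, ← map_mul] at h1
      have h2 := congrArg Subtype.val (iso.injective h1)
      simp at h2
      calc b * ((k : Lq L)⁻¹ * r) = (k : Lq L)⁻¹ * ((k : Lq L) * b * (k : Lq L)⁻¹) * r := by group
        _ = (k : Lq L)⁻¹ * (r * b * r⁻¹) * r := by rw [h2]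
        _ = (k : Lq L)⁻¹ * r * b := by group
    have hsq : r * r ∈ KK L := by
      rcases h.cent _ hc' with e | e
      · rw [← inv_mul_eq_one.1 e]
        exact mul_mem k.2 k.2
      · have hr' : r = k * pr L ⟨w, h.w_mem⟩ := inv_mul_eq_iff_eq_mul.1 e
        rw [hr', mul_assoc, ← mul_assoc (pr L ⟨w, h.w_mem⟩), ← mem_center_iff.1 h.wcent (k : Lq L), mul_assoc (k : Lq L) _ _,
          ← map_mul, show (⟨w, h.w_mem⟩ : ↥L) * ⟨w, h.w_mem⟩ = 1 from Subtype.ext (c.sq h.mem), map_one, mul_one]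
        exact mul_mem k.2 k.2
    obtain ⟨j, hj⟩ := exists_pow_eq_self_of_coprime hro.coprime_two_left
    rw [← hj, pow_two]
    exact pow_mem hsq j
  -- it centralises a maximal subgroup and a further element
  obtain ⟨hco, -⟩ := cent_coatom h35 h6 iso hcyc (hcyc.sq X hXQ) hX1
  obtain ⟨k, hk, hke, hkn⟩ := c.turn h.toBase hxt hx1 hyt hy1
  have hkP : k ∈ normalizer ((P : Subgroup (Lq L)) : Set (Lq L)) := mem_normalizer_fintype fun p hp => by
    obtain ⟨d, hd, rfl⟩ := hP.le hp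
    obtain ⟨d', hd', he⟩ := hkn d hd
    rw [SetLike.mem_coe, hP, show (⟨(d : G), h.le hd⟩ : ↥L) = d from rfl] at *
    exact ⟨⟨d', h.le hd'⟩, hd', he.symm⟩
  have hrP : ∀ p ∈ (P : Subgroup (Lq L)), Commute r p := by
    intro p hp
    obtain ⟨d, hd, rfl⟩ := hP.le hp
    exact hc r hr d hd
  have hCr : ∀ b : KK L, Commute b X → Commute r (b : Lq L) := by
    intro b hb
    have h1 : r * b * r⁻¹ * (b : Lq L)⁻¹ = 1 := by
      refine hRK _ ?_ (mul_mem (h.normal.conj_mem _ b.2 r) (inv_mem b.2))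
      rw [mul_assoc, mul_assoc r, ← mul_assoc (b : Lq L)]
      exact mul_mem hr ((mem_normalizer_iff.1 (hcX b hb) _).1 (inv_mem hr))
    rwa [mul_inv_eq_one, mul_inv_eq_iff_eq_mul] at h1
  have hkr : Commute r k := by
    obtain ⟨z, hz⟩ : ∃ z, z = r * k * r⁻¹ * k⁻¹ := ⟨_, rfl⟩
    have hzK : z ∈ KK L := hz ▸ mul_mem (h.normal.conj_mem _ hk r) (inv_mem hk)
    have hzc : ∀ p ∈ (P : Subgroup (Lq L)), Commute z p := by
      intro p hp
      have hp' : k⁻¹ * p * k ∈ (P : Subgroup (Lq L)) := by simpa using (mem_normalizer_iff.1 (inv_mem hkP) p).1 hp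
      have h1 : k * r * k⁻¹ * p = p * (k * r * k⁻¹) := by
        calc k * r * k⁻¹ * p = k * (r * (k⁻¹ * p * k)) * k⁻¹ := by group
          _ = k * (k⁻¹ * p * k * r) * k⁻¹ := by rw [(hrP _ hp').eq]
          _ = p * (k * r * k⁻¹) := by group
      rw [hz, show r * k * r⁻¹ * k⁻¹ = r * (k * r * k⁻¹)⁻¹ by group]
      exact (hrP p hp).mul_left (show Commute (k * r * k⁻¹) p from h1).inv_left
    have hzQ := (four_facts hKne h35 h5 iso Q hcyc (z := ⟨z, hzK⟩) fun q hq => Subtype.ext (hzc q (by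
      rw [hQ, mem_subgroupOf] at hq; exact hq.1)).eq).2 h6
    rw [hQ, mem_subgroupOf] at hzQ
    have hrz := hrP z hzQ.1
    have hk1 : r * k * r⁻¹ = z * k := by rw [hz]; group
    have hz2 : z * z = 1 := congrArg Subtype.val (hcyc.sq ⟨z, hzK⟩ (by rw [hQ, mem_subgroupOf]; exact hzQ))
    refine commute_of_sq' hro ?_
    show r * r * k = k * (r * r)
    calc r * r * k = r * (r * k * r⁻¹) * r := by group
      _ = r * (z * k) * r := by rw [hk1]
      _ = z * (r * k * r⁻¹) * (r * r) := by rw [← mul_assoc, hrz.eq]; group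
      _ = k * (r * r) := by rw [hk1, ← mul_assoc z, hz2, one_mul]
  obtain ⟨M, hM⟩ : ∃ M : Subgroup (KK L), M = (centralizer ({r} : Set (Lq L))).subgroupOf (KK L) := ⟨_, rfl⟩
  have hle : centralizer ({X} : Set (KK L)) < M := by
    refine lt_of_le_of_ne (fun b hb => ?_) fun e => ?_
    · rw [hM, mem_subgroupOf, mem_centralizer_singleton_iff]
      exact (hCr b (mem_centralizer_singleton_iff.1 hb)).eq.symm
    · have hkM : (⟨k, hk⟩ : KK L) ∈ M := by
        rw [hM, mem_subgroupOf, mem_centralizer_singleton_iff]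
        exact hkr.eq.symm
      rw [← e, mem_centralizer_singleton_iff] at hkM
      refine hXY (Subtype.ext ?_)
      rw [hY, ← hke, ← hX, show k * (X : Lq L) = X * k from congrArg Subtype.val hkM, mul_inv_cancel_right]
  have htop := hco.2 _ hle
  have hrc : r ∈ centralizer (KK L : Set (Lq L)) := mem_centralizer_iff.2 fun b hb => by
    have hbM : (⟨b, hb⟩ : KK L) ∈ M := htop ▸ mem_top _
    rw [hM, mem_subgroupOf, mem_centralizer_singleton_iff] at hbM
    exact hbM
  rcases h.cent r hrc with e | e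
  · exact e
  · refine orderOf_eq_one_iff.1 (Nat.eq_one_of_dvd_coprimes hro.coprime_two_left (orderOf_dvd_of_pow_eq_one ?_) dvd_rfl)
    rw [pow_two, e, ← map_mul, show (⟨w, h.w_mem⟩ : ↥L) * ⟨w, h.w_mem⟩ = 1 from Subtype.ext (c.sq h.mem), map_one]

/-- An element cannot move an involution outside the centraliser by the generator of the centraliser. -/
theorem no_shift {w : G} (h : Half A L w) {a : G} (ha : a ∈ A) (f : Lq L)
    (hf : f * pr L ⟨a, h.le ha⟩ * f⁻¹ * (pr L ⟨a, h.le ha⟩)⁻¹ ∈ centralizer (KK L : Set (Lq L))) :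
    Commute f (pr L ⟨a, h.le ha⟩) := by
  haveI := h.normal
  set α := pr L ⟨a, h.le ha⟩ with hα
  set ω := pr L ⟨w, h.w_mem⟩ with hω
  rcases h.cent _ hf with e | e
  · rwa [mul_inv_eq_one, mul_inv_eq_iff_eq_mul] at e
  exfalso
  rw [← hω] at e
  have hωf : ω * f = f * ω := (mem_center_iff.1 h.wcent f).symm
  have hmem : ω ∈ KK L := by
    rcases h.split a ha with hat | hat
    · have hαK : α ∈ KK L := ((mem_tr (h.le ha)).1 hat).1
      rw [← e]
      exact mul_mem (h.normal.conj_mem _ hαK f) (inv_mem hαK)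
    · obtain ⟨β, hβ⟩ : ∃ β, β = ω * α := ⟨_, rfl⟩
      have hβK : β ∈ KK L := by
        rw [hβ, hω, hα, ← map_mul]
        exact ((mem_tr (L.mul_mem h.w_mem (h.le ha))).1 hat).1
      have e' : f * β * f⁻¹ * β⁻¹ = ω := by
        rw [hβ]
        refine Eq.trans ?_ e
        calc f * (ω * α) * f⁻¹ * (ω * α)⁻¹ = (f * ω) * α * f⁻¹ * α⁻¹ * ω⁻¹ := by group
          _ = ω * (f * α * f⁻¹ * α⁻¹) * ω⁻¹ := by rw [← hωf]; group
          _ = f * α * f⁻¹ * α⁻¹ := by rw [e]; group
      rw [← e']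
      exact mul_mem (h.normal.conj_mem _ hβK f) (inv_mem hβK)
  have h1 : w ∈ tr L A := (mem_tr h.w_mem).2 ⟨hmem, h.mem⟩
  exact h.notmem h1

/-- A prime power subgroup normalised by an involution and its centraliser is centralised by it. -/
theorem bl {w : G} (h : Half A L w) {a : G} (ha : a ∈ A) {l : ℕ} [Fact l.Prime] (hl : l ≠ 2)
    {Q : Subgroup (Lq L)} (hQ : IsPGroup l Q) (haQ : pr L ⟨a, h.le ha⟩ ∈ normalizer (Q : Set (Lq L)))
    (hn : ∀ x : Lq L, Commute x (pr L ⟨a, h.le ha⟩) → x ∈ normalizer (Q : Set (Lq L))) {f : Lq L} (hf : f ∈ Q) :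
    Commute f (pr L ⟨a, h.le ha⟩) := by
  haveI := h.normal
  obtain ⟨C, hC⟩ : ∃ C, C = centralizer (KK L : Set (Lq L)) := ⟨_, rfl⟩
  haveI : C.Normal := hC ▸ Solv.centralizer_normal_of_normal _
  obtain ⟨F, iF, iT, h35, h5, ⟨iso⟩⟩ := c.model h
  have hinj : ∀ k ∈ KK L, k ∈ C → k = 1 := fun k hk hkC => by
    have h2 : (⟨k, hk⟩ : KK L) ∈ center (KK L) := mem_center_iff.2 fun z =>
      Subtype.ext (mem_centralizer_iff.1 (hC ▸ hkC : k ∈ centralizer (KK L : Set (Lq L))) z z.2)
    rw [h.core.comp_center h.comp, mem_bot] at h2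
    exact congrArg Subtype.val h2
  obtain ⟨π, hπ⟩ : ∃ π : Lq L →* Lq L ⧸ C, π = QuotientGroup.mk' C := ⟨_, rfl⟩
  have hπs : Function.Surjective π := hπ ▸ QuotientGroup.mk'_surjective C
  have hπk : ∀ x, π x = 1 ↔ x ∈ C := fun x => hπ ▸ QuotientGroup.eq_one_iff x
  haveI : ((KK L).map π).Normal := Subgroup.Normal.map h.normal π hπs
  let e : KK L ≃* (KK L).map π := MulEquiv.ofBijective (π.subgroupMap (KK L))
    ⟨(injective_iff_map_eq_one _).2 fun k hk => Subtype.ext (hinj k k.2 ((hπk k).1 (congrArg Subtype.val hk))),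
      MonoidHom.subgroupMap_surjective _ _⟩
  have hcent : centralizer (((KK L).map π : Subgroup _) : Set (Lq L ⧸ C)) = ⊥ := by
    refine (Subgroup.eq_bot_iff_forall _).2 fun y hy => ?_
    obtain ⟨x, rfl⟩ := hπs y
    refine (hπk x).2 (hC ▸ mem_centralizer_iff.2 fun k hk => ?_)
    have h1 : x * k * x⁻¹ * k⁻¹ = 1 := by
      refine hinj _ (mul_mem (h.normal.conj_mem _ hk x) (inv_mem hk)) ((hπk _).1 ?_)
      rw [map_mul, map_mul, map_mul, map_inv, map_inv, ← mem_centralizer_iff.1 hy (π k) ⟨k, hk, rfl⟩]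
      group
    rw [mul_inv_eq_one, mul_inv_eq_iff_eq_mul] at h1
    exact h1.symm
  have hmod : GW.Reduced.IsModel ((KK L).map π) :=
    Or.inl ⟨F, iF, iT, Nat.odd_iff.2 (by omega), by omega, ⟨e.symm.trans iso⟩⟩
  have hcomm : ∀ x, Commute (π x) (π (pr L ⟨a, h.le ha⟩)) → Commute x (pr L ⟨a, h.le ha⟩) := fun x hx =>
    c.no_shift h ha x (hC ▸ (hπk _).1 (by
      rw [map_mul, map_mul, map_mul, map_inv, map_inv, hx.eq]; group))
  refine hcomm f (GW.centralises_of_model hmod hcent (a := π (pr L ⟨a, h.le ha⟩)) ?_ hl (hQ.map π)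
    (le_normalizer_map π ⟨_, haQ, rfl⟩) (fun y hy => ?_) ⟨f, hf, rfl⟩)
  · rw [← map_mul, ← map_mul, show (⟨a, h.le ha⟩ : ↥L) * ⟨a, h.le ha⟩ = 1 from Subtype.ext (c.sq ha), map_one, map_one]
  · obtain ⟨x, rfl⟩ := hπs y
    exact le_normalizer_map π ⟨x, hn x (hcomm x hy), rfl⟩

end Ctx

end Cfsg.Agent.Walter.R3
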