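import Cfsg.Agent.Lib.Walter.R3.Eigen

/-!
# Rank three: a maximal subgroup over the normaliser of an element in many prime cores
-/

set_option autoImplicit false
set_option linter.style.haveILetI false
set_option linter.unusedSectionVars false

namespace Cfsg.Agent.Walter.R3

open Subgroup Cfsg.Agent.Solv.AbelianTwo

universe u

variable {G : Type u} [Group G] [Finite G] {A : Subgroup G} {t : G}

theorem fitting_bot {L : Subgroup G} (h : ∀ r : ℕ, r.Prime → Cfsg.pCore r ↥L = ⊥) :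
    Cfsg.fittingSubgroup ↥L = ⊥ := by
  rw [Solv.fitting_eq_iSup_pCore, eq_bot_iff]
  exact iSup_le fun r => (h r r.2).le

theorem fit_le {L N : Subgroup G} (h : ∀ r : ℕ, r.Prime → GW.fq r L ≤ N) :
    (Cfsg.fittingSubgroup ↥L).map L.subtype ≤ N := by
  rw [Solv.fitting_eq_iSup_pCore, Subgroup.map_iSup, iSup_le_iff]
  exact fun r => h r r.2

theorem gfit_le {L N : Subgroup G} (hE : El L ≤ N) (hF : (Cfsg.fittingSubgroup ↥L).map L.subtype ≤ N) :
    (Cfsg.generalizedFittingSubgroup ↥L).map L.subtype ≤ N := by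
  rw [Cfsg.generalizedFittingSubgroup, Subgroup.map_sup]
  exact sup_le hE hF

/-- A group with a prime core for two primes is not of prime power generalised Fitting subgroup. -/
theorem not_pgroup [IsSimpleGroup G] {L : Subgroup G} {p q : ℕ} (hp : p.Prime) (hq : q.Prime) (hne : p ≠ q)
    (h1 : Cfsg.pCore p ↥L ≠ ⊥) (h2 : Cfsg.pCore q ↥L ≠ ⊥) :
    ¬ ∃ r : ℕ, r.Prime ∧ IsPGroup r ↥(Cfsg.generalizedFittingSubgroup ↥L) := by
  rintro ⟨r, hr, hrg⟩
  haveI := Fact.mk hr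
  obtain ⟨i, hi⟩ := IsPGroup.iff_card.1 (hrg.to_le (le_sup_right : Cfsg.fittingSubgroup ↥L ≤ _))
  have a := (BenderUniq.core_dvd (M := L) hp).2 h1
  have b := (BenderUniq.core_dvd (M := L) hq).2 h2
  rw [hi] at a b
  exact hne (((Nat.prime_dvd_prime_iff_eq hp hr).1 (hp.dvd_of_dvd_pow a)).trans
    ((Nat.prime_dvd_prime_iff_eq hq hr).1 (hq.dvd_of_dvd_pow b)).symm)

theorem El_eq_bot {L : Subgroup G} : El L = ⊥ ↔ Cfsg.layer ↥L = ⊥ :=
  Subgroup.map_eq_bot_iff_of_injective _ L.subtype_injective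

namespace Fam

variable {mm : G → Subgroup G} (F : Fam A mm) (c : Ctx A) (hsol : ∀ (X : Type u) [Group X] [Finite X], SEB.Sol X)
include F c hsol

/-- The layer of a maximal subgroup over `N(⟨g⟩)` lies in none of the members. -/
theorem lstep (ht : t ∈ A) (ht1 : t ≠ 1) (hlay : ∀ d ∈ A, d ≠ 1 → El (mm d) = ⊥) {s : ℕ} [Fact s.Prime]
    (hs2 : s ≠ 2) {g : G} (hg1 : g ≠ 1) (hAg : A ≤ normalizer (zpowers g : Set G)) {Λ : Subgroup G} (hΛ : Λ ≤ A)
    (hΛ4 : Nat.card Λ = 4) (htΛ : t ∉ Λ) (hgt : g ∈ GW.fq s (mm t))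
    (hgΛ : ∀ d ∈ Λ, d ≠ 1 → g ∈ GW.fq s (mm d)) {L : Subgroup G} (hL : IsCoatom L)
    (hle : normalizer (zpowers g : Set G) ≤ L) {d₀ : G} (hd₀ : d₀ = t ∨ (d₀ ∈ Λ ∧ d₀ ≠ 1)) :
    ¬ El L ≤ mm d₀ := by
  haveI := c.simple
  have hG := c.min.nonab
  have hD : ∀ d, d = t ∨ (d ∈ Λ ∧ d ≠ 1) → d ∈ A ∧ d ≠ 1 ∧ g ∈ GW.fq s (mm d) := by
    rintro d (rfl | ⟨hd, hd1⟩)
    · exact ⟨ht, ht1, hgt⟩
    · exact ⟨hΛ hd, hd1, hgΛ d hd hd1⟩
  have hgL : g ∈ L := hle (le_normalizer (mem_zpowers g))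
  have hAL : A ≤ L := hAg.trans hle
  have hlead : ∀ d, d = t ∨ (d ∈ Λ ∧ d ≠ 1) → Cfsg.leadsTo (mm d) L := fun d hd =>
    ⟨zpowers g, by rwa [ne_eq, zpowers_eq_bot], zpowers_le.2 (fq_le_fit _ (hD d hd).2.2), inf_le_right.trans hle⟩
  have hne : ∀ d, d = t ∨ (d ∈ Λ ∧ d ≠ 1) → Cfsg.pCore s ↥(mm d) ≠ ⊥ := fun d hd h0 => hg1 (by
    have := (hD d hd).2.2
    rwa [fq_eq_bot.2 h0, mem_bot] at this)
  have hfacts := fun d hd => BenderUniq.facts hG (mm d) L (F.mem d (hD d hd).1 (hD d hd).2.1).coatom (hlead d hd)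
  have hiff : ∀ d, d = t ∨ (d ∈ Λ ∧ d ≠ 1) → ∀ r : ℕ, r.Prime →
      (Cfsg.pCore r ↥(mm d) = ⊥ ↔ Cfsg.pCore r ↥(mm t) = ⊥) := fun d hd r hr =>
    F.pCore_iff c (hD d hd).1 (hD d hd).2.1 ht ht1 hr
  -- no further primes
  have hparts : ∀ r : ℕ, r.Prime → Cfsg.pCore r ↥(mm t) = ⊥ → Cfsg.pCore r ↥L = ⊥ := by
    intro r hr h0
    haveI := Fact.mk hr
    obtain ⟨a, ha, -, ha1⟩ := exists_third hΛ4 1
    have hint : ∀ d ∈ Λ, d ≠ 1 → GW.fq r L ⊓ mm d = ⊥ := fun d hd hd1 =>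
      (hfacts d (Or.inr ⟨hd, hd1⟩)).2.2.1 r hr ((hiff d (Or.inr ⟨hd, hd1⟩) r hr).2 h0)
    rw [← fq_eq_bot]
    by_cases hr2 : r = 2
    · subst hr2
      rw [← hint a ha ha1]
      exact (inf_eq_left.2 ((c.fq_two_le hAL).trans ((F.mem a (hΛ ha) ha1).le c))).symm
    have hWodd := pgroup_odd hr2 (fq_pgroup r L)
    have hinv : ∀ d ∈ Λ, d ≠ 1 → ∀ w ∈ GW.fq r L, d * w * d⁻¹ = w⁻¹ := fun d hd hd1 =>
      GW.inverts (c.sq (hΛ hd)) (fq_norm r L (hAL (hΛ hd))) fun w hw hwd =>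
        mem_bot.1 (hint d hd hd1 ▸ ⟨hw, (F.mem d (hΛ hd) hd1).cent (mem_centralizer_singleton_iff.2 hwd.eq)⟩)
    obtain ⟨b, hb, hba, hb1⟩ := exists_third hΛ4 a
    have hab : a * b ≠ 1 := fun e => hba (by
      have := eq_inv_of_mul_eq_one_right e
      rwa [c.inv (hΛ ha)] at this)
    refine (Subgroup.eq_bot_iff_forall _).2 fun w hw => eq_one_of_inv_eq ?_ (orderOf_odd hWodd hw)
    calc w⁻¹ = a * b * w * (a * b)⁻¹ := (hinv _ (mul_mem ha hb) hab w hw).symm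
      _ = a * (b * w * b⁻¹) * a⁻¹ := by group
      _ = w := by rw [hinv b hb hb1 w hw, hinv a ha ha1 _ (inv_mem hw), inv_inv]
  intro hE
  obtain ⟨hd₀A, hd₀1, hg0⟩ := hD d₀ hd₀
  have hm0 := F.mem d₀ hd₀A hd₀1
  by_cases htwo : ∀ q : ℕ, q.Prime → q ≠ s → Cfsg.pCore q ↥(mm t) = ⊥
  · -- one prime
    have hLs : ∀ q : ℕ, q.Prime → q ≠ s → Cfsg.pCore q ↥L = ⊥ := fun q hq hqs => hparts q hq (htwo q hq hqs)
    have hcd : ∀ d, d = t ∨ (d ∈ Λ ∧ d ≠ 1) →
        centralizer (Cfsg.pCore s ↥(mm d) : Set ↥(mm d)) ≤ Cfsg.pCore s ↥(mm d) := by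
      intro d hd
      have hF : Cfsg.fittingSubgroup ↥(mm d) = Cfsg.pCore s ↥(mm d) := by
        refine le_antisymm ?_ (Solv.pCore_le_fitting s)
        rw [Solv.fitting_eq_iSup_pCore]
        refine iSup_le fun q => ?_
        by_cases hqs : (q : ℕ) = s
        · rw [hqs]
        · rw [(hiff d hd q q.2).2 (htwo q q.2 hqs)]; exact bot_le
      rw [← hF]
      exact GW.fit_self_centralizing (El_eq_bot.1 (hlay d (hD d hd).1 (hD d hd).2.1))
    obtain ⟨T, hT⟩ : ∃ T, T = GW.fq s (mm d₀) ⊓ L := ⟨_, rfl⟩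
    have hcomT : ∀ x ∈ T, ∀ e ∈ El L, Commute e x := by
      intro x hx e he
      rw [hT] at hx
      refine El_commute (N := GW.fq s (mm d₀)) (by
        haveI := (fq_pgroup s (mm d₀)).isNilpotent
        infer_instance) (hE.trans (fq_norm s _)) (fun e' he' => ?_) he
      refine ⟨mul_mem ((mem_normalizer_iff.1 (El_norm L hx.2) _).1 he') (inv_mem he'), ?_⟩
      rw [mul_assoc, mul_assoc, ← mul_assoc e']
      exact mul_mem hx.1 ((mem_normalizer_iff.1 (fq_norm s _ (hE he')) _).1 (inv_mem hx.1))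
    have hEbot : El L = ⊥ := by
      have hcop : ∀ e ∈ El L, (orderOf e).Coprime s → e = 1 := by
        intro e he hco
        have hem : e ∈ mm d₀ := hE he
        have hc := Fusion.mem_centralizer_of_AB (p := s) (Q := GW.fq s (mm d₀)) (T := T) (fq_pgroup s _)
          ((fq_pgroup s (mm d₀)).to_le (hT ▸ inf_le_left))
          (hT ▸ inf_le_left.trans ((fq_le s _).trans (fq_norm s _))) (fq_norm s _ hem)
          (fun x hx => (hcomT x hx e he).eq) hco fun q hq hqT => by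
            have hqL : q ∈ L := hle (centralizer_le_normalizer _ (mem_centralizer_iff.2 fun z hz => by
              obtain ⟨i, rfl⟩ := mem_zpowers_iff.1 hz
              exact ((show Commute q g from hqT g (hT ▸ ⟨hg0, hgL⟩)).zpow_right i).eq.symm))
            exact (hcomT q (hT ▸ ⟨hq, hqL⟩) e he).eq
        have h1 : (⟨e, hem⟩ : ↥(mm d₀)) ∈ Cfsg.pCore s ↥(mm d₀) := hcd d₀ hd₀ (mem_centralizer_iff.2 fun z hz =>
          Subtype.ext (mem_centralizer_iff.1 hc (z : G) ⟨z, hz, rfl⟩))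
        obtain ⟨k, hk⟩ := pgroup_orderOf (Solv.pCore_isPGroup (G := ↥(mm d₀)) s) h1
        rw [Subgroup.orderOf_mk] at hk
        rw [hk] at hco
        refine orderOf_eq_one_iff.1 (hk.trans ?_)
        rcases Nat.eq_zero_or_pos k with h | h
        · rw [h, pow_zero]
        · exact absurd ((Nat.coprime_pow_left_iff h _ _).1 hco)
            ((Fact.out : s.Prime).coprime_iff_not_dvd.not.2 (not_not.2 dvd_rfl))
      have hp : IsPGroup s (El L) := by
        intro x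
        obtain ⟨i, m, hm, hxe⟩ := Nat.exists_eq_pow_mul_and_not_dvd (orderOf_pos (x : G)).ne' s (Fact.out : s.Prime).ne_one
        refine ⟨i, Subtype.ext ?_⟩
        rw [SubgroupClass.coe_pow, Subgroup.coe_one]
        refine hcop _ (pow_mem x.2 _) ?_
        rw [orderOf_pow, hxe, Nat.gcd_eq_right (Dvd.intro _ rfl),
          Nat.mul_div_cancel_left _ (pow_pos (Fact.out : s.Prime).pos i)]
        exact ((Fact.out : s.Prime).coprime_iff_not_dvd.2 hm).symm
      haveI := hp.isNilpotent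
      exact perfect_le_solvable (El_perfect L) inferInstance le_rfl
    have hFL : Cfsg.fittingSubgroup ↥L ≠ ⊥ :=
      GW.fitting_ne (El_eq_bot.1 hEbot) fun h => hg1 (by rwa [h, mem_bot] at hgL)
    have hneL : Cfsg.pCore s ↥L ≠ ⊥ := fun h => hFL (fitting_bot fun q hq => by
      by_cases hqs : q = s
      · rw [hqs]; exact h
      · exact hLs q hq hqs)
    have hcL : centralizer (Cfsg.pCore s ↥L : Set ↥L) ≤ Cfsg.pCore s ↥L := by
      have hF : Cfsg.fittingSubgroup ↥L = Cfsg.pCore s ↥L := by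
        refine le_antisymm ?_ (Solv.pCore_le_fitting s)
        rw [Solv.fitting_eq_iSup_pCore]
        refine iSup_le fun q => ?_
        by_cases hqs : (q : ℕ) = s
        · rw [hqs]
        · rw [hLs q q.2 hqs]; exact bot_le
      rw [← hF]
      exact GW.fit_self_centralizing (El_eq_bot.1 hEbot)
    have hCg : centralizer ({g} : Set G) ≤ L := fun x hx => hle (centralizer_le_normalizer _ (mem_centralizer_iff.2
      fun z hz => by
        obtain ⟨i, rfl⟩ := mem_zpowers_iff.1 hz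
        exact ((show Commute x g from mem_centralizer_singleton_iff.1 hx).zpow_right i).eq.symm))
    have heq : ∀ d, d = t ∨ (d ∈ Λ ∧ d ≠ 1) → L = mm d := fun d hd =>
      fus hs2 (c.no_sl2 hs2) (F.mem d (hD d hd).1 (hD d hd).2.1).coatom hL (hcd d hd) hcL (hne d hd) hneL
        (fq_le s _ (hD d hd).2.2) hgL (pgroup_orderOf (fq_pgroup s _) (hD d hd).2.2) hCg
    obtain ⟨a, ha, -, ha1⟩ := exists_third hΛ4 1
    have := F.inj c hsol ht ht1 (hΛ ha) ha1 ((heq t (Or.inl rfl)).symm.trans (heq a (Or.inr ⟨ha, ha1⟩)))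
    exact htΛ (this ▸ ha)
  · -- two primes
    push Not at htwo
    obtain ⟨q₀, hq₀, hq₀s, hq₀ne⟩ := htwo
    have other : ∀ r : ℕ, r.Prime → ∀ d, d = t ∨ (d ∈ Λ ∧ d ≠ 1) → ∃ q : ℕ, q.Prime ∧ q ≠ r ∧
        Cfsg.pCore q ↥(mm d) ≠ ⊥ := by
      intro r _ d hd
      by_cases hr : r = s
      · exact ⟨q₀, hq₀, fun e => hq₀s (e.trans hr), fun h => hq₀ne ((hiff d hd q₀ hq₀).1 h)⟩
      · exact ⟨s, Fact.out, fun e => hr e.symm, hne d hd⟩
    have hnp : ∀ d, d = t ∨ (d ∈ Λ ∧ d ≠ 1) →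
        ¬ ∃ r : ℕ, r.Prime ∧ IsPGroup r ↥(Cfsg.generalizedFittingSubgroup ↥(mm d)) := fun d hd =>
      not_pgroup (Fact.out : s.Prime) hq₀ hq₀s.symm (hne d hd) fun h => hq₀ne ((hiff d hd q₀ hq₀).1 h)
    have hFle : (Cfsg.fittingSubgroup ↥L).map L.subtype ≤ mm d₀ := fit_le fun r hr => by
      by_cases h0 : Cfsg.pCore r ↥(mm t) = ⊥
      · exact (fq_eq_bot.2 (hparts r hr h0)).le.trans bot_le
      · obtain ⟨q, hq, hqr, hqne⟩ := other r hr d₀ hd₀
        exact ((hfacts d₀ hd₀).2.2.2 r hr (fun h => h0 ((hiff d₀ hd₀ r hr).1 h)) _ (Or.inr ⟨q, hq, hqr, rfl⟩)).2 hqne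
    have hFne : Cfsg.fittingSubgroup ↥L ≠ ⊥ := by
      intro hb
      have hgE : ∀ e ∈ El L, Commute e g := fun e he => by
        refine El_commute (N := (Cfsg.fittingSubgroup ↥(mm d₀)).map (mm d₀).subtype) ?_ (hE.trans ?_) (fun e' he' => ?_) he
        · haveI : Group.IsNilpotent ↥(Cfsg.fittingSubgroup ↥(mm d₀)) := Solv.fittingSubgroup_nilpotent
          haveI : Group.IsNilpotent ↥((Cfsg.fittingSubgroup ↥(mm d₀)).map (mm d₀).subtype) :=
            Group.nilpotent_of_mulEquiv (equivMapOfInjective _ _ (mm d₀).subtype_injective)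
          infer_instance
        · intro x hx
          haveI := Solv.fittingSubgroup_normal (G := ↥(mm d₀))
          exact le_normalizer_map _ ⟨⟨x, hx⟩, by rw [normalizer_eq_top]; trivial, rfl⟩
        · refine ⟨mul_mem ((mem_normalizer_iff.1 (El_norm L hgL) _).1 he') (inv_mem he'), ?_⟩
          rw [mul_assoc, mul_assoc, ← mul_assoc e']
          haveI := Solv.fittingSubgroup_normal (G := ↥(mm d₀))
          exact mul_mem (fq_le_fit _ hg0) ((mem_normalizer_iff.1 (le_normalizer_map _ ⟨⟨e', hE he'⟩,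
            by rw [normalizer_eq_top]; trivial, rfl⟩) _).1 (inv_mem (fq_le_fit _ hg0)))
      have hgf : Cfsg.generalizedFittingSubgroup ↥L = Cfsg.layer ↥L := by
        rw [Cfsg.generalizedFittingSubgroup, hb, sup_bot_eq]
      have hgc : (⟨g, hgL⟩ : ↥L) ∈ centralizer (Cfsg.layer ↥L : Set ↥L) := mem_centralizer_iff.2 fun z hz =>
        Subtype.ext (hgE z ⟨z, hz, rfl⟩).eq
      have hgl : (⟨g, hgL⟩ : ↥L) ∈ Cfsg.layer ↥L :=
        hgf ▸ Solv.centralizer_gfit_le (by rw [hgf]; exact hgc)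
      haveI := Local.layer_normal (H := ↥L)
      haveI : ((center ↥(Cfsg.layer ↥L)).map (Cfsg.layer ↥L).subtype).Normal :=
        Solv.map_subtype_normal_of_characteristic _ _
      haveI : Group.IsNilpotent ↥(center ↥(Cfsg.layer ↥L)) :=
        letI : CommGroup ↥(center ↥(Cfsg.layer ↥L)) :=
          { (inferInstance : Group ↥(center ↥(Cfsg.layer ↥L))) with
            mul_comm := fun a b => Subtype.ext ((mem_center_iff.1 b.2) a) }
        CommGroup.isNilpotent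
      haveI : Group.IsNilpotent ↥((center ↥(Cfsg.layer ↥L)).map (Cfsg.layer ↥L).subtype) :=
        Group.nilpotent_of_mulEquiv (equivMapOfInjective _ _ (Cfsg.layer ↥L).subtype_injective)
      have h1 := Solv.normal_le_fitting (N := (center ↥(Cfsg.layer ↥L)).map (Cfsg.layer ↥L).subtype) inferInstance
        ⟨⟨_, hgl⟩, mem_center_iff.2 fun z => Subtype.ext (mem_centralizer_iff.1 hgc z z.2), rfl⟩
      rw [hb, mem_bot] at h1
      exact hg1 (congrArg Subtype.val h1)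
    have hLM : Cfsg.leadsTo L (mm d₀) := ⟨(Cfsg.fittingSubgroup ↥L).map L.subtype,
      by rwa [ne_eq, Subgroup.map_eq_bot_iff_of_injective _ L.subtype_injective], le_rfl,
      inf_le_left.trans (gfit_le hE hFle)⟩
    rcases pair hG (mm d₀) L hm0.coatom hL (hlead d₀ hd₀) hLM with h | ⟨p, hp, hpg, -⟩
    swap
    · exact hnp d₀ hd₀ ⟨p, hp, hpg⟩
    obtain ⟨e, he, hed⟩ : ∃ e, (e = t ∨ (e ∈ Λ ∧ e ≠ 1)) ∧ e ≠ d₀ := by
      by_cases h' : t = d₀
      · obtain ⟨a, ha, -, ha1⟩ := exists_third hΛ4 1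
        exact ⟨a, Or.inr ⟨ha, ha1⟩, fun h'' => htΛ (by rw [h', ← h'']; exact ha)⟩
      · exact ⟨t, Or.inl rfl, h'⟩
    obtain ⟨heA, he1, hge⟩ := hD e he
    have hFe : (Cfsg.fittingSubgroup ↥L).map L.subtype ≤ mm e := fit_le fun r hr => by
      by_cases h0 : Cfsg.pCore r ↥(mm t) = ⊥
      · exact (fq_eq_bot.2 (hparts r hr h0)).le.trans bot_le
      · obtain ⟨q, hq, hqr, hqne⟩ := other r hr e he
        exact ((hfacts e he).2.2.2 r hr (fun h'' => h0 ((hiff e he r hr).1 h'')) _ (Or.inr ⟨q, hq, hqr, rfl⟩)).2 hqne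
    have hEe : El L ≤ mm e := by
      rw [← h, hlay d₀ hd₀A hd₀1]
      exact bot_le
    rcases pair hG (mm e) L (F.mem e heA he1).coatom hL (hlead e he) ⟨(Cfsg.fittingSubgroup ↥L).map L.subtype,
      by rwa [ne_eq, Subgroup.map_eq_bot_iff_of_injective _ L.subtype_injective], le_rfl,
      inf_le_left.trans (gfit_le hEe hFe)⟩ with h' | ⟨p, hp, hpg, -⟩
    · exact hed (F.inj c hsol heA he1 hd₀A hd₀1 (h'.trans h.symm))
    · exact hnp e he ⟨p, hp, hpg⟩

end Fam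

end Cfsg.Agent.Walter.R3
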