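import Cfsg.Agent.Lib.Walter.R3.Gen

/-!
# Rank three: the four group of an involution
-/

set_option autoImplicit false
set_option linter.style.haveILetI false
set_option linter.unusedSectionVars false

namespace Cfsg.Agent.Walter.R3

open Subgroup Cfsg.Agent.Solv.AbelianTwo
open scoped commutatorElement Pointwise

universe u

variable {G : Type u} [Group G]

/-- The four group of the component of `C(c)`. -/
def V (A : Subgroup G) (c : G) : Subgroup G := ⁅A, normalizer (A : Set G) ⊓ centralizer ({c} : Set G)⁆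

theorem V_le (A : Subgroup G) (c : G) : V A c ≤ A := by
  rw [V, commutator_le]
  intro a ha g hg
  rw [commutatorElement_def, mul_assoc, mul_assoc, ← mul_assoc g]
  exact mul_mem ha ((mem_normalizer_iff.1 hg.1 _).1 (inv_mem ha))

variable [Finite G] {A : Subgroup G}

namespace Ctx

variable (c : Ctx A)
include c

/-- A centraliser has the second shape, with `w` the involution itself. -/
theorem cent_half {d : G} (hd : d ∈ A) (hd1 : d ≠ 1) : Half A (centralizer ({d} : Set G)) d := by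
  rcases c.quot_cases (c.le_cent hd) (c.cent_ne_top hd hd1) with hs | hf | ⟨w, hw⟩
  · exact absurd hs (c.three.nonsolv d (c.order hd hd1))
  · exfalso
    obtain ⟨b, hb, hbd, hb1⟩ : ∃ b ∈ A, b ≠ d ∧ b ≠ 1 := by
      classical
      by_contra hno
      push Not at hno
      haveI := Fintype.ofFinite A
      have hsub : (Finset.univ : Finset A).image (Subtype.val : A → G) ⊆ {1, d} := fun y hy => by
        obtain ⟨z, -, rfl⟩ := Finset.mem_image.1 hy
        by_cases e : (z : G) = d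
        · simp [e]
        · simp [hno z z.2 e]
      have := Finset.card_le_card hsub
      rw [Finset.card_image_of_injective _ Subtype.val_injective, Finset.card_univ, ← Nat.card_eq_fintype_card,
        c.card] at this
      have h2 : ({1, d} : Finset G).card ≤ 2 := Finset.card_le_two
      omega
    obtain ⟨n, hn, -, he⟩ := c.trans hf.toBase (hf.eq hd) hd1 (hf.eq hb) hb1
    refine hbd ?_
    rw [← he, mem_centralizer_singleton_iff.1 hn, mul_inv_cancel_right]
  · have hdL : d ∈ centralizer ({d} : Set G) := mem_centralizer_singleton_iff.2 rfl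
    have hcd : pr _ ⟨d, hdL⟩ ∈ centralizer (KK (centralizer ({d} : Set G)) : Set (Lq _)) := by
      refine mem_centralizer_iff.2 fun k _ => ?_
      obtain ⟨g, rfl⟩ := QuotientGroup.mk'_surjective _ k
      rw [← map_mul, ← map_mul]
      exact congrArg _ (Subtype.ext (mem_centralizer_singleton_iff.1 g.2))
    rcases hw.cent _ hcd with e | e
    · exact absurd (c.pr_eq_one hd hdL e) hd1
    · exact (c.pr_inj hd hw.mem hdL hw.w_mem e) ▸ hw

/-- The trace of a subgroup with the second shape is a commutator. -/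
theorem tr_le_V {L : Subgroup G} {w : G} (h : Half A L w) : tr L A ≤ V A w := by
  intro x hx
  by_cases hx1 : x = 1
  · exact hx1 ▸ one_mem _
  obtain ⟨y, hy, hyx, hy1⟩ := exists_third h.four x
  have hxy : x * y ≠ 1 := fun e => hyx (by
    have := eq_inv_of_mul_eq_one_right e
    rwa [c.inv (tr_le L A hx)] at this)
  obtain ⟨n, hn, hnN, he⟩ := c.trans h.toBase hy hy1 (mul_mem hx hy) hxy
  have hnw : n ∈ centralizer ({w} : Set G) :=
    mem_centralizer_singleton_iff.2 (mul_inv_eq_iff_eq_mul.1 (c.fix h hn hnN))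
  have h1 : ⁅y, n⁆ = x := by
    rw [commutatorElement_def, c.inv (tr_le L A hy), show y * n * y * n⁻¹ = y * (n * y * n⁻¹) by group, he,
      ← mul_assoc, (c.comm (tr_le L A hy) (tr_le L A hx)).eq, mul_assoc, c.sq (tr_le L A hy), mul_one]
  exact h1 ▸ commutator_mem_commutator (tr_le L A hy) ⟨hnN, hnw⟩

theorem V_eq_cent {d : G} (hd : d ∈ A) (hd1 : d ≠ 1) : tr (centralizer ({d} : Set G)) A = V A d := by
  have h := c.cent_half hd hd1
  refine le_antisymm (c.tr_le_V h) ?_
  rw [V, commutator_le]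
  intro a ha g hg
  have hgL : g ∈ centralizer ({d} : Set G) := hg.2
  have key : ∀ x ∈ tr (centralizer ({d} : Set G)) A, ⁅x, g⁆ ∈ tr (centralizer ({d} : Set G)) A := by
    intro x hx
    have hxL := h.le (tr_le _ A hx)
    have hA' : ⁅x, g⁆ ∈ A := by
      rw [commutatorElement_def, mul_assoc, mul_assoc, ← mul_assoc g]
      exact mul_mem (tr_le _ A hx) ((mem_normalizer_iff.1 hg.1 _).1 (inv_mem (tr_le _ A hx)))
    refine (mem_tr (h.le hA')).2 ⟨?_, hA'⟩
    rw [show (⟨⁅x, g⁆, h.le hA'⟩ : ↥(centralizer ({d} : Set G))) = ⟨x, hxL⟩ * (⟨g, hgL⟩ * ⟨x, hxL⟩⁻¹ * ⟨g, hgL⟩⁻¹) from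
      Subtype.ext (by simp [commutatorElement_def, mul_assoc]), map_mul, map_mul, map_mul, map_inv, map_inv]
    have hxK := ((mem_tr hxL).1 hx).1
    exact mul_mem hxK (h.normal.conj_mem _ (inv_mem hxK) _)
  rcases h.split a ha with hat | hat
  · exact key a hat
  · have hgd : g * d = d * g := mem_centralizer_singleton_iff.1 hgL
    have h1 : ⁅a, g⁆ = ⁅d * a, g⁆ := by
      rw [commutatorElement_def, commutatorElement_def]
      have hc : Commute d (a * g * a⁻¹) :=
        ((c.comm hd ha).mul_right (show Commute d g from hgd.symm)).mul_right (c.comm hd ha).inv_right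
      calc a * g * a⁻¹ * g⁻¹ = d * (a * g * a⁻¹) * d⁻¹ * g⁻¹ := by rw [hc.eq, mul_inv_cancel_right]
        _ = _ := by group
    rw [h1]
    exact key _ hat

theorem V_card {d : G} (hd : d ∈ A) (hd1 : d ≠ 1) : Nat.card (V A d) = 4 :=
  c.V_eq_cent hd hd1 ▸ (c.cent_half hd hd1).four

theorem not_mem_V {d : G} (hd : d ∈ A) (hd1 : d ≠ 1) : d ∉ V A d :=
  c.V_eq_cent hd hd1 ▸ (c.cent_half hd hd1).notmem

theorem V_split {d a : G} (hd : d ∈ A) (hd1 : d ≠ 1) (ha : a ∈ A) : a ∈ V A d ∨ d * a ∈ V A d :=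
  c.V_eq_cent hd hd1 ▸ (c.cent_half hd hd1).split a ha

/-- The trace of any subgroup of the second shape is the four group of `w`. -/
theorem tr_eq_V {L : Subgroup G} {w : G} (h : Half A L w) : tr L A = V A w :=
  Subgroup.eq_of_le_of_card_ge (c.tr_le_V h) (by rw [h.four, c.V_card h.mem h.ne])

/-- `N(A) ∩ C(d)` is transitive on the four group. -/
theorem V_trans {d x y : G} (hd : d ∈ A) (hd1 : d ≠ 1) (hx : x ∈ V A d) (hx1 : x ≠ 1) (hy : y ∈ V A d) (hy1 : y ≠ 1) :
    ∃ n ∈ normalizer (A : Set G), n * d = d * n ∧ n * x * n⁻¹ = y := by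
  obtain ⟨n, hn, hnN, he⟩ := c.trans (c.cent_half hd hd1).toBase ((c.V_eq_cent hd hd1).ge hx) hx1
    ((c.V_eq_cent hd hd1).ge hy) hy1
  exact ⟨n, hnN, mem_centralizer_singleton_iff.1 hn, he⟩

theorem V_map {g d : G} (hg : g ∈ normalizer (A : Set G)) :
    (V A d).map (MulAut.conj g).toMonoidHom = V A (g * d * g⁻¹) := by
  have hA : A.map (MulAut.conj g).toMonoidHom = A := by
    ext x
    rw [mem_map_equiv, MulAut.conj_symm_apply]
    exact ⟨fun h => by simpa [mul_assoc] using (mem_normalizer_iff.1 hg _).1 h,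
      fun h => by simpa using (mem_normalizer_iff.1 (inv_mem hg) x).1 h⟩
  rw [V, map_commutator, hA, V]
  congr 1
  ext x
  rw [mem_map_equiv, MulAut.conj_symm_apply, mem_inf, mem_inf, mem_centralizer_singleton_iff,
    mem_centralizer_singleton_iff]
  refine and_congr ?_ ?_
  · constructor
    · intro h
      simpa [mul_assoc] using mul_mem (mul_mem hg h) (inv_mem hg)
    · intro h
      exact mul_mem (mul_mem (inv_mem hg) h) hg
  · constructor
    · intro h
      calc x * (g * d * g⁻¹) = g * (g⁻¹ * x * g * d) * g⁻¹ := by group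
        _ = g * d * g⁻¹ * x := by rw [h]; group
    · intro h
      calc g⁻¹ * x * g * d = g⁻¹ * (x * (g * d * g⁻¹)) * g := by group
        _ = d * (g⁻¹ * x * g) := by rw [h]; group

/-- Only `d` is fixed by `N(A) ∩ C(d)`. -/
theorem fixed_only {d x : G} (hd : d ∈ A) (hd1 : d ≠ 1) (hx : x ∈ A)
    (h : ∀ n ∈ normalizer (A : Set G), n * d = d * n → n * x * n⁻¹ = x) : x = 1 ∨ x = d := by
  have key : ∀ v ∈ V A d, (∀ n ∈ normalizer (A : Set G), n * d = d * n → n * v * n⁻¹ = v) → v = 1 := by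
    intro v hv hfix
    by_contra hv1
    obtain ⟨y, hy, hyv, hy1⟩ := exists_third (c.V_card hd hd1) v
    obtain ⟨n, hnN, hnd, he⟩ := c.V_trans hd hd1 hv hv1 hy hy1
    exact hyv (he.symm.trans (hfix n hnN hnd))
  rcases c.V_split hd hd1 hx with hv | hv
  · exact Or.inl (key x hv h)
  · refine Or.inr ?_
    have h1 := key _ hv fun n hnN hnd => by
      rw [show n * (d * x) * n⁻¹ = n * d * n⁻¹ * (n * x * n⁻¹) by group, h n hnN hnd, hnd, mul_inv_cancel_right]
    have h2 := eq_inv_of_mul_eq_one_right h1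
    rwa [c.inv hd] at h2

/-- The orbit of an element of `A` under `N(A)` has odd size. -/
theorem orbit_odd {a : G} (ha : a ∈ A) :
    Odd (Nat.card {x : G // ∃ g ∈ normalizer (A : Set G), g * a * g⁻¹ = x}) := by
  haveI : Fact (Nat.Prime 2) := ⟨Nat.prime_two⟩
  obtain ⟨N, hN⟩ : ∃ N, N = normalizer (A : Set G) := ⟨_, rfl⟩
  letI : MulAction N G := MulAction.compHom G ((ConjAct.toConjAct (G := G)).toMonoidHom.comp N.subtype)
  have hsmul : ∀ (g : N) (x : G), g • x = (g : G) * x * (g : G)⁻¹ := fun g x => ConjAct.smul_def _ _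
  have hAN : A ≤ N := hN ▸ le_normalizer
  have hle : A.subgroupOf N ≤ MulAction.stabilizer N a := fun g hg => MulAction.mem_stabilizer_iff.2 (by
    rw [hsmul, (c.comm (mem_subgroupOf.1 hg) ha).eq, mul_inv_cancel_right])
  have hodd : Odd (A.subgroupOf N).index := by
    obtain ⟨T, hT⟩ := c.sylow_in hAN
    rw [← hT]
    exact Nat.odd_iff.2 (Nat.two_dvd_ne_zero.1 T.not_dvd_index)
  have h1 : Odd (MulAction.stabilizer N a).index := hodd.of_dvd_nat (Subgroup.index_dvd_of_le hle)
  rw [MulAction.index_stabilizer, ← Nat.card_coe_set_eq] at h1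
  have e : MulAction.orbit N a = {x : G | ∃ g ∈ normalizer (A : Set G), g * a * g⁻¹ = x} := by
    ext x
    constructor
    · rintro ⟨g, rfl⟩
      exact ⟨g, hN ▸ g.2, (hsmul g a).symm⟩
    · rintro ⟨g, hg, rfl⟩
      exact ⟨⟨g, hN ▸ hg⟩, hsmul _ _⟩
  rw [e] at h1
  exact h1

/-- `N(A)` is transitive on the involutions of `A`. -/
theorem transitive {a b : G} (ha : a ∈ A) (ha1 : a ≠ 1) (hb : b ∈ A) (hb1 : b ≠ 1) :
    ∃ g ∈ normalizer (A : Set G), g * a * g⁻¹ = b := by
  classical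
  let O : G → Prop := fun x => ∃ g ∈ normalizer (A : Set G), g * a * g⁻¹ = x
  have hOA : ∀ x, O x → x ∈ A ∧ x ≠ 1 := by
    rintro x ⟨g, hg, rfl⟩
    exact ⟨(mem_normalizer_iff.1 hg a).1 ha, fun e => ha1 (conj_eq_one_iff.1 e)⟩
  have step : ∀ x y, O x → (∃ n ∈ normalizer (A : Set G), n * x * n⁻¹ = y) → O y := by
    rintro x y ⟨g, hg, rfl⟩ ⟨n, hn, rfl⟩
    exact ⟨n * g, mul_mem hn hg, by group⟩
  obtain ⟨v, hv, -, hv1⟩ := exists_third (c.V_card ha ha1) 1
  have hVO : ∀ x ∈ V A a, x ≠ 1 → ∀ y ∈ V A a, y ≠ 1 → O x → O y := fun x hx hx1 y hy hy1 hOx => by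
    obtain ⟨n, hn, -, he⟩ := c.V_trans ha ha1 hx hx1 hy hy1
    exact step x y hOx ⟨n, hn, he⟩
  have haVO : ∀ x ∈ V A a, x ≠ 1 → ∀ y ∈ V A a, y ≠ 1 → O (a * x) → O (a * y) := fun x hx hx1 y hy hy1 hOx => by
    obtain ⟨n, hn, hna, he⟩ := c.V_trans ha ha1 hx hx1 hy hy1
    refine step _ _ hOx ⟨n, hn, ?_⟩
    rw [show n * (a * x) * n⁻¹ = n * a * n⁻¹ * (n * x * n⁻¹) by group, he, hna, mul_inv_cancel_right]
  by_contra hno
  have hno' : ¬ O b := fun ⟨g, hg, e⟩ => hno ⟨g, hg, e⟩
  have hOa : O a := ⟨1, one_mem _, by group⟩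
  haveI := Fintype.ofFinite G
  haveI := Fintype.ofFinite (V A a)
  have hcases : ∀ x ∈ A, x ≠ 1 → x = a ∨ (x ∈ V A a) ∨ (∃ u ∈ V A a, u ≠ 1 ∧ x = a * u) := by
    intro x hx hx1
    rcases c.V_split ha ha1 hx with h | h
    · exact Or.inr (Or.inl h)
    · by_cases e : a * x = 1
      · left
        have := eq_inv_of_mul_eq_one_right e
        rwa [c.inv ha] at this
      · exact Or.inr (Or.inr ⟨a * x, h, e, by rw [← mul_assoc, c.sq ha, one_mul]⟩)
  by_cases hV : O v
  · by_cases hW : O (a * v)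
    · rcases hcases b hb hb1 with h | h | ⟨u, hu, hu1, rfl⟩
      · exact hno' (h ▸ hOa)
      · exact hno' (hVO v hv hv1 b h hb1 hV)
      · exact hno' (haVO v hv hv1 u hu hu1 hW)
    · -- the orbit has four elements
      have h4 : Nat.card {x : G // O x} = Nat.card (V A a) := by
        let f : V A a → {x : G // O x} := fun x => if e : (x : G) = 1 then ⟨a, hOa⟩ else ⟨x, hVO v hv hv1 x x.2 e hV⟩
        refine (Nat.card_eq_of_bijective f ⟨fun x y hxy => ?_, fun z => ?_⟩).symm
        · simp only [f] at hxy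
          split_ifs at hxy with e1 e2
          · exact Subtype.ext (e1.trans e2.symm)
          · have h1 : a = (y : G) := congrArg (fun z : {x : G // O x} => (z : G)) hxy
            exact absurd y.2 (fun h2 => c.not_mem_V ha ha1 (Eq.mp (congrArg (fun z => z ∈ V A a) h1.symm) h2))
          · have h1 : (x : G) = a := congrArg (fun z : {x : G // O x} => (z : G)) hxy
            exact absurd x.2 (fun h2 => c.not_mem_V ha ha1 (Eq.mp (congrArg (fun z => z ∈ V A a) h1) h2))
          · exact Subtype.ext (congrArg (fun z : {x : G // O x} => (z : G)) hxy)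
        · obtain ⟨hzA, hz1⟩ := hOA z z.2
          rcases hcases z hzA hz1 with h | h | ⟨u, hu, hu1, h⟩
          · exact ⟨1, Subtype.ext (by simp [f, h])⟩
          · exact ⟨⟨z, h⟩, Subtype.ext (by simp [f, hz1])⟩
          · exact absurd (haVO u hu hu1 v hv hv1 (h ▸ z.2)) hW
      have h5 := c.orbit_odd ha
      rw [show Nat.card {x : G // ∃ g ∈ normalizer (A : Set G), g * a * g⁻¹ = x} = 4 from h4.trans (c.V_card ha ha1)] at h5
      exact absurd h5 (by decide)
  · by_cases hW : O (a * v)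
    · have h4 : Nat.card {x : G // O x} = Nat.card (V A a) := by
        let f : V A a → {x : G // O x} := fun x => if e : (x : G) = 1 then ⟨a, hOa⟩ else
          ⟨a * x, haVO v hv hv1 x x.2 e hW⟩
        refine (Nat.card_eq_of_bijective f ⟨fun x y hxy => ?_, fun z => ?_⟩).symm
        · simp only [f] at hxy
          split_ifs at hxy with e1 e2
          · exact Subtype.ext (e1.trans e2.symm)
          · exact absurd (left_eq_mul.1 (congrArg (fun z : {x : G // O x} => (z : G)) hxy)) e2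
          · exact absurd (mul_eq_left.1 (congrArg (fun z : {x : G // O x} => (z : G)) hxy)) e1
          · exact Subtype.ext (mul_left_cancel (congrArg (fun z : {x : G // O x} => (z : G)) hxy))
        · obtain ⟨hzA, hz1⟩ := hOA z z.2
          rcases hcases z hzA hz1 with h | h | ⟨u, hu, hu1, h⟩
          · exact ⟨1, Subtype.ext (by simp [f, h])⟩
          · exact absurd (hVO z h hz1 v hv hv1 z.2) hV
          · exact ⟨⟨u, hu⟩, Subtype.ext (by simp [f, hu1, h])⟩
      have h5 := c.orbit_odd ha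
      rw [show Nat.card {x : G // ∃ g ∈ normalizer (A : Set G), g * a * g⁻¹ = x} = 4 from h4.trans (c.V_card ha ha1)] at h5
      exact absurd h5 (by decide)
    · -- `a` is fixed by `N(A)`
      have hfix : ∀ n ∈ normalizer (A : Set G), n * a * n⁻¹ = a := by
        intro n hn
        have hOn : O (n * a * n⁻¹) := ⟨n, hn, rfl⟩
        obtain ⟨hA', h1⟩ := hOA _ hOn
        rcases hcases _ hA' h1 with h | h | ⟨u, hu, hu1, h⟩
        · exact h
        · exact absurd (hVO _ h h1 v hv hv1 hOn) hV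
        · exact absurd (haVO u hu hu1 v hv hv1 (h ▸ hOn)) hW
      rcases c.fixed_only (V_le A a hv) hv1 ha fun n hn _ => hfix n hn with e | e
      · exact ha1 e
      · exact c.not_mem_V ha ha1 (e ▸ hv)

/-- `b ∈ V_a` and `a ∈ V_b` exclude each other. -/
theorem asym {a b : G} (ha : a ∈ A) (ha1 : a ≠ 1) (hb : b ∈ V A a) (hb1 : b ≠ 1) : a ∉ V A b := by
  intro hab
  have hbA := V_le A a hb
  have hne : a ≠ b := fun e => c.not_mem_V ha ha1 (e.symm ▸ hb)
  obtain ⟨g, hg, hga⟩ := c.transitive ha ha1 hbA hb1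
  have hV : V A b = (V A a).map (MulAut.conj g).toMonoidHom := by rw [c.V_map hg, hga]
  obtain ⟨x, hx, hxa⟩ := hV ▸ hab
  have hxa : g * x * g⁻¹ = a := hxa
  obtain ⟨n, hn, hna, he⟩ := c.V_trans ha ha1 hb hb1 hx fun e => ha1 (by rw [← hxa, e]; group)
  obtain ⟨s, hs⟩ : ∃ s, s = g * n := ⟨_, rfl⟩
  have hsN : s ∈ normalizer (A : Set G) := hs ▸ mul_mem hg hn
  have hsa : s * a * s⁻¹ = b := by
    rw [hs, show g * n * a * (g * n)⁻¹ = g * (n * a * n⁻¹) * g⁻¹ by group, hna, mul_inv_cancel_right, hga]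
  have hsb : s * b * s⁻¹ = a := by
    rw [hs, show g * n * b * (g * n)⁻¹ = g * (n * b * n⁻¹) * g⁻¹ by group, he, hxa]
  -- the two-part of `s` lies in `A`
  obtain ⟨m, hm, hmA⟩ : ∃ m, Odd m ∧ s ^ m ∈ A := by
    obtain ⟨i, m, hm, hse⟩ := Nat.exists_eq_pow_mul_and_not_dvd (orderOf_pos s).ne' 2 (by norm_num)
    refine ⟨m, Nat.odd_iff.2 (Nat.two_dvd_ne_zero.1 hm), ?_⟩
    haveI : Fact (Nat.Prime 2) := ⟨Nat.prime_two⟩
    have hp : IsPGroup 2 (zpowers (s ^ m) ⊔ A : Subgroup G) := by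
      refine IsPGroup.to_sup_of_normal_right' ?_ c.pgroup (zpowers_le.2 (pow_mem hsN m))
      refine IsPGroup.iff_card.2 ?_
      rw [Nat.card_zpowers]
      obtain ⟨j, -, hj⟩ := (Nat.dvd_prime_pow Nat.prime_two).1 (orderOf_dvd_of_pow_eq_one
        (show (s ^ m) ^ 2 ^ i = 1 by rw [← pow_mul, mul_comm, ← hse, pow_orderOf_eq_one]))
      exact ⟨j, hj⟩
    exact (c.eq_of_le hp le_sup_right).le (mem_sup_left (mem_zpowers _))
  have hpow : ∀ j, s ^ (2 * j) * a * (s ^ (2 * j))⁻¹ = a := by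
    intro j
    induction j with
    | zero => simp
    | succ j ih =>
      rw [Nat.mul_succ, pow_add, show s ^ (2 * j) * s ^ 2 * a * (s ^ (2 * j) * s ^ 2)⁻¹ =
        s ^ (2 * j) * (s * (s * a * s⁻¹) * s⁻¹) * (s ^ (2 * j))⁻¹ by group, hsa, hsb, ih]
  obtain ⟨j, rfl⟩ := hm
  refine hne ?_
  have h1 : s ^ (2 * j + 1) * a * (s ^ (2 * j + 1))⁻¹ = a := by rw [(c.comm hmA ha).eq, mul_inv_cancel_right]
  rw [pow_succ', show s * s ^ (2 * j) * a * (s * s ^ (2 * j))⁻¹ = s * (s ^ (2 * j) * a * (s ^ (2 * j))⁻¹) * s⁻¹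
    by group, hpow, hsa] at h1
  exact h1.symm

/-- The four groups determine the involutions. -/
theorem V_inj {a b : G} (ha : a ∈ A) (ha1 : a ≠ 1) (hb : b ∈ A) (hb1 : b ≠ 1) (h : V A a = V A b) : a = b := by
  by_contra hne
  have hanb : a ∉ V A b := h ▸ c.not_mem_V ha ha1
  have hbna : b ∉ V A a := h.symm ▸ c.not_mem_V hb hb1
  rcases c.V_split ha ha1 hb with h1 | h1
  · exact hbna h1
  have hv1 : a * b ≠ 1 := fun e => hne (by
    have := eq_inv_of_mul_eq_one_right e
    rw [c.inv ha] at this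
    exact this.symm)
  have hvb : a * b ∈ V A b := h ▸ h1
  have hvA := V_le A a h1
  rcases c.V_split hvA hv1 ha with h2 | h2
  · exact c.asym ha ha1 h1 hv1 h2
  · rw [(c.comm hvA ha).eq, ← mul_assoc, c.sq ha, one_mul] at h2
    exact c.asym hb hb1 hvb hv1 h2

end Ctx

end Cfsg.Agent.Walter.R3
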