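import Cfsg.Agent.Lib.Walter.R3.Quot

/-!
# Rank three: consequences of the two cases in the group
-/

set_option autoImplicit false
set_option linter.style.haveILetI false
set_option linter.unusedSectionVars false

namespace Cfsg.Agent.Walter.R3

open Subgroup Cfsg.Agent.Solv.AbelianTwo
open scoped commutatorElement

universe u

/-- A perfect subgroup of a solvable subgroup is trivial. -/
theorem perfect_le_solvable {Y : Type*} [Group Y] {P S : Subgroup Y} (hP : ⁅P, P⁆ = P) (hS : Group.IsSolvable S)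
    (h : P ≤ S) : P = ⊥ := by
  haveI := hS
  have h1 : ⁅P.subgroupOf S, P.subgroupOf S⁆ = P.subgroupOf S := by
    refine map_injective S.subtype_injective ?_
    rw [map_commutator, map_subgroupOf_eq_of_le h, hP]
  rw [← map_subgroupOf_eq_of_le h, perfect_eq_bot h1, Subgroup.map_bot]

variable {G : Type u} [Group G] [Finite G] {A L : Subgroup G}

theorem Half.w_mem {w : G} (h : Half A L w) : w ∈ L := h.le h.mem

theorem mem_pr_Ol {g : G} (hg : g ∈ L) : pr L ⟨g, hg⟩ = 1 ↔ g ∈ Ol L := by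
  rw [mem_Ol hg]
  exact QuotientGroup.eq_one_iff _

theorem El_perfect (L : Subgroup G) : ⁅El L, El L⁆ = El L := by
  rw [El, ← map_commutator, Solv.layer_perfect]

/-- A solvable subgroup normalised by the layer meets it centrally. -/
theorem El_inf_central {N : Subgroup G} (hN : Group.IsSolvable N) (hn : El L ≤ normalizer (N : Set G)) {z e : G}
    (hz : z ∈ El L) (hzN : z ∈ N) (he : e ∈ El L) : Commute z e := by
  haveI := Local.layer_normal (H := ↥L)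
  obtain ⟨S, hS⟩ : ∃ S, S = (El L ⊓ N).subgroupOf L := ⟨_, rfl⟩
  have hSle : S ≤ Cfsg.layer ↥L := fun x hx => by
    rw [hS, mem_subgroupOf] at hx
    exact (mem_El x.2).1 hx.1
  have hsn : S.IsSubnormal := by
    haveI : (S.subgroupOf (Cfsg.layer ↥L)).Normal := by
      refine normal_subgroupOf_of_le_normalizer fun x hx => mem_normalizer_fintype fun y hy => ?_
      rw [SetLike.mem_coe, hS, mem_subgroupOf] at hy
      rw [SetLike.mem_coe, hS, mem_subgroupOf]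
      have hxE : (x : G) ∈ El L := ⟨x, hx, rfl⟩
      refine ⟨(El L).mul_mem ((El L).mul_mem hxE hy.1) ((El L).inv_mem hxE), ?_⟩
      exact (mem_normalizer_iff.1 (hn hxE) _).1 hy.2
    have h1 : (S.subgroupOf (Cfsg.layer ↥L)).IsSubnormal := (inferInstance : (S.subgroupOf _).Normal).isSubnormal
    exact Subgroup.IsSubnormal.trans hSle h1 (inferInstance : (Cfsg.layer ↥L).Normal).isSubnormal
  have hsol : Group.IsSolvable S := by
    haveI := hN
    refine Group.isSolvable_of_isSolvable_injective (f := ((L.subtype.comp S.subtype).codRestrict N fun x => ?_))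
      fun a b h => ?_
    · have := x.2
      simp only [hS, mem_subgroupOf] at this
      exact this.2
    · exact Subtype.ext (Subtype.ext (congrArg (fun z : N => (z : G)) h))
  have hc := Subgroup.commutator_eq_bot_iff_le_centralizer.1 (Solv.layer_commutator_solvable hsn hsol)
    ((mem_El (El_le L he)).1 he)
  exact congrArg Subtype.val (mem_centralizer_iff.1 hc ⟨z, El_le L hz⟩ (by
    rw [hS, SetLike.mem_coe, mem_subgroupOf]; exact ⟨hz, hzN⟩))

/-- An element moving the layer only inside a solvable subgroup normalised by it commutes with it. -/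
theorem El_commute {N : Subgroup G} (hN : Group.IsSolvable N) (hn : El L ≤ normalizer (N : Set G)) {x : G}
    (hx : ∀ e ∈ El L, x * e * x⁻¹ * e⁻¹ ∈ El L ∧ x * e * x⁻¹ * e⁻¹ ∈ N) {e : G} (he : e ∈ El L) : Commute e x := by
  suffices h : El L ≤ centralizer ({x} : Set G) from mem_centralizer_singleton_iff.1 (h he)
  conv_lhs => rw [← El_perfect L]
  refine commutator_le.2 fun a ha b hb => mem_centralizer_singleton_iff.2 ?_
  obtain ⟨z, hz⟩ : ∃ z, z = x * a * x⁻¹ * a⁻¹ := ⟨_, rfl⟩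
  obtain ⟨z', hz'⟩ : ∃ z', z' = x * b * x⁻¹ * b⁻¹ := ⟨_, rfl⟩
  obtain ⟨hzE, hzN⟩ := hz ▸ hx a ha
  obtain ⟨hzE', hzN'⟩ := hz' ▸ hx b hb
  have c1 : Commute z b := El_inf_central hN hn hzE hzN hb
  have c2 : Commute z' a := El_inf_central hN hn hzE' hzN' ha
  have c3 : Commute z z' := El_inf_central hN hn hzE hzN hzE'
  have e1 : x * ⁅a, b⁆ * x⁻¹ = ⁅z * a, z' * b⁆ := by rw [hz, hz', commutatorElement_def, commutatorElement_def]; group
  have e2 : ⁅z * a, z' * b⁆ = ⁅a, b⁆ := by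
    rw [commutatorElement_def, commutatorElement_def]
    calc z * a * (z' * b) * (z * a)⁻¹ * (z' * b)⁻¹ = z * (a * z') * b * a⁻¹ * z⁻¹ * b⁻¹ * z'⁻¹ := by group
      _ = z * z' * a * b * a⁻¹ * (z⁻¹ * b⁻¹) * z'⁻¹ := by rw [← c2.eq]; group
      _ = z * z' * (a * b * a⁻¹ * b⁻¹) * (z⁻¹ * z'⁻¹) := by rw [c1.inv_inv.eq]; group
      _ = (a * b * a⁻¹ * b⁻¹) * (z * z') * (z⁻¹ * z'⁻¹) := by
        have hE : a * b * a⁻¹ * b⁻¹ ∈ El L := mul_mem (mul_mem (mul_mem ha hb) (inv_mem ha)) (inv_mem hb)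
        rw [((El_inf_central hN hn hzE hzN hE).mul_left (El_inf_central hN hn hzE' hzN' hE)).eq]
      _ = _ := by rw [c3.eq]; group
  rw [e2, mul_inv_eq_iff_eq_mul] at e1
  exact e1.symm

/-- The layer centralises the odd core. -/
theorem El_Ol {e o : G} (he : e ∈ El L) (ho : o ∈ Ol L) : Commute e o := by
  obtain ⟨e', he', rfl⟩ := he
  obtain ⟨o', ho', rfl⟩ := ho
  have hsol : Group.IsSolvable ↥(Cfsg.oddCore ↥L) :=
    Bender.AbelianSolvable.odd_solvable' (Nat.coprime_two_right.1 (Fusion.card_pPrimeCore_coprime 2 _))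
  have hc := Subgroup.commutator_eq_bot_iff_le_centralizer.1
    (Solv.layer_commutator_solvable (inferInstance : (Cfsg.oddCore ↥L).Normal).isSubnormal hsol) he'
  exact congrArg Subtype.val (mem_centralizer_iff.1 hc o' ho').symm

namespace Ctx

variable (c : Ctx A)
include c

/-- Lifting a normaliser of the image of `A`, inside a subgroup. -/
theorem lift (hA : A ≤ L) {H : Subgroup G} (hAH : A ≤ H) {h : G} (hh : h ∈ H) (hhL : h ∈ L)
    (hn : ∀ a (ha : a ∈ A), ∃ b, ∃ hb : b ∈ A, pr L ⟨h, hhL⟩ * pr L ⟨a, hA ha⟩ * (pr L ⟨h, hhL⟩)⁻¹ = pr L ⟨b, hA hb⟩) :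
    ∃ n, n ∈ H ∧ ∃ hnL : n ∈ L, n ∈ normalizer (A : Set G) ∧ pr L ⟨n, hnL⟩ = pr L ⟨h, hhL⟩ := by
  haveI : Fact (Nat.Prime 2) := ⟨Nat.prime_two⟩
  let W : Subgroup G := ((A.subgroupOf L).map (pr L)).comap (pr L) |>.map L.subtype
  have hW : ∀ g (hg : g ∈ L), g ∈ W ↔ ∃ b, ∃ hb : b ∈ A, pr L ⟨g, hg⟩ = pr L ⟨b, hA hb⟩ := by
    intro g hg
    refine (mem_map_iff_mem L.subtype_injective (x := (⟨g, hg⟩ : ↥L))).trans ⟨?_, ?_⟩
    · rintro ⟨b, hb, he⟩
      exact ⟨b, hb, he.symm⟩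
    · rintro ⟨b, hb, he⟩
      exact ⟨⟨b, hA hb⟩, hb, he.symm⟩
  obtain ⟨U, hU⟩ : ∃ U, U = H ⊓ W := ⟨_, rfl⟩
  have hAU : A ≤ U := fun a ha => hU ▸ ⟨hAH ha, (hW a (hA ha)).2 ⟨a, ha, rfl⟩⟩
  have hconjU : A.map (MulAut.conj h).toMonoidHom ≤ U := by
    rintro _ ⟨a, ha, rfl⟩
    obtain ⟨b, hb, he⟩ := hn a ha
    rw [hU]
    refine ⟨H.mul_mem (H.mul_mem hh (hAH ha)) (H.inv_mem hh),
      (hW _ (L.mul_mem (L.mul_mem hhL (hA ha)) (L.inv_mem hhL))).2 ⟨b, hb, ?_⟩⟩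
    rw [← he, ← map_inv, ← map_mul, ← map_mul]
    rfl
  obtain ⟨T, hT⟩ := c.sylow_in hAU
  have hp : IsPGroup 2 ((A.map (MulAut.conj h).toMonoidHom).subgroupOf U) :=
    (c.pgroup.map _).comap_subtype
  obtain ⟨R, hR⟩ := hp.exists_le_sylow
  obtain ⟨u, hu⟩ := MulAction.exists_smul_eq ↥U R T
  have hle : ∀ a ∈ A, (u : G) * (h * a * h⁻¹) * (u : G)⁻¹ ∈ A := by
    intro a ha
    have h1 : MulAut.conj u • (⟨h * a * h⁻¹, hconjU ⟨a, ha, rfl⟩⟩ : ↥U) ∈ (T : Subgroup ↥U) := by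
      rw [← hu, Sylow.coe_subgroup_smul]
      exact Subgroup.smul_mem_pointwise_smul _ _ _ (hR (mem_subgroupOf.2 ⟨a, ha, rfl⟩))
    rw [hT, mem_subgroupOf] at h1
    exact h1
  have huHW : (u : G) ∈ H ⊓ W := hU ▸ u.2
  have huL : (u : G) ∈ L := map_subtype_le _ huHW.2
  obtain ⟨b, hb, hub⟩ := (hW _ huL).1 huHW.2
  refine ⟨b⁻¹ * (u * h), H.mul_mem (H.inv_mem (hAH hb)) (H.mul_mem huHW.1 hh),
    L.mul_mem (L.inv_mem (hA hb)) (L.mul_mem huL hhL), mem_norm fun a ha => ?_, ?_⟩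
  · rw [show b⁻¹ * (u * h) * a * (b⁻¹ * (u * h))⁻¹ = b⁻¹ * ((u : G) * (h * a * h⁻¹) * (u : G)⁻¹) * b by group]
    exact A.mul_mem (A.mul_mem (A.inv_mem hb) (hle a ha)) hb
  · rw [show (⟨b⁻¹ * (u * h), L.mul_mem (L.inv_mem (hA hb)) (L.mul_mem huL hhL)⟩ : ↥L)
        = (⟨b, hA hb⟩ : ↥L)⁻¹ * (⟨u, huL⟩ * ⟨h, hhL⟩) from rfl, map_mul, map_mul, map_inv, hub, inv_mul_cancel_left]

/-- In the quotient, elements of the component normalising the image of `A` permute the trace transitively. -/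
theorem turn (hB : Base A L) {a b : G} (ha : a ∈ tr L A) (ha1 : a ≠ 1) (hb : b ∈ tr L A) (hb1 : b ≠ 1) :
    ∃ k ∈ KK L, k * pr L ⟨a, hB.le (tr_le L A ha)⟩ * k⁻¹ = pr L ⟨b, hB.le (tr_le L A hb)⟩ ∧
      ∀ d (hd : d ∈ A), ∃ d', ∃ hd' : d' ∈ A, k * pr L ⟨d, hB.le hd⟩ * k⁻¹ = pr L ⟨d', hB.le hd'⟩ := by
  haveI : Fact (Nat.Prime 2) := ⟨Nat.prime_two⟩
  haveI := hB.simple
  obtain ⟨P, hP⟩ := c.sylow_quot hB.le
  obtain ⟨Q, hQ⟩ := (CoreFree.comp_sylIn hB.comp P).exists_sylow_subgroupOf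
  obtain ⟨h', hn', -, htr⟩ := (cyc_of_ktype (of_injective hB.core.ab (KK L).subtype (KK L).subtype_injective)
    hB.ktype Q).turn
  have hmemQ : ∀ y : KK L, y ∈ (Q : Subgroup (KK L)) ↔ (y : Lq L) ∈ (P : Subgroup (Lq L)) := fun y => by
    rw [hQ, mem_subgroupOf, mem_inf, and_iff_left y.2]
  have hPmem : ∀ d (hd : d ∈ A), pr L ⟨d, hB.le hd⟩ ∈ (P : Subgroup (Lq L)) := fun d hd =>
    hP.ge ⟨⟨d, hB.le hd⟩, hd, rfl⟩
  obtain ⟨i, hi⟩ := htr ⟨_, ((mem_tr (hB.le (tr_le L A ha))).1 ha).1⟩ ((hmemQ _).2 (hPmem a (tr_le L A ha)))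
    (fun e => ha1 (c.pr_eq_one (tr_le L A ha) (hB.le (tr_le L A ha)) (congrArg Subtype.val e)))
    ⟨_, ((mem_tr (hB.le (tr_le L A hb))).1 hb).1⟩ ((hmemQ _).2 (hPmem b (tr_le L A hb)))
    (fun e => hb1 (c.pr_eq_one (tr_le L A hb) (hB.le (tr_le L A hb)) (congrArg Subtype.val e)))
  refine ⟨((h' ^ i : KK L) : Lq L), (h' ^ i).2, congrArg Subtype.val hi, fun d hd => ?_⟩
  obtain ⟨v, hv, hc⟩ := hB.core.split hB.comp P (hPmem d hd)
  have hconj : ((h' ^ i : KK L) : Lq L) * v * ((h' ^ i : KK L) : Lq L)⁻¹ ∈ (P : Subgroup (Lq L)) :=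
    (hmemQ _).1 ((mem_normalizer_iff.1 (pow_mem hn' i) ⟨v, hv.2⟩).1 ((hmemQ _).2 hv.1))
  have e : ((h' ^ i : KK L) : Lq L) * pr L ⟨d, hB.le hd⟩ * ((h' ^ i : KK L) : Lq L)⁻¹ =
      ((h' ^ i : KK L) : Lq L) * v * ((h' ^ i : KK L) : Lq L)⁻¹ * (v⁻¹ * pr L ⟨d, hB.le hd⟩) := by
    rw [show ∀ k : Lq L, k * pr L ⟨d, hB.le hd⟩ * k⁻¹ = k * v * (v⁻¹ * pr L ⟨d, hB.le hd⟩ * k⁻¹) from
      fun k => by group, hc _ (inv_mem (h' ^ i).2)]
    group
  obtain ⟨d', hd', he⟩ := hP.le (e ▸ mul_mem hconj (mul_mem (inv_mem hv.1) (hPmem d hd)))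
  exact ⟨d', hd', he.symm⟩

/-- The trace is permuted transitively in `N_L(A)`. -/
theorem trans (hB : Base A L) {a b : G} (ha : a ∈ tr L A) (ha1 : a ≠ 1) (hb : b ∈ tr L A) (hb1 : b ≠ 1) :
    ∃ n ∈ L, n ∈ normalizer (A : Set G) ∧ n * a * n⁻¹ = b := by
  obtain ⟨k, -, he, hn⟩ := c.turn hB ha ha1 hb hb1
  obtain ⟨⟨h, hh⟩, rfl⟩ := QuotientGroup.mk'_surjective _ k
  obtain ⟨n, hnH, hnL, hnN, hne⟩ := c.lift hB.le hB.le hh hh hn
  refine ⟨n, hnH, hnN, c.pr_inj ((mem_normalizer_iff.1 hnN a).1 (tr_le L A ha)) (tr_le L A hb) (L.mul_mem (L.mul_mem hnL (hB.le (tr_le L A ha))) (L.inv_mem hnL)) (hB.le (tr_le L A hb)) ?_⟩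
  rw [← he, ← hne, ← map_inv, ← map_mul, ← map_mul]
  rfl

/-- `N_L(A)` fixes the generator of the centraliser. -/
theorem fix {w : G} (h : Half A L w) {g : G} (hg : g ∈ L) (hgN : g ∈ normalizer (A : Set G)) :
    g * w * g⁻¹ = w := by
  refine c.pr_inj ((mem_normalizer_iff.1 hgN w).1 h.mem) h.mem (L.mul_mem (L.mul_mem hg h.w_mem) (L.inv_mem hg)) h.w_mem ?_
  rw [show (⟨g * w * g⁻¹, L.mul_mem (L.mul_mem hg h.w_mem) (L.inv_mem hg)⟩ : ↥L) =
    ⟨g, hg⟩ * ⟨w, h.w_mem⟩ * ⟨g, hg⟩⁻¹ from rfl, map_mul, map_mul, map_inv, mem_center_iff.1 h.wcent,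
    mul_inv_cancel_right]

theorem El_image (hB : Base A L) (hE : El L ≠ ⊥) : (Cfsg.layer ↥L).map (pr L) = KK L := by
  obtain ⟨P, hP⟩ : ∃ P, P = (Cfsg.layer ↥L).map (pr L) := ⟨_, rfl⟩
  rw [← hP]
  have hperf : ⁅P, P⁆ = P := by rw [hP, ← map_commutator, Solv.layer_perfect]
  have hne : P ≠ ⊥ := by
    intro h
    rw [hP, Subgroup.map_eq_bot_iff, QuotientGroup.ker_mk'] at h
    refine hE ?_
    rw [El, perfect_le_solvable Solv.layer_perfect
      (Bender.AbelianSolvable.odd_solvable' (Nat.coprime_two_right.1 (Fusion.card_pPrimeCore_coprime 2 _))) h, Subgroup.map_bot]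
  haveI := hB.normal
  have hle : P ≤ KK L := by
    have h1 := hB.core.perfect_le_gfit hperf
    haveI := Solv.fittingSubgroup_nilpotent (G := Lq L)
    haveI : Group.IsNilpotent ((Cfsg.fittingSubgroup (Lq L)).map (QuotientGroup.mk' (KK L))) :=
      Group.nilpotent_of_surjective ((QuotientGroup.mk' (KK L)).subgroupMap _) (MonoidHom.subgroupMap_surjective _ _)
    have h2 := perfect_le_solvable (P := P.map (QuotientGroup.mk' (KK L))) (by rw [← map_commutator, hperf])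
      (S := (Cfsg.fittingSubgroup (Lq L)).map (QuotientGroup.mk' (KK L))) inferInstance (by
        refine (map_mono h1).trans ?_
        rw [Cfsg.generalizedFittingSubgroup, Subgroup.map_sup,
          (Subgroup.map_eq_bot_iff (KK L)).2 (QuotientGroup.ker_mk' _).ge, bot_sup_eq])
    rwa [Subgroup.map_eq_bot_iff, QuotientGroup.ker_mk'] at h2
  haveI : (P.subgroupOf (KK L)).Normal :=
    haveI : P.Normal := hP ▸ (Local.layer_normal (H := ↥L)).map _ (QuotientGroup.mk'_surjective _)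
    inferInstance
  haveI := hB.simple
  rcases (inferInstance : (P.subgroupOf (KK L)).Normal).eq_bot_or_eq_top with h | h
  · rw [← map_subgroupOf_eq_of_le hle, h, Subgroup.map_bot] at hne
    exact absurd rfl hne
  · exact le_antisymm hle (subgroupOf_eq_top.1 h)

/-- Lifting the component to the layer. -/
theorem El_lift (hB : Base A L) (hE : El L ≠ ⊥) {k : Lq L} (hk : k ∈ KK L) :
    ∃ e, ∃ he : e ∈ El L, pr L ⟨e, El_le L he⟩ = k := by
  rw [← c.El_image hB hE] at hk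
  obtain ⟨e, he, rfl⟩ := hk
  exact ⟨e, ⟨e, he, rfl⟩, rfl⟩

/-- The trace centralises what the layer centralises. -/
theorem tr_commute (hB : Base A L) (hE : El L ≠ ⊥) {a : G} (ha : a ∈ tr L A) {x : G}
    (hx : ∀ e ∈ El L, Commute e x) : Commute a x := by
  obtain ⟨e, he, hp⟩ := c.El_lift hB hE ((mem_tr (hB.le (tr_le L A ha))).1 ha).1
  have ho : e⁻¹ * a ∈ Ol L := by
    rw [← mem_pr_Ol (L.mul_mem (L.inv_mem (El_le L he)) (hB.le (tr_le L A ha)))]
    rw [show (⟨e⁻¹ * a, L.mul_mem (L.inv_mem (El_le L he)) (hB.le (tr_le L A ha))⟩ : ↥L) =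
      (⟨e, El_le L he⟩ : ↥L)⁻¹ * ⟨a, hB.le (tr_le L A ha)⟩ from rfl, map_mul, map_inv, hp, inv_mul_cancel]
  obtain ⟨o, hoe⟩ : ∃ o, o = e⁻¹ * a := ⟨_, rfl⟩
  rw [← hoe] at ho
  have hae : a = e * o := by rw [hoe]; group
  have heo := El_Ol he ho
  have hsq : o * o = (e * e)⁻¹ := by
    refine eq_inv_of_mul_eq_one_right ?_
    calc e * e * (o * o) = e * (e * o) * o := by group
      _ = e * (o * e) * o := by rw [heo.eq]
      _ = a * a := by rw [hae]; group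
      _ = 1 := c.sq (tr_le L A ha)
  have h2 : Commute (o * o) x := hsq ▸ ((hx e he).mul_left (hx e he)).inv_left
  rw [hae]
  exact (hx e he).mul_left (commute_of_sq (orderOf_odd (Ol_odd L) ho) h2)

/-- The trace centralises the odd core. -/
theorem tr_Ol (hB : Base A L) (hE : El L ≠ ⊥) {a o : G} (ha : a ∈ tr L A) (ho : o ∈ Ol L) : Commute a o :=
  c.tr_commute hB hE ha fun _ he => El_Ol he ho

/-- An element moving the layer only inside a subgroup of odd order centralises the component. -/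
theorem cent_of_moves_odd (hB : Base A L) (hE : El L ≠ ⊥) {a : G} (ha : a ∈ L) {R : Subgroup G} (hR : Odd (Nat.card R))
    (hn : El L ≤ normalizer (R : Set G)) (hm : ∀ e ∈ El L, e * a * e⁻¹ * a⁻¹ ∈ R) :
    pr L ⟨a, ha⟩ ∈ centralizer (KK L : Set (Lq L)) := by
  obtain ⟨P, hP⟩ : ∃ P, P = ((R ⊓ El L).subgroupOf L).map (pr L) := ⟨_, rfl⟩
  have hPK : P ≤ KK L := by
    rw [hP, ← c.El_image hB hE]
    exact map_mono fun x hx => (mem_El x.2).1 hx.2
  haveI : (P.subgroupOf (KK L)).Normal := by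
    refine normal_subgroupOf_of_le_normalizer ?_
    rw [← c.El_image hB hE, hP]
    refine le_trans (map_mono fun x hx => ?_) (le_normalizer_map _)
    refine mem_normalizer_fintype fun y hy => ?_
    have hxE : (x : G) ∈ El L := ⟨x, hx, rfl⟩
    exact ⟨(mem_normalizer_iff.1 (hn hxE) _).1 hy.1, (El L).mul_mem ((El L).mul_mem hxE hy.2) ((El L).inv_mem hxE)⟩
  have hPo : Odd (Nat.card P) := by
    refine Odd.of_dvd_nat ?_ (hP ▸ Subgroup.card_map_dvd _ (pr L))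
    rw [Nat.card_congr (subgroupOfEquivOfLe (inf_le_right.trans (El_le L))).toEquiv]
    exact odd_of_le inf_le_left hR
  haveI := hB.simple
  have hbot : P = ⊥ := by
    rcases (inferInstance : (P.subgroupOf (KK L)).Normal).eq_bot_or_eq_top with h | h
    · rw [← map_subgroupOf_eq_of_le hPK, h, Subgroup.map_bot]
    · exfalso
      rw [subgroupOf_eq_top] at h
      haveI : Group.IsSolvable (KK L) := Bender.AbelianSolvable.odd_solvable' (hPo.of_dvd_nat (card_dvd_of_le h))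
      exact CoreFree.comp_nonab hB.comp ⟨⟨IsSimpleGroup.comm_iff_isSolvable.2 inferInstance⟩⟩
  refine mem_centralizer_iff.2 fun k hk => ?_
  obtain ⟨e, he, rfl⟩ := c.El_lift hB hE hk
  have hmE : e * a * e⁻¹ * a⁻¹ ∈ El L := by
    rw [show e * a * e⁻¹ * a⁻¹ = e * (a * e⁻¹ * a⁻¹) by group]
    exact mul_mem he ((mem_normalizer_iff.1 (El_norm L ha) _).1 (inv_mem he))
  have h1 : pr L ⟨e * a * e⁻¹ * a⁻¹, El_le L hmE⟩ ∈ P := hP ▸ ⟨_, ⟨hm e he, hmE⟩, rfl⟩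
  rw [hbot, mem_bot, show (⟨e * a * e⁻¹ * a⁻¹, El_le L hmE⟩ : ↥L) =
    ⟨e, El_le L he⟩ * ⟨a, ha⟩ * (⟨e, El_le L he⟩ : ↥L)⁻¹ * (⟨a, ha⟩ : ↥L)⁻¹ from rfl, map_mul, map_mul, map_mul,
    map_inv, map_inv, mul_inv_eq_one, mul_inv_eq_iff_eq_mul] at h1
  exact h1

/-- With the trace everything, cores of involution centralisers in the component are trivial. -/
theorem small (hF : Full A L) {a : G} (ha : a ∈ A) (ha1 : a ≠ 1) {R : Subgroup (Lq L)} (hR : R ≤ KK L)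
    (hc : ∀ r ∈ R, Commute r (pr L ⟨a, hF.le ha⟩))
    (hn : ∀ k ∈ KK L, Commute k (pr L ⟨a, hF.le ha⟩) → k ∈ normalizer (R : Set (Lq L)))
    (hodd : Odd (Nat.card R)) : R = ⊥ := by
  haveI : Fact (Nat.Prime 2) := ⟨Nat.prime_two⟩
  haveI := hF.simple
  obtain ⟨P, hP⟩ := c.sylow_quot hF.le
  obtain ⟨Q, hQ⟩ := (CoreFree.comp_sylIn hF.comp P).exists_sylow_subgroupOf
  have hQ8 : Nat.card (Q : Subgroup (KK L)) = 8 := by
    rw [hQ, Nat.card_congr (subgroupOfEquivOfLe inf_le_right).toEquiv, ← c.card]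
    refine (Nat.card_eq_of_bijective (fun d : A => (⟨pr L ⟨d, hF.le d.2⟩,
      hP.ge ⟨⟨d, hF.le d.2⟩, d.2, rfl⟩, ((mem_tr (hF.le d.2)).1 (hF.eq d.2)).1⟩ : ↥((P : Subgroup (Lq L)) ⊓ KK L)))
      ⟨fun x y e => Subtype.ext (c.pr_inj x.2 y.2 _ _ (congrArg Subtype.val e)), fun y => ?_⟩).symm
    obtain ⟨x, hx, hxy⟩ := hP.le y.2.1
    exact ⟨⟨x, hx⟩, Subtype.ext hxy⟩
  have haK := ((mem_tr (hF.le ha)).1 (hF.eq ha)).1
  have h := eight_core (of_injective hF.core.ab (KK L).subtype (KK L).subtype_injective) hF.ktype Q hQ8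
    (a := ⟨_, haK⟩) (Subtype.ext (by
      show pr L ⟨a, hF.le ha⟩ * pr L ⟨a, hF.le ha⟩ = 1
      rw [← map_mul, show (⟨a, hF.le ha⟩ : ↥L) * ⟨a, hF.le ha⟩ = 1 from Subtype.ext (c.sq ha), map_one]))
    (fun e => ha1 (c.pr_eq_one ha (hF.le ha) (congrArg Subtype.val e)))
    (R := R.subgroupOf (KK L))
    (fun r hr => mem_centralizer_singleton_iff.2 (Subtype.ext (hc r (mem_subgroupOf.1 hr)).eq))
    (fun k hk => mem_normalizer_fintype fun r hr => by
      rw [SetLike.mem_coe, mem_subgroupOf] at hr ⊢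
      exact (mem_normalizer_iff.1 (hn k k.2 (congrArg Subtype.val (mem_centralizer_singleton_iff.1 hk))) _).1 hr)
    (by rw [Nat.card_congr (subgroupOfEquivOfLe hR).toEquiv]; exact hodd)
  rw [← map_subgroupOf_eq_of_le hR, h, Subgroup.map_bot]

/-- With trace four the component is `PSL₂(q)`. -/
theorem model {w : G} (h : Half A L w) :
    ∃ (F : Type) (_ : Field F) (_ : Fintype F), (Fintype.card F % 8 = 3 ∨ Fintype.card F % 8 = 5) ∧
      5 ≤ Fintype.card F ∧ Nonempty (KK L ≃* Matrix.ProjectiveSpecialLinearGroup (Fin 2) F) := by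
  haveI : Fact (Nat.Prime 2) := ⟨Nat.prime_two⟩
  haveI := h.simple
  obtain ⟨P, hP⟩ := c.sylow_quot h.le
  obtain ⟨Q, hQ⟩ := (CoreFree.comp_sylIn h.comp P).exists_sylow_subgroupOf
  refine four_mod h.ktype Q ?_
  rw [hQ, Nat.card_congr (subgroupOfEquivOfLe inf_le_right).toEquiv, ← h.four]
  refine (Nat.card_eq_of_bijective (fun d : tr L A => (⟨pr L ⟨d, h.le (tr_le L A d.2)⟩,
    hP.ge ⟨⟨d, h.le (tr_le L A d.2)⟩, tr_le L A d.2, rfl⟩, ((mem_tr (h.le (tr_le L A d.2))).1 d.2).1⟩ :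
      ↥((P : Subgroup (Lq L)) ⊓ KK L)))
    ⟨fun x y e => Subtype.ext (c.pr_inj (tr_le L A x.2) (tr_le L A y.2) _ _ (congrArg Subtype.val e)), fun y => ?_⟩).symm
  obtain ⟨x, hx, hxy⟩ := hP.le y.2.1
  exact ⟨⟨x, (mem_tr x.2).2 ⟨hxy ▸ y.2.2, hx⟩⟩, Subtype.ext hxy⟩

end Ctx

end Cfsg.Agent.Walter.R3
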