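import Cfsg.Agent.Lib.Walter.R3.Lines
import Cfsg.Agent.Lib.Walter.Core.Embedded
import Cfsg.Agent.Lib.Walter.GLift
import Cfsg.Agent.Lib.GW.Meet

/-!
# Rank three: a maximal subgroup over an involution centraliser and its conjugates
-/

set_option autoImplicit false
set_option linter.style.haveILetI false
set_option linter.unusedSectionVars false

namespace Cfsg.Agent.Walter.R3

open Subgroup Cfsg.Agent.Solv.AbelianTwo

universe u

/-- Isomorphisms map the layer to the layer. -/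
theorem layer_equiv {X Y : Type*} [Group X] [Group Y] (e : X ≃* Y) :
    (Cfsg.layer X).map e.toMonoidHom = Cfsg.layer Y := by
  refine le_antisymm (Subgroup.map_le_iff_le_comap.2 (sSup_le fun J hJ => ?_)) (sSup_le fun J hJ y hy => ?_)
  · exact Subgroup.map_le_iff_le_comap.1 (Solv.component_le_layer (component_map e hJ))
  · exact ⟨e.symm y, Solv.component_le_layer (component_map e.symm hJ) ⟨y, hy, rfl⟩, e.apply_symm_apply y⟩

variable {G : Type u} [Group G] [Finite G] {A M : Subgroup G} {t : G}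

/-- A maximal subgroup over the centraliser of `t`. -/
structure Mem (A M : Subgroup G) (t : G) : Prop where
  mem : t ∈ A
  ne : t ≠ 1
  coatom : IsCoatom M
  cent : centralizer ({t} : Set G) ≤ M

theorem Mem.le (h : Mem A M t) (c : Ctx A) : A ≤ M := (c.le_cent h.mem).trans h.cent

theorem Mem.t_mem (h : Mem A M t) : t ∈ M := h.cent (mem_centralizer_singleton_iff.2 rfl)

namespace Ctx

variable (c : Ctx A) (hsol : ∀ (X : Type u) [Group X] [Finite X], SEB.Sol X)
include c hsol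

/-- The member has the second shape. -/
theorem mem_half (hm : Mem A M t) : Half A M t := by
  haveI : Fact (Nat.Prime 2) := ⟨Nat.prime_two⟩
  have hns : ¬ Group.IsSolvable M := fun hs => c.three.nonsolv t (c.order hm.mem hm.ne) (by
    haveI := hs
    exact Group.isSolvable_of_isSolvable_injective (f := Subgroup.inclusion hm.cent) (Subgroup.inclusion_injective _))
  rcases c.quot_cases (hm.le c) hm.coatom.1 with hs | hf | ⟨w, hw⟩
  · exact absurd hs hns
  · exfalso
    obtain ⟨S, hS⟩ := c.syl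
    refine hns (solvable_of_over hsol c.min.ab (S := S) (A := A) hS.ge (fun x hx _ => hS ▸ hx)
      (fun x hx => by rw [pow_two, c.sq hx]) (by rw [c.card]; norm_num) hm.coatom.1 ?_ ?_)
    · intro d hd hd1 g hg
      obtain ⟨n, hn, -, he⟩ := c.trans hf.toBase (hf.eq hm.mem) hm.ne (hf.eq hd) hd1
      have h1 : n⁻¹ * g * n ∈ centralizer ({t} : Set G) := by
        rw [mem_centralizer_singleton_iff] at hg ⊢
        rw [show t = n⁻¹ * d * n by rw [← he]; group]
        calc n⁻¹ * g * n * (n⁻¹ * d * n) = n⁻¹ * (g * d) * n := by group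
          _ = n⁻¹ * d * n * (n⁻¹ * g * n) := by rw [hg]; group
      simpa [mul_assoc] using M.mul_mem (M.mul_mem hn (hm.cent h1)) (M.inv_mem hn)
    · intro g hg
      have hgt := (mem_normalizer_iff.1 hg t).1 hm.mem
      obtain ⟨n, hn, -, he⟩ := c.trans hf.toBase (hf.eq hm.mem) hm.ne (hf.eq hgt) fun e => hm.ne (conj_eq_one_iff.1 e)
      have h1 : n⁻¹ * g ∈ centralizer ({t} : Set G) := by
        rw [mem_centralizer_singleton_iff]
        calc n⁻¹ * g * t = n⁻¹ * (g * t * g⁻¹) * g := by group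
          _ = t * (n⁻¹ * g) := by rw [← he]; group
      simpa using M.mul_mem hn (hm.cent h1)
  · rcases c.fixed_only hm.mem hm.ne hw.mem fun n hn hnt =>
      c.fix hw (hm.cent (mem_centralizer_singleton_iff.2 hnt)) hn with e | e
    · exact absurd e hw.ne
    · exact e ▸ hw

/-- Every coset of the core meets the centraliser of `t`. -/
theorem mem_split (hm : Mem A M t) {g : G} (hg : g ∈ M) :
    ∃ o ∈ Ol M, ∃ x ∈ centralizer ({t} : Set G), g = o * x := by
  have h := c.mem_half hsol hm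
  obtain ⟨y, hy, he⟩ := lift_commute (N := Cfsg.oddCore ↥M)
    (Nat.coprime_two_right.1 (Fusion.card_pPrimeCore_coprime 2 _)) (r := (⟨t, hm.t_mem⟩ : ↥M))
    (Subtype.ext (c.sq hm.mem)) (y := pr M ⟨g, hg⟩) (mem_center_iff.1 h.wcent _)
  refine ⟨g * (y : G)⁻¹, (mem_pr_Ol (M.mul_mem hg (M.inv_mem y.2))).1 ?_, y,
    mem_centralizer_singleton_iff.2 (congrArg Subtype.val hy.eq), by group⟩
  rw [show (⟨g * (y : G)⁻¹, M.mul_mem hg (M.inv_mem y.2)⟩ : ↥M) = ⟨g, hg⟩ * y⁻¹ from rfl, map_mul, map_inv, he,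
    mul_inv_cancel]

/-- The core of the centraliser lies in the core of the member. -/
theorem mem_core (hm : Mem A M t) : Ol (centralizer ({t} : Set G)) ≤ Ol M := by
  have hle : Ol (centralizer ({t} : Set G)) ≤ M := (Ol_le _).trans hm.cent
  obtain ⟨R, hR⟩ : ∃ R, R = ((Ol (centralizer ({t} : Set G))).subgroupOf M).map (pr M) := ⟨_, rfl⟩
  haveI : R.Normal := by
    refine ⟨fun r hr x => ?_⟩
    obtain ⟨⟨g, hg⟩, rfl⟩ := QuotientGroup.mk'_surjective _ x
    obtain ⟨o, ho, y, hy, rfl⟩ := c.mem_split hsol hm hg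
    rw [hR] at hr ⊢
    obtain ⟨z, hz, rfl⟩ := hr
    refine ⟨⟨y * z * y⁻¹, M.mul_mem (M.mul_mem (hm.cent hy) z.2) (M.inv_mem (hm.cent hy))⟩,
      (mem_normalizer_iff.1 (Ol_norm _ hy) _).1 hz, ?_⟩
    have h1 : pr M ⟨o, Ol_le M ho⟩ = 1 := (mem_pr_Ol (Ol_le M ho)).2 ho
    rw [show (⟨o * y, hg⟩ : ↥M) = ⟨o, Ol_le M ho⟩ * ⟨y, hm.cent hy⟩ from rfl, map_mul, h1, one_mul, ← map_inv,
      ← map_mul, ← map_mul]
    rfl
  have hbot : R = ⊥ := (c.coreFree).odd_normal_eq_bot inferInstance (by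
    refine Odd.of_dvd_nat ?_ (hR ▸ Subgroup.card_map_dvd _ (pr M))
    rw [Nat.card_congr (subgroupOfEquivOfLe hle).toEquiv]
    exact Ol_odd _)
  intro z hz
  refine (mem_pr_Ol (hle hz)).1 ?_
  rw [← mem_bot, ← hbot, hR]
  exact ⟨⟨z, hle hz⟩, hz, rfl⟩

end Ctx

/-- The conjugates of a member, indexed by the involutions of `A`. -/
structure Fam (A : Subgroup G) (mm : G → Subgroup G) : Prop where
  mem : ∀ d ∈ A, d ≠ 1 → Mem A (mm d) d
  conj : ∀ g d : G, d ∈ A → d ≠ 1 → g * d * g⁻¹ ∈ A → mm (g * d * g⁻¹) = (mm d).map (MulAut.conj g).toMonoidHom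

namespace Ctx

variable (c : Ctx A)
include c

theorem exists_fam (hm : Mem A M t) : ∃ mm : G → Subgroup G, Fam A mm ∧ mm t = M := by
  classical
  have hwell : ∀ g g' : G, g * t * g⁻¹ = g' * t * g'⁻¹ →
      M.map (MulAut.conj g).toMonoidHom = M.map (MulAut.conj g').toMonoidHom := by
    intro g g' he
    have hx : g'⁻¹ * g ∈ M := hm.cent (mem_centralizer_singleton_iff.2 (by
      calc g'⁻¹ * g * t = g'⁻¹ * (g * t * g⁻¹) * g := by group
        _ = t * (g'⁻¹ * g) := by rw [he]; group))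
    ext x
    rw [mem_map_equiv, mem_map_equiv, MulAut.conj_symm_apply, MulAut.conj_symm_apply]
    constructor
    · intro h
      have := M.mul_mem (M.mul_mem hx h) (M.inv_mem hx)
      simpa [mul_assoc] using this
    · intro h
      have := M.mul_mem (M.mul_mem (M.inv_mem hx) h) hx
      simpa [mul_assoc] using this
  let mm : G → Subgroup G := fun d => if h : ∃ g : G, g * t * g⁻¹ = d then M.map (MulAut.conj h.choose).toMonoidHom else ⊥
  have hval : ∀ g : G, mm (g * t * g⁻¹) = M.map (MulAut.conj g).toMonoidHom := fun g => by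
    have h : ∃ g' : G, g' * t * g'⁻¹ = g * t * g⁻¹ := ⟨g, rfl⟩
    simp only [mm, dif_pos h]
    exact hwell _ _ h.choose_spec
  have hmt : mm t = M := by
    have := hval 1
    rw [show (1 : G) * t * 1⁻¹ = t by group] at this
    rw [this, map_one]
    exact Subgroup.map_id M
  refine ⟨mm, ⟨fun d hd hd1 => ?_, fun g d hd hd1 _ => ?_⟩, hmt⟩
  · obtain ⟨g, -, rfl⟩ := c.transitive hm.mem hm.ne hd hd1
    refine ⟨hd, hd1, ?_, ?_⟩
    · rw [hval]
      exact (MulEquiv.mapSubgroup (MulAut.conj g)).isCoatom_iff M |>.2 hm.coatom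
    · intro x hx
      rw [hval, mem_map_equiv, MulAut.conj_symm_apply]
      refine hm.cent (mem_centralizer_singleton_iff.2 ?_)
      calc g⁻¹ * x * g * t = g⁻¹ * (x * (g * t * g⁻¹)) * g := by group
        _ = t * (g⁻¹ * x * g) := by rw [mem_centralizer_singleton_iff.1 hx]; group
  · obtain ⟨h, -, rfl⟩ := c.transitive hm.mem hm.ne hd hd1
    rw [show g * (h * t * h⁻¹) * g⁻¹ = g * h * t * (g * h)⁻¹ by group, hval, hval, Subgroup.map_map, map_mul]
    rfl

end Ctx

namespace Fam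

variable {mm : G → Subgroup G} (F : Fam A mm) (c : Ctx A) (hsol : ∀ (X : Type u) [Group X] [Finite X], SEB.Sol X)
include F c

theorem conj_of {d e : G} (hd : d ∈ A) (hd1 : d ≠ 1) (he : e ∈ A) (he1 : e ≠ 1) :
    ∃ g ∈ normalizer (A : Set G), g * d * g⁻¹ = e ∧ mm e = (mm d).map (MulAut.conj g).toMonoidHom := by
  obtain ⟨g, hg, rfl⟩ := c.transitive hd hd1 he he1
  exact ⟨g, hg, rfl, F.conj g d hd hd1 he⟩

theorem El_ne {d e : G} (hd : d ∈ A) (hd1 : d ≠ 1) (he : e ∈ A) (he1 : e ≠ 1) (h : El (mm d) ≠ ⊥) :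
    El (mm e) ≠ ⊥ := by
  obtain ⟨g, -, -, hg⟩ := F.conj_of c hd hd1 he he1
  rw [hg]
  intro hb
  refine h ?_
  let i := (mm d).equivMapOfInjective (MulAut.conj g).toMonoidHom (MulAut.conj g).injective
  rw [El, Subgroup.map_eq_bot_iff_of_injective _ (Subgroup.subtype_injective _), ← layer_equiv i,
    Subgroup.map_eq_bot_iff_of_injective _ i.injective] at hb
  rw [El, hb, Subgroup.map_bot]

theorem pCore_iff {d e : G} (hd : d ∈ A) (hd1 : d ≠ 1) (he : e ∈ A) (he1 : e ≠ 1) {r : ℕ} (hr : r.Prime) :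
    Cfsg.pCore r ↥(mm d) = ⊥ ↔ Cfsg.pCore r ↥(mm e) = ⊥ := by
  obtain ⟨g, -, -, hg⟩ := F.conj_of c hd hd1 he he1
  rw [hg]
  haveI := Fact.mk hr
  have i := Fusion.map_pCore_equiv (p := r)
    ((mm d).equivMapOfInjective (MulAut.conj g).toMonoidHom (MulAut.conj g).injective)
  rw [← i, Subgroup.map_eq_bot_iff_of_injective _ (MulEquiv.injective _)]

include hsol

theorem inj {d e : G} (hd : d ∈ A) (hd1 : d ≠ 1) (he : e ∈ A) (he1 : e ≠ 1) (h : mm d = mm e) : d = e := by
  have hd' := c.mem_half hsol (F.mem d hd hd1)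
  have he' := c.mem_half hsol (F.mem e he he1)
  have hm : e ∈ mm d := h ▸ (F.mem e he he1).t_mem
  have hc : pr (mm d) ⟨e, hm⟩ ∈ centralizer (KK (mm d) : Set (Lq (mm d))) := by
    have key : ∀ (L : Subgroup G), Half A L e → ∀ (heL : e ∈ L), pr L ⟨e, heL⟩ ∈ centralizer (KK L : Set (Lq L)) :=
      fun L hL heL => mem_centralizer_iff.2 fun k _ => mem_center_iff.1 hL.wcent k
    exact key _ (h.symm ▸ he') hm
  rcases hd'.cent _ hc with e' | e'
  · exact absurd (c.pr_eq_one he hm e') he1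
  · exact (c.pr_inj he hd hm (F.mem d hd hd1).t_mem e').symm

end Fam

end Cfsg.Agent.Walter.R3
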