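import Cfsg.Agent.Lib.Walter.R3.LStep

/-!
# Rank three: `t` centralises the prime cores of its member

A moved core gives a subgroup `X` normalised by `C(t)` and generated by elements inverted by `t`; a maximal subgroup
over the centraliser of a suitable element of `X` has a layer centralising `X`, against the normaliser of `X`.
-/

set_option autoImplicit false
set_option linter.style.haveILetI false
set_option linter.unusedSectionVars false

namespace Cfsg.Agent.Walter.R3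

open Subgroup Cfsg.Agent.Solv.AbelianTwo
open scoped commutatorElement

universe u

variable {G : Type u} [Group G] [Finite G] {A L : Subgroup G} {t : G}

theorem cent_norm {g x : G} (h : Commute x g) : x ∈ normalizer (zpowers g : Set G) :=
  centralizer_le_normalizer _ (mem_centralizer_iff.2 fun z hz => by
    obtain ⟨i, rfl⟩ := mem_zpowers_iff.1 hz
    exact (h.zpow_right i).eq.symm)

namespace Ctx

variable (c : Ctx A)
include c

/-- A proper subgroup over `A` with a layer has one of the two shapes. -/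
theorem shapes (hA : A ≤ L) (hL : L ≠ ⊤) (hE : El L ≠ ⊥) : Full A L ∨ ∃ w, Half A L w :=
  (c.quot_cases hA hL).resolve_left fun hs => hE (perfect_le_solvable (El_perfect L) hs (El_le L))

end Ctx

namespace Fam

variable {mm : G → Subgroup G} (F : Fam A mm) (c : Ctx A) (hsol : ∀ (X : Type u) [Group X] [Finite X], SEB.Sol X)
include F c hsol

/-- A maximal subgroup over the normaliser of a nontrivial element of the prime core. -/
theorem exists_over (ht : t ∈ A) (ht1 : t ≠ 1) {s : ℕ} {g : G} (hg : g ∈ GW.fq s (mm t)) (hg1 : g ≠ 1) :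
    ∃ L : Subgroup G, IsCoatom L ∧ normalizer (zpowers g : Set G) ≤ L :=
  c.exists_coatom (c.norm_ne_top (by rwa [ne_eq, zpowers_eq_bot]) fun e => (F.mem t ht ht1).coatom.1
    (top_le_iff.1 (e ▸ zpowers_le.2 (fq_le s _ hg))))

/-- The layer of a subgroup over `A` centralises the eigen elements in it. -/
theorem gens (ht : t ∈ A) (ht1 : t ≠ 1) {s : ℕ} [Fact s.Prime] (hs2 : s ≠ 2) {y : G} {B : Subgroup G}
    (he : Eig A t y B) (hy : y ∈ GW.fq s (mm t)) (hL : L ≠ ⊤) (hAL : A ≤ L) (hyL : y ∈ L) {e : G} (hee : e ∈ El L) :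
    Commute e y := by
  by_cases hE : El L = ⊥
  · rw [hE, mem_bot] at hee
    exact hee ▸ Commute.one_left y
  suffices h : y ∈ Ol L ∨ ∀ e ∈ El L, Commute e y from h.elim (fun h => El_Ol hee h) (fun h => h e hee)
  have hyo : Odd (orderOf y) := orderOf_odd (pgroup_odd hs2 (fq_pgroup s (mm t))) hy
  obtain ⟨η, hη⟩ : ∃ η, η = pr L ⟨y, hyL⟩ := ⟨_, rfl⟩
  have hoq : Odd (orderOf η) :=
    hη ▸ hyo.of_dvd_nat ((orderOf_map_dvd (pr L) _).trans (dvd_of_eq (Subgroup.orderOf_mk y hyL)))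
  have hinvq : pr L ⟨t, hAL ht⟩ * η * (pr L ⟨t, hAL ht⟩)⁻¹ = η⁻¹ := by
    rw [hη, ← map_inv, ← map_mul, ← map_mul, ← map_inv]
    exact congrArg _ (Subtype.ext he.inv)
  rcases c.shapes hAL hL hE with hf | ⟨w, hw⟩
  · left
    obtain ⟨b, hb, -, hb1⟩ := exists_third he.four 1
    have hbA := he.le hb
    have hmb := F.mem b hbA hb1
    obtain ⟨R, hR⟩ : ∃ R, R = ((Ol (centralizer ({b} : Set G)) ⊓ L).subgroupOf L).map (pr L) ⊓ KK L := ⟨_, rfl⟩
    have hbot : R = ⊥ := by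
      refine c.small hf hbA hb1 (hR ▸ inf_le_right) (fun r hr => ?_) (fun k hk hkb => ?_)
        (odd_of_le (hR ▸ inf_le_left) ?_)
      · rw [hR] at hr
        obtain ⟨⟨r', hr', rfl⟩, -⟩ := hr
        exact (show Commute r' ⟨b, hf.le hbA⟩ from Subtype.ext (mem_centralizer_singleton_iff.1
          (Ol_le _ (mem_subgroupOf.1 hr').1))).map (pr L)
      · obtain ⟨y0, hy0, rfl⟩ := lift_commute (N := Cfsg.oddCore ↥L)
          (Nat.coprime_two_right.1 (Fusion.card_pPrimeCore_coprime 2 _)) (r := (⟨b, hf.le hbA⟩ : ↥L))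
          (Subtype.ext (c.sq hbA)) hkb
        have hy0C : (y0 : G) ∈ centralizer ({b} : Set G) :=
          mem_centralizer_singleton_iff.2 (congrArg Subtype.val hy0.eq)
        rw [hR]
        refine mem_norm fun r hr => ?_
        obtain ⟨⟨r', hr', rfl⟩, hrK⟩ := hr
        refine ⟨⟨y0 * r' * y0⁻¹, ⟨(mem_normalizer_iff.1 (Ol_norm _ hy0C) _).1 (mem_subgroupOf.1 hr').1,
          (y0 * r' * y0⁻¹).2⟩, by rw [map_mul, map_mul, map_inv]⟩, hf.normal.conj_mem _ hrK _⟩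
      · refine Odd.of_dvd_nat ?_ (Subgroup.card_map_dvd _ (pr L))
        rw [Nat.card_congr (subgroupOfEquivOfLe inf_le_right).toEquiv]
        exact odd_of_le inf_le_left (Ol_odd _)
    have hτ := ((mem_tr (hAL ht)).1 (hf.eq ht)).1
    have hsq : η * η ∈ KK L := by
      have h1 : pr L ⟨t, hAL ht⟩ * η * (pr L ⟨t, hAL ht⟩)⁻¹ * η⁻¹ ∈ KK L := by
        rw [mul_assoc, mul_assoc, ← mul_assoc η]
        exact mul_mem hτ (hf.normal.conj_mem _ (inv_mem hτ) η)
      rw [hinvq] at h1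
      rw [show η * η = (η⁻¹ * η⁻¹)⁻¹ by rw [mul_inv_rev, inv_inv]]
      exact inv_mem h1
    have hηK : η ∈ KK L := by
      obtain ⟨j, hj⟩ := exists_pow_eq_self_of_coprime hoq.coprime_two_left
      rw [← hj, pow_two]
      exact pow_mem hsq j
    have hyC : y ∈ Ol (centralizer ({b} : Set G)) := by
      refine le_Ol (R := Ol (mm b) ⊓ centralizer ({b} : Set G)) inf_le_right (fun g hg => mem_norm fun x hx =>
        ⟨(mem_normalizer_iff.1 (Ol_norm _ (hmb.cent hg)) x).1 hx.1, (centralizer ({b} : Set G)).mul_mem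
          ((centralizer ({b} : Set G)).mul_mem hg hx.2) ((centralizer ({b} : Set G)).inv_mem hg)⟩)
        (odd_of_le inf_le_left (Ol_odd _)) ⟨fq_le_Ol hs2 _ (F.eig_mem c hsol ht ht1 hs2 he hy hb hb1),
          mem_centralizer_singleton_iff.2 (he.cent b hb).eq.symm⟩
    have h1 : η ∈ R := hR ▸ ⟨⟨⟨y, hyL⟩, ⟨hyC, hyL⟩, hη.symm⟩, hηK⟩
    rw [hbot, mem_bot, hη] at h1
    exact (mem_pr_Ol hyL).1 h1
  · by_cases hwB : w ∈ B
    · right
      intro e he'
      have hyw := F.eig_mem c hsol ht ht1 hs2 he hy hwB hw.ne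
      have hEn : El L ≤ normalizer (GW.fq s (mm w) : Set G) :=
        ((c.El_le_cent hw).trans (F.mem w hw.mem hw.ne).cent).trans (fq_norm s _)
      refine El_commute (N := GW.fq s (mm w)) (by
        haveI := (fq_pgroup s (mm w)).isNilpotent
        infer_instance) hEn (fun e' he'' => ?_) he'
      refine ⟨mul_mem ((mem_normalizer_iff.1 (El_norm L hyL) _).1 he'') (inv_mem he''), ?_⟩
      rw [mul_assoc, mul_assoc, ← mul_assoc e']
      exact mul_mem hyw ((mem_normalizer_iff.1 (hEn he'') _).1 (inv_mem hyw))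
    · left
      have hB : ∀ d ∈ B, ∀ hd : d ∈ L, Commute (pr L ⟨d, hd⟩) η := fun d hd hdL =>
        hη ▸ (show Commute (⟨d, hdL⟩ : ↥L) ⟨y, hyL⟩ from Subtype.ext (he.cent d hd).eq).map (pr L)
      have hct : Commute (pr L ⟨t, hAL ht⟩) η := by
        rcases four_split c he.le he.four hw.mem hwB ht with h | h
        · exact hB t h _
        · have h1 := hB _ h (L.mul_mem hw.w_mem (hAL ht))
          rw [show (⟨w * t, L.mul_mem hw.w_mem (hAL ht)⟩ : ↥L) = ⟨w, hw.w_mem⟩ * ⟨t, hAL ht⟩ from rfl, map_mul] at h1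
          have h2 := (show Commute (pr L ⟨w, hw.w_mem⟩) η from
            (mem_center_iff.1 hw.wcent η).symm).inv_left.mul_left h1
          rwa [inv_mul_cancel_left] at h2
      rw [hct.eq, mul_inv_cancel_right] at hinvq
      have h1 := eq_one_of_inv_eq hinvq.symm hoq
      rw [hη] at h1
      exact (mem_pr_Ol hyL).1 h1

/-- An eigen element lies in the prime cores of all members but one. -/
theorem spread (ht : t ∈ A) (ht1 : t ≠ 1) (hlay : ∀ d ∈ A, d ≠ 1 → El (mm d) = ⊥) {s : ℕ} [Fact s.Prime]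
    (hs2 : s ≠ 2) {y : G} {B : Subgroup G} (he : Eig A t y B) (hy : y ∈ GW.fq s (mm t)) (hy1 : y ≠ 1) :
    ∃ w, w ∈ A ∧ w ≠ 1 ∧ w ≠ t ∧ B = V A w ∧ ∀ d ∈ A, d ≠ 1 → d ≠ w → y ∈ GW.fq s (mm d) := by
  haveI := c.simple
  have hyo : Odd (orderOf y) := orderOf_odd (pgroup_odd hs2 (fq_pgroup s (mm t))) hy
  have hN := he.norm c ht
  obtain ⟨L, hL, hle⟩ := F.exists_over c hsol ht ht1 hy hy1
  have hAL := hN.trans hle
  have hno : ∀ d, (d = t ∨ (d ∈ B ∧ d ≠ 1)) → ¬ El L ≤ mm d := fun d hd =>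
    F.lstep c hsol ht ht1 hlay hs2 hy1 hN he.le he.four he.notmem hy
      (fun d hd hd1 => F.eig_mem c hsol ht ht1 hs2 he hy hd hd1) hL hle hd
  have hE : El L ≠ ⊥ := fun h => hno t (Or.inl rfl) (h ▸ bot_le)
  have hcomm : ∀ e ∈ El L, Commute e y := fun e hee =>
    F.gens c hsol ht ht1 hs2 he hy hL.1 hAL (hle (cent_norm (Commute.refl y))) hee
  rcases c.shapes hAL hL.1 hE with hf | ⟨w, hw⟩
  · exfalso
    have h1 := he.inv
    rw [(c.tr_commute hf.toBase hE (hf.eq ht) hcomm).eq, mul_inv_cancel_right] at h1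
    exact hy1 (eq_one_of_inv_eq h1.symm hyo)
  have hwE : El L ≤ mm w := (c.El_le_cent hw).trans (F.mem w hw.mem hw.ne).cent
  have hwt : w ≠ t := fun e => hno w (Or.inl e) hwE
  have hBV : B = V A w := (he.eq_of_le c ht hyo hy1 (V_le A w) (c.V_card hw.mem hw.ne) fun a ha =>
    c.tr_commute hw.toBase hE ((c.tr_eq_V hw).ge ha) hcomm).symm
  refine ⟨w, hw.mem, hw.ne, hwt, hBV, fun d hd hd1 hdw => ?_⟩
  by_cases hdV : d ∈ V A w
  · exact F.eig_mem c hsol ht ht1 hs2 he hy (hBV ▸ hdV) hd1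
  have hv : w * d ∈ V A w := (c.V_split hw.mem hw.ne hd).resolve_left hdV
  have hv0 : w * t ∈ V A w := (c.V_split hw.mem hw.ne ht).resolve_left (hBV ▸ he.notmem)
  have ne : ∀ a, a ≠ w → w * a ≠ 1 := fun a ha h => ha (by
    have := eq_inv_of_mul_eq_one_right h
    rwa [c.inv hw.mem] at this)
  obtain ⟨k, hk, hke, hkn⟩ := c.turn hw.toBase ((c.tr_eq_V hw).ge hv0) (ne t hwt.symm) ((c.tr_eq_V hw).ge hv)
    (ne d hdw)
  obtain ⟨e, heE, rfl⟩ := c.El_lift hw.toBase hE hk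
  obtain ⟨n, hnH, hnL, hnN, hne⟩ := c.lift hAL hN (cent_norm (hcomm e heE)) (El_le L heE) hkn
  have hwt0 : n * (w * t) * n⁻¹ = w * d := by
    refine c.pr_inj ((mem_normalizer_iff.1 hnN _).1 (A.mul_mem hw.mem ht)) (A.mul_mem hw.mem hd)
      (L.mul_mem (L.mul_mem hnL (hAL (A.mul_mem hw.mem ht))) (L.inv_mem hnL)) (hAL (A.mul_mem hw.mem hd)) ?_
    rw [← hke, ← hne, ← map_inv, ← map_mul, ← map_mul]
    rfl
  have hnt : n * t * n⁻¹ = d := by
    have h1 := congrArg (fun x => w * x) hwt0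
    rw [← mul_assoc w w, c.sq hw.mem, one_mul] at h1
    rw [← h1]
    nth_rw 1 [← c.fix hw hnL hnN]
    rw [show n * w * n⁻¹ * (n * (w * t) * n⁻¹) = n * (w * w) * t * n⁻¹ by group, c.sq hw.mem, mul_one]
  rw [← hnt, F.fq_conj c ht ht1 (hnt.symm ▸ hd) s]
  refine ⟨n⁻¹ * y * n⁻¹⁻¹, zpowers_le.2 hy ((mem_normalizer_iff.1 (inv_mem hnH) y).1 (mem_zpowers y)), ?_⟩
  show n * (n⁻¹ * y * n⁻¹⁻¹) * n⁻¹ = y
  group

/-- No element commuting with `X` lies in enough prime cores. -/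
theorem finish (ht : t ∈ A) (ht1 : t ≠ 1) (hlay : ∀ d ∈ A, d ≠ 1 → El (mm d) = ⊥) {s : ℕ} [Fact s.Prime]
    (hs2 : s ≠ 2) {X : Subgroup G} (hXF : X ≤ GW.fq s (mm t)) (hX1 : X ≠ ⊥)
    (hXn : centralizer ({t} : Set G) ≤ normalizer (X : Set G)) (hgen : X = closure {y | y ∈ X ∧ ∃ B, Eig A t y B})
    {g : G} (hg1 : g ≠ 1) (hAg : A ≤ normalizer (zpowers g : Set G)) (hgX : ∀ y ∈ X, Commute y g) {Λ : Subgroup G}
    (hΛ : Λ ≤ A) (hΛ4 : Nat.card Λ = 4) (htΛ : t ∉ Λ) (hgt : g ∈ GW.fq s (mm t))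
    (hgΛ : ∀ d ∈ Λ, d ≠ 1 → g ∈ GW.fq s (mm d)) : False := by
  haveI := c.simple
  have hmt := F.mem t ht ht1
  obtain ⟨L, hL, hle⟩ := F.exists_over c hsol ht ht1 hgt hg1
  have hAL := hAg.trans hle
  have hno : ¬ El L ≤ mm t :=
    F.lstep c hsol ht ht1 hlay hs2 hg1 hAg hΛ hΛ4 htΛ hgt hgΛ hL hle (Or.inl rfl)
  have hE : El L ≠ ⊥ := fun h => hno (h ▸ bot_le)
  have hEX : El L ≤ centralizer (X : Set G) := by
    intro e he
    have h1 : X ≤ centralizer ({e} : Set G) := by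
      rw [hgen]
      refine (closure_le _).2 ?_
      rintro y ⟨hyX, B, hB⟩
      exact mem_centralizer_singleton_iff.2
        (F.gens c hsol ht ht1 hs2 hB (hXF hyX) hL.1 hAL (hle (cent_norm (hgX y hyX))) he).eq.symm
    exact mem_centralizer_iff.2 fun y hy => mem_centralizer_singleton_iff.1 (h1 hy)
  obtain ⟨N', hN', hle'⟩ := c.exists_coatom (c.norm_ne_top hX1 fun e => hmt.coatom.1
    (top_le_iff.1 (e ▸ hXF.trans (fq_le s _))))
  have hm' : Mem A N' t := ⟨ht, ht1, hN', hXn.trans hle'⟩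
  have hh := c.mem_half hsol hm'
  have hEN : El L ≤ N' := hEX.trans ((centralizer_le_normalizer _).trans hle')
  have hmoves : ∀ e ∈ El L, e * t * e⁻¹ * t⁻¹ ∈ Ol N' := by
    intro e he
    have heN := hEN he
    refine (mem_pr_Ol (N'.mul_mem (N'.mul_mem (N'.mul_mem heN hm'.t_mem) (N'.inv_mem heN)) (N'.inv_mem hm'.t_mem))).1 ?_
    rw [show (⟨e * t * e⁻¹ * t⁻¹, N'.mul_mem (N'.mul_mem (N'.mul_mem heN hm'.t_mem) (N'.inv_mem heN))
      (N'.inv_mem hm'.t_mem)⟩ : ↥N') = ⟨e, heN⟩ * ⟨t, hm'.t_mem⟩ * (⟨e, heN⟩ : ↥N')⁻¹ * (⟨t, hm'.t_mem⟩ : ↥N')⁻¹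
      from rfl, map_mul, map_mul, map_mul, map_inv, map_inv, mem_center_iff.1 hh.wcent, mul_inv_cancel_right,
      mul_inv_cancel]
  have hcent : ∀ hB : Base A L, pr L ⟨t, hAL ht⟩ ∈ centralizer (KK L : Set (Lq L)) := fun hB =>
    c.cent_of_moves_odd hB hE (hAL ht) (Ol_odd N') (hEN.trans (Ol_norm N')) hmoves
  rcases c.shapes hAL hL.1 hE with hf | ⟨w, hw⟩
  · have hτ := ((mem_tr (hAL ht)).1 (hf.eq ht)).1
    have h2 : (⟨_, hτ⟩ : KK L) ∈ center (KK L) := mem_center_iff.2 fun z =>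
      Subtype.ext (mem_centralizer_iff.1 (hcent hf.toBase) z z.2)
    rw [hf.core.comp_center hf.comp, mem_bot] at h2
    exact ht1 (c.pr_eq_one ht (hAL ht) (congrArg Subtype.val h2))
  · rcases hw.cent _ (hcent hw.toBase) with e | e
    · exact ht1 (c.pr_eq_one ht (hAL ht) e)
    · exact hno ((c.El_le_cent hw).trans
        ((c.pr_inj ht hw.mem (hAL ht) hw.w_mem e).symm ▸ hmt.cent))

/-- `t` centralises the odd prime cores of its member. -/
theorem moved (ht : t ∈ A) (ht1 : t ≠ 1) {s : ℕ} [Fact s.Prime] (hs2 : s ≠ 2) {x : G}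
    (hx : x ∈ GW.fq s (mm t)) : Commute x t := by
  by_contra hxt
  obtain ⟨X, hXF, hX1, hXn, hgen, hcz⟩ := F.exists_moved c hsol ht ht1 hs2 ⟨x, hx, hxt⟩
  obtain ⟨y, hyX, hy1, B, he⟩ : ∃ y, y ∈ X ∧ y ≠ 1 ∧ ∃ B, Eig A t y B := by
    by_contra hno
    refine hX1 (eq_bot_iff.2 (hgen.le.trans ((closure_le _).2 fun y hy => ?_)))
    by_contra hy1
    exact hno ⟨y, hy.1, fun e => hy1 (e ▸ one_mem _), hy.2⟩
  have hlay : ∀ d ∈ A, d ≠ 1 → El (mm d) = ⊥ := fun d hd hd1 =>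
    F.no_layer c hsol ht ht1 hs2 he (hXF hyX) hy1 hd hd1
  by_cases hab : ∀ a ∈ X, (∃ B, Eig A t a B) → Commute a y
  · -- `y` is central in `X`
    have hXy : ∀ a ∈ X, Commute a y := by
      intro a ha
      have h1 : X ≤ centralizer ({y} : Set G) := by
        rw [hgen]
        exact (closure_le _).2 fun b hb => mem_centralizer_singleton_iff.2 (hab b hb.1 hb.2).eq
      exact mem_centralizer_singleton_iff.1 (h1 ha)
    exact F.finish c hsol ht ht1 hlay hs2 hXF hX1 hXn hgen hy1 (he.norm c ht) hXy he.le he.four he.notmem (hXF hyX)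
      fun d hd hd1 => F.eig_mem c hsol ht ht1 hs2 he (hXF hyX) hd hd1
  push Not at hab
  obtain ⟨y', hy'X, ⟨B', he'⟩, hne⟩ := hab
  have hy'1 : y' ≠ 1 := fun e => hne (e ▸ Commute.one_left y)
  obtain ⟨w, hwA, hw1, -, hBV, hall⟩ := F.spread c hsol ht ht1 hlay hs2 he (hXF hyX) hy1
  obtain ⟨w', hwA', hw1', -, hBV', hall'⟩ := F.spread c hsol ht ht1 hlay hs2 he' (hXF hy'X) hy'1
  obtain ⟨hzt, hzX⟩ := hcz y hyX y' hy'X
  have hz1 : ⁅y, y'⁆ ≠ 1 := fun e => hne (commutatorElement_eq_one_iff_commute.1 e).symm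
  have hzd : ∀ d ∈ A, d ≠ 1 → d ≠ w → d ≠ w' → ⁅y, y'⁆ ∈ GW.fq s (mm d) := fun d hd hd1 hdw hdw' => by
    rw [commutatorElement_def]
    exact mul_mem (mul_mem (mul_mem (hall d hd hd1 hdw) (hall' d hd hd1 hdw')) (inv_mem (hall d hd hd1 hdw)))
      (inv_mem (hall' d hd hd1 hdw'))
  have hgt : ⁅y, y'⁆ ∈ GW.fq s (mm t) := by
    rw [commutatorElement_def]
    exact mul_mem (mul_mem (mul_mem (hXF hyX) (hXF hy'X)) (inv_mem (hXF hyX))) (inv_mem (hXF hy'X))
  have hAz : A ≤ normalizer (zpowers ⁅y, y'⁆ : Set G) := by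
    intro a ha
    obtain ⟨z, hz⟩ : ∃ z, z = ⁅y, y'⁆ := ⟨_, rfl⟩
    have hzy : Commute z y := hz ▸ hzX y hyX
    have hzy' : Commute z y' := hz ▸ hzX y' hy'X
    have hmem : a * z * a⁻¹ ∈ zpowers z := by
      have e : a * z * a⁻¹ = ⁅a * y * a⁻¹, a * y' * a⁻¹⁆ := by
        rw [hz, commutatorElement_def, commutatorElement_def]; group
      rw [e]
      rcases he.act c ht ha with h | h <;> rcases he'.act c ht ha with h' | h' <;> rw [h, h']
      · exact hz ▸ mem_zpowers _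
      · have : ⁅y, y'⁻¹⁆ = z⁻¹ := by
          rw [show ⁅y, y'⁻¹⁆ = y'⁻¹ * ⁅y, y'⁆⁻¹ * y' by rw [commutatorElement_def, commutatorElement_def]; group,
            ← hz, mul_assoc, hzy'.inv_left.eq, inv_mul_cancel_left]
        rw [this]; exact inv_mem (mem_zpowers z)
      · have : ⁅y⁻¹, y'⁆ = z⁻¹ := by
          rw [show ⁅y⁻¹, y'⁆ = y⁻¹ * ⁅y, y'⁆⁻¹ * y by rw [commutatorElement_def, commutatorElement_def]; group,
            ← hz, mul_assoc, hzy.inv_left.eq, inv_mul_cancel_left]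
        rw [this]; exact inv_mem (mem_zpowers z)
      · have : ⁅y⁻¹, y'⁻¹⁆ = z := by
          rw [show ⁅y⁻¹, y'⁻¹⁆ = (y' * y)⁻¹ * ⁅y, y'⁆ * (y' * y) by
            rw [commutatorElement_def, commutatorElement_def]; group,
            ← hz, mul_assoc, (hzy'.mul_right hzy).eq, inv_mul_cancel_left]
        rw [this]; exact mem_zpowers z
    rw [← hz]
    refine mem_norm ?_
    rintro _ ⟨i, rfl⟩
    show a * z ^ i * a⁻¹ ∈ zpowers z
    rw [← conj_zpow]
    exact zpow_mem hmem i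
  by_cases hw'V : w' ∈ V A w
  · refine F.finish c hsol ht ht1 hlay hs2 hXF hX1 hXn hgen hz1 hAz (fun a ha => (hzX a ha).symm) (V_le A w')
      (c.V_card hwA' hw1') (hBV' ▸ he'.notmem) hgt fun d hd hd1 => hzd d (V_le A w' hd) hd1 ?_ ?_
    · exact fun e => c.asym hwA hw1 hw'V hw1' (e ▸ hd)
    · exact fun e => c.not_mem_V hwA' hw1' (e ▸ hd)
  · refine F.finish c hsol ht ht1 hlay hs2 hXF hX1 hXn hgen hz1 hAz (fun a ha => (hzX a ha).symm) (V_le A w)
      (c.V_card hwA hw1) (hBV ▸ he.notmem) hgt fun d hd hd1 => hzd d (V_le A w hd) hd1 ?_ ?_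
    · exact fun e => c.not_mem_V hwA hw1 (e ▸ hd)
    · exact fun e => hw'V (e ▸ hd)

end Fam

end Cfsg.Agent.Walter.R3
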