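import Cfsg.Agent.Lib.Walter.TypeFacts
import Cfsg.Agent.Lib.Classical.CyclicNormalizer.Main
import Cfsg.Agent.Lib.Classical.Dickson.Tools
import Cfsg.Agent.Lib.Bender.AbelianCases
import Cfsg.Agent.S0810
import Cfsg.Agent.S0811
import Cfsg.Agent.S0812

/-!
# Rank three: the simple groups of the induction

Sylow order 4 gives `PSL₂(q)`, `q ≡ 3, 5 (mod 8)`, with maximal dihedral involution centralisers for `q ≠ 5`;
Sylow order 8 gives trivial cores of involution centralisers.
-/

set_option autoImplicit false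
set_option linter.style.haveILetI false
set_option linter.unusedSectionVars false

namespace Cfsg.Agent.Walter.R3

open Subgroup Cfsg.Agent.Solv.AbelianTwo

universe u

/-- `|PSL₂(q)|` is four times an odd number for `q ≡ 3, 5 (mod 8)`. -/
theorem psl_four {F : Type} [Field F] [Fintype F] (h35 : Fintype.card F % 8 = 3 ∨ Fintype.card F % 8 = 5)
    {K : Type u} [Group K] [Finite K] (e : K ≃* Matrix.ProjectiveSpecialLinearGroup (Fin 2) F) (S : Sylow 2 K) :
    Nat.card (S : Subgroup K) = 4 := by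
  haveI : Fact (Nat.Prime 2) := ⟨Nat.prime_two⟩
  haveI : Finite (Matrix.ProjectiveSpecialLinearGroup (Fin 2) F) := Finite.of_surjective _ Small.PSL2.pr_surjective
  rw [S.card_eq_multiplicity, Nat.card_congr e.toEquiv]
  have hc := Classical.Dickson.card_psl F
  rw [Nat.gcd_eq_left (show 2 ∣ Fintype.card F - 1 by omega)] at hc
  set P := Nat.card (Matrix.ProjectiveSpecialLinearGroup (Fin 2) F)
  obtain ⟨w, hw, hwo⟩ : ∃ w, Fintype.card F ^ 2 - 1 = 2 ^ 3 * w ∧ ¬ 2 ∣ w := by
    obtain ⟨r, hr⟩ : ∃ r, Fintype.card F = 8 * r + 3 ∨ Fintype.card F = 8 * r + 5 :=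
      ⟨Fintype.card F / 8, by omega⟩
    rcases hr with hr | hr
    · refine ⟨8 * r ^ 2 + 6 * r + 1, ?_, by omega⟩
      rw [hr]
      have : (8 * r + 3) ^ 2 = 2 ^ 3 * (8 * r ^ 2 + 6 * r + 1) + 1 := by ring
      omega
    · refine ⟨8 * r ^ 2 + 10 * r + 3, ?_, by omega⟩
      rw [hr]
      have : (8 * r + 5) ^ 2 = 2 ^ 3 * (8 * r ^ 2 + 10 * r + 3) + 1 := by ring
      omega
  have hq2 : ¬ 2 ∣ Fintype.card F := by omega
  have hv : (P * 2).factorization 2 = 3 := by
    rw [hc, hw, Nat.factorization_mul (by omega) (by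
      intro h0; rcases Nat.mul_eq_zero.1 h0 with h0 | h0 <;> omega), Finsupp.add_apply,
      Nat.factorization_mul (by norm_num) (by omega), Finsupp.add_apply,
      Nat.factorization_eq_zero_of_not_dvd hq2, Nat.factorization_eq_zero_of_not_dvd hwo,
      Nat.Prime.factorization_pow Nat.prime_two, Finsupp.single_eq_same, zero_add, add_zero]
  rw [Nat.factorization_mul Nat.card_pos.ne' two_ne_zero, Finsupp.add_apply,
    Nat.Prime.factorization_self Nat.prime_two] at hv
  rw [show P.factorization 2 = 2 from Nat.add_right_cancel (m := 1) hv]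
  norm_num

/-- In characteristic two the centraliser of an involution of `U` is `U`. -/
theorem psl_even {F : Type} [Field F] [Fintype F] {n : ℕ} (hF : Fintype.card F = 2 ^ n)
    {K : Type u} [Group K] [Finite K] (e : K ≃* Matrix.ProjectiveSpecialLinearGroup (Fin 2) F) :
    ∃ U : Sylow 2 K, Nat.card (U : Subgroup K) = 2 ^ n ∧
      ∀ a ∈ (U : Subgroup K), a ≠ 1 → centralizer ({a} : Set K) ≤ U := by
  haveI : Fact (Nat.Prime 2) := ⟨Nat.prime_two⟩
  haveI : Finite (Matrix.ProjectiveSpecialLinearGroup (Fin 2) F) := Finite.of_surjective _ Small.PSL2.pr_surjective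
  let T : Sylow 2 (Matrix.ProjectiveSpecialLinearGroup (Fin 2) F) :=
    ⟨Small.PSL2.U, Small.PSL2.isPGroup_U hF, fun hQ hle => Small.PSL2.U_maximal hQ hle⟩
  refine ⟨T.mapSurjective (f := e.symm.toMonoidHom) e.symm.surjective, ?_, ?_⟩
  · show Nat.card ((Small.PSL2.U : Subgroup _).map e.symm.toMonoidHom) = 2 ^ n
    rw [card_map_of_injective (f := e.symm.toMonoidHom) e.symm.injective, ← hF, ← Nat.card_eq_fintype_card]
    refine (Nat.card_eq_of_bijective (fun x : F => (⟨Small.PSL2.pr (Small.PSL2.uS x), Small.PSL2.uS_mem x⟩ :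
      Small.PSL2.U)) ⟨fun x y e' => Small.PSL2.pr_uS_inj (congrArg Subtype.val e'), fun g => ?_⟩).symm
    obtain ⟨x, hx⟩ := (Small.PSL2.mem_U _).1 g.2
    exact ⟨x, Subtype.ext hx⟩
  · rintro _ ⟨a, ha, rfl⟩ ha1 g hg
    obtain ⟨x, rfl⟩ := (Small.PSL2.mem_U _).1 ha
    have hx : x ≠ 0 := fun h0 => ha1 (by
      rw [h0, show Small.PSL2.uS (0 : F) = 1 by apply Subtype.ext; simp [Small.PSL2.uS, Matrix.one_fin_two],
        map_one, map_one])
    refine ⟨e g, Small.PSL2.mem_U_of_commute hx ?_, e.symm_apply_apply g⟩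
    have h1 := congrArg e (mem_centralizer_singleton_iff.1 hg)
    rw [map_mul, map_mul] at h1
    simp only [MulEquiv.toMonoidHom_eq_coe, MonoidHom.coe_coe, MulEquiv.apply_symm_apply] at h1
    exact h1

variable {K : Type u} [Group K] [Finite K]

/-- All involutions are conjugate. -/
theorem conj_involutions {T : Sylow 2 K} (hT : Cyc (T : Subgroup K)) {a b : K} (ha : a * a = 1) (ha1 : a ≠ 1)
    (hb : b * b = 1) (hb1 : b ≠ 1) : ∃ g : K, g * a * g⁻¹ = b := by
  haveI : Fact (Nat.Prime 2) := ⟨Nat.prime_two⟩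
  have into : ∀ x : K, x * x = 1 → x ≠ 1 → ∃ g : K, g * x * g⁻¹ ∈ (T : Subgroup K) ∧ g * x * g⁻¹ ≠ 1 := by
    intro x hx hx1
    have hp : IsPGroup 2 (zpowers x) := IsPGroup.iff_card.2 (by
      rw [Nat.card_zpowers]
      have h1 : x ^ 2 ^ 1 = 1 := by rw [pow_one, pow_two, hx]
      obtain ⟨i, -, hi⟩ := (Nat.dvd_prime_pow Nat.prime_two).1 (orderOf_dvd_of_pow_eq_one h1)
      exact ⟨i, hi⟩)
    obtain ⟨U, hU⟩ := hp.exists_le_sylow
    obtain ⟨g, hg⟩ := MulAction.exists_smul_eq K U T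
    refine ⟨g, ?_, fun h => hx1 (conj_eq_one_iff.1 h)⟩
    rw [← hg, Sylow.coe_subgroup_smul]
    exact Subgroup.smul_mem_pointwise_smul _ _ _ (hU (mem_zpowers x))
  obtain ⟨g, hg, hg1⟩ := into a ha ha1
  obtain ⟨k, hk, hk1⟩ := into b hb hb1
  obtain ⟨h, -, -, htr⟩ := hT.turn
  obtain ⟨i, hi⟩ := htr _ hg hg1 _ hk hk1
  refine ⟨k⁻¹ * h ^ i * g, ?_⟩
  calc k⁻¹ * h ^ i * g * a * (k⁻¹ * h ^ i * g)⁻¹ = k⁻¹ * (h ^ i * (g * a * g⁻¹) * (h ^ i)⁻¹) * k := by group
    _ = b := by rw [hi]; group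

/-- Sylow subgroups of order 4: the model. -/
theorem four_mod [IsSimpleGroup K] (hK : KType K) (S : Sylow 2 K) (h4 : Nat.card (S : Subgroup K) = 4) :
    ∃ (F : Type) (_ : Field F) (_ : Fintype F), (Fintype.card F % 8 = 3 ∨ Fintype.card F % 8 = 5) ∧
      5 ≤ Fintype.card F ∧ Nonempty (K ≃* Matrix.ProjectiveSpecialLinearGroup (Fin 2) F) := by
  haveI : Fact (Nat.Prime 2) := ⟨Nat.prime_two⟩
  rcases hK with ⟨F, iF, iT, ⟨n, hn, hF⟩ | ⟨h35, h5⟩, ⟨e⟩⟩ | hJ
  · obtain ⟨U, hU, -⟩ := psl_even hF e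
    rw [← Nat.card_congr (U.equiv S).toEquiv, hU] at h4
    obtain ⟨F', i1, i2, h3, h2, ⟨e'⟩⟩ := Classical.CyclicNormalizer.four_to_five (H := K)
      (show Fintype.card F = 4 from hF.trans h4) e
    haveI : Finite (Matrix.ProjectiveSpecialLinearGroup (Fin 2) F') := Finite.of_surjective _ Small.PSL2.pr_surjective
    have hc := Classical.Dickson.card_psl F
    have hc' := Classical.Dickson.card_psl F'
    rw [← Nat.card_congr e.toEquiv, hF.trans h4, show Nat.gcd 2 (4 - 1) = 1 from rfl, mul_one] at hc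
    rw [← Nat.card_congr e'.toEquiv, hc, Classical.Dickson.two_dvd_pred h2] at hc'
    have h5 : Fintype.card F' = 5 := by
      have hle : Fintype.card F' ≤ 5 := by
        by_contra hgt
        have h36 : 6 ^ 2 ≤ Fintype.card F' ^ 2 := Nat.pow_le_pow_left (by omega) 2
        have : 6 * 35 ≤ Fintype.card F' * (Fintype.card F' ^ 2 - 1) := Nat.mul_le_mul (by omega) (by omega)
        omega
      rcases (show Fintype.card F' = 4 ∨ Fintype.card F' = 5 by omega) with h | h
      · rw [h] at hc'; norm_num at hc'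
      · exact h
    exact ⟨F', i1, i2, Or.inr (by omega), by omega, ⟨e'⟩⟩
  · exact ⟨F, iF, iT, h35, h5, ⟨e⟩⟩
  · obtain ⟨T, hT, -⟩ := cyc_jr hJ
    rw [← Nat.card_congr (T.equiv S).toEquiv, hT] at h4
    omega

/-- Sylow subgroups of order 8: the involution centralisers have trivial odd cores. -/
theorem eight_core [IsSimpleGroup K] (hab : Ab2 K) (hK : KType K) (S : Sylow 2 K)
    (h8 : Nat.card (S : Subgroup K) = 8) {a : K} (ha : a * a = 1) (ha1 : a ≠ 1) {R : Subgroup K}
    (hR : R ≤ centralizer ({a} : Set K)) (hn : centralizer ({a} : Set K) ≤ normalizer (R : Set K))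
    (hodd : Odd (Nat.card R)) : R = ⊥ := by
  haveI : Fact (Nat.Prime 2) := ⟨Nat.prime_two⟩
  refine (Subgroup.eq_bot_iff_forall R).2 fun r hr => ?_
  have hro : Odd (orderOf r) := hodd.of_dvd_nat (orderOf_dvd_natCard R hr)
  rcases hK with ⟨F, iF, iT, ⟨n, hn', hF⟩ | ⟨h35, h5⟩, ⟨e⟩⟩ | hJ
  · obtain ⟨U, -, hU⟩ := psl_even hF e
    obtain ⟨b, hb, hb1⟩ : ∃ b ∈ (U : Subgroup K), b ≠ 1 := by
      haveI : Nontrivial (U : Subgroup K) := Finite.one_lt_card_iff_nontrivial.1 (by
        rw [Nat.card_congr (U.equiv S).toEquiv, h8]; norm_num)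
      obtain ⟨y, hy⟩ := exists_ne (1 : (U : Subgroup K))
      exact ⟨y, y.2, fun h => hy (Subtype.ext h)⟩
    obtain ⟨g, hg⟩ := conj_involutions (cyc_of_ktype hab (Or.inl ⟨F, iF, iT, Or.inl ⟨n, hn', hF⟩, ⟨e⟩⟩) U) ha ha1
      ((cyc_of_ktype hab (Or.inl ⟨F, iF, iT, Or.inl ⟨n, hn', hF⟩, ⟨e⟩⟩) U).sq b hb) hb1
    have h1 : g * r * g⁻¹ ∈ (U : Subgroup K) := by
      refine hU b hb hb1 (mem_centralizer_singleton_iff.2 ?_)
      have h2 : r * a = a * r := mem_centralizer_singleton_iff.1 (hR hr)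
      rw [← hg]
      calc g * r * g⁻¹ * (g * a * g⁻¹) = g * (r * a) * g⁻¹ := by group
        _ = g * a * g⁻¹ * (g * r * g⁻¹) := by rw [h2]; group
    obtain ⟨k, hk⟩ := IsPGroup.iff_orderOf.1 U.isPGroup' ⟨_, h1⟩
    rw [Subgroup.orderOf_mk, show g * r * g⁻¹ = MulAut.conj g r from rfl, MulEquiv.orderOf_eq] at hk
    refine orderOf_eq_one_iff.1 (Nat.eq_one_of_dvd_coprimes (k := orderOf r) ?_ hk.dvd dvd_rfl)
    exact Nat.Coprime.pow_left k hro.coprime_two_left
  · rw [psl_four h35 e S] at h8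
    omega
  · have hJ' := hJ
    obtain ⟨-, -, t, E, N, F, iF, iT, ht, hE, hNE, hconj, hFo, hF5, ⟨iso⟩, hCE⟩ := hJ
    obtain ⟨T, hT, hcyc⟩ := cyc_jr hJ'
    have ht2 : t * t = 1 := by rw [← pow_two, ← ht, pow_orderOf_eq_one]
    have ht1 : t ≠ 1 := fun h => by rw [h, orderOf_one] at ht; omega
    obtain ⟨g, hg⟩ := conj_involutions hcyc ha ha1 ht2 ht1
    haveI hsN : IsSimpleGroup N :=
      haveI := S0810.psl_simple_big (F := F) (by omega)
      haveI : Nontrivial N := iso.toEquiv.nontrivial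
      IsSimpleGroup.isSimpleGroup_of_surjective iso.symm.toMonoidHom iso.symm.surjective
    have hmem : ∀ x, x ∈ centralizer ({t} : Set K) → g⁻¹ * x * g ∈ centralizer ({a} : Set K) := fun x hx => by
      have h2 : x * t = t * x := mem_centralizer_singleton_iff.1 hx
      refine mem_centralizer_singleton_iff.2 ?_
      rw [show a = g⁻¹ * t * g by rw [← hg]; group]
      calc g⁻¹ * x * g * (g⁻¹ * t * g) = g⁻¹ * (x * t) * g := by group
        _ = g⁻¹ * t * g * (g⁻¹ * x * g) := by rw [h2]; group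
    obtain ⟨R', hR'⟩ : ∃ R', R' = R.map (MulAut.conj g).toMonoidHom := ⟨_, rfl⟩
    have hR't : ∀ x ∈ R', x ∈ centralizer ({t} : Set K) := by
      rw [hR']
      rintro _ ⟨x, hx, rfl⟩
      have h2 : x * a = a * x := mem_centralizer_singleton_iff.1 (hR hx)
      refine mem_centralizer_singleton_iff.2 ?_
      show g * x * g⁻¹ * t = t * (g * x * g⁻¹)
      rw [← hg]
      calc g * x * g⁻¹ * (g * a * g⁻¹) = g * (x * a) * g⁻¹ := by group
        _ = g * a * g⁻¹ * (g * x * g⁻¹) := by rw [h2]; group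
    have hR'n : ∀ c ∈ centralizer ({t} : Set K), ∀ x ∈ R', c * x * c⁻¹ ∈ R' := by
      rw [hR']
      rintro c hc _ ⟨x, hx, rfl⟩
      refine ⟨g⁻¹ * c * g * x * (g⁻¹ * c * g)⁻¹, (mem_normalizer_iff.1 (hn (hmem c hc)) x).1 hx, ?_⟩
      show g * (g⁻¹ * c * g * x * (g⁻¹ * c * g)⁻¹) * g⁻¹ = c * (g * x * g⁻¹) * c⁻¹
      group
    have hR'o : Odd (Nat.card R') := by rw [hR', card_map_of_injective (MulAut.conj g).injective]; exact hodd
    obtain ⟨hzC, hEC, hcom, hmeet, hsup⟩ := hE
    have htn : centralizer ({t} : Set K) ≤ normalizer (N : Set K) := by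
      rw [← hsup]
      refine sup_le ?_ fun x hx => mem_normalizer_fintype fun n hn' => hconj x hx n hn'
      refine le_trans (zpowers_le.2 (mem_centralizer_iff.2 fun n hn' => ?_)) (centralizer_le_normalizer _)
      exact (hcom t (mem_zpowers t) n (hNE hn')).symm
    -- `R'` meets `N` trivially
    haveI hRN : (R'.subgroupOf N).Normal := by
      refine ⟨fun x hx n => ?_⟩
      rw [mem_subgroupOf] at hx ⊢
      exact hR'n n (hEC (hNE n.2)) x hx
    have hbot : ∀ x ∈ R', x ∈ N → x = 1 := by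
      intro x hx hxN
      rcases hRN.eq_bot_or_eq_top with h | h
      · have h1 : (⟨x, hxN⟩ : N) ∈ R'.subgroupOf N := mem_subgroupOf.2 hx
        rw [h, mem_bot] at h1
        exact congrArg Subtype.val h1
      · exfalso
        rw [subgroupOf_eq_top] at h
        haveI : Group.IsSolvable N := Bender.AbelianSolvable.odd_solvable' (hR'o.of_dvd_nat (card_dvd_of_le h))
        haveI : Group.IsSolvable (Matrix.ProjectiveSpecialLinearGroup (Fin 2) F) :=
          Group.isSolvable_of_surjective (f := iso.toMonoidHom) iso.surjective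
        exact S0810.psl_not_solvable (F := F) (by omega) inferInstance
    obtain ⟨r', hr'⟩ : ∃ r', r' = g * r * g⁻¹ := ⟨_, rfl⟩
    have hr'R : r' ∈ R' := by rw [hR', hr']; exact ⟨r, hr, rfl⟩
    have hr'N : ∀ n ∈ N, Commute r' n := fun n hn' => by
      have h1 : r' * n * r'⁻¹ * n⁻¹ = 1 := by
        refine hbot _ ?_ (mul_mem ((mem_normalizer_iff.1 (htn (hR't r' hr'R)) n).1 hn') (inv_mem hn'))
        rw [mul_assoc, mul_assoc r', ← mul_assoc n]
        exact mul_mem hr'R (hR'n n (hEC (hNE hn')) _ (inv_mem hr'R))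
      rwa [mul_inv_eq_one, mul_inv_eq_iff_eq_mul] at h1
    -- `r'` lies in `E`
    have hsq : r' * r' ∈ E := by
      have h1 : r' ∈ zpowers t ⊔ E := hsup.symm ▸ hR't r' hr'R
      haveI : (E.subgroupOf (zpowers t ⊔ E)).Normal := by
        refine normal_subgroupOf_of_le_normalizer (sup_le ?_ le_normalizer)
        exact le_trans (zpowers_le.2 (mem_centralizer_iff.2 fun e he => (hcom t (mem_zpowers t) e he).symm))
          (centralizer_le_normalizer _)
      obtain ⟨z, hz, e, he, rfl⟩ : ∃ z ∈ zpowers t, ∃ e ∈ E, z * e = r' := by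
        rwa [← SetLike.mem_coe, coe_mul_of_left_le_normalizer_right (zpowers t) E (le_trans (zpowers_le.2
          (mem_centralizer_iff.2 fun e he => (hcom t (mem_zpowers t) e he).symm)) (centralizer_le_normalizer _))] at h1
      obtain ⟨i, rfl⟩ := mem_zpowers_iff.1 hz
      rw [mul_assoc, ← mul_assoc e, ← hcom _ (zpow_mem (mem_zpowers t) i) e he, ← mul_assoc, ← mul_assoc, ← zpow_add,
        ← two_mul, zpow_mul, zpow_two, ht2, one_zpow, one_mul]
      exact mul_mem he he
    have hr'o : Odd (orderOf r') := hR'o.of_dvd_nat (orderOf_dvd_natCard R' hr'R)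
    have hr'E : r' ∈ E := by
      obtain ⟨j, hj⟩ := exists_pow_eq_self_of_coprime hr'o.coprime_two_left
      rw [← hj, pow_two]
      exact pow_mem hsq j
    have h1 : r' ∈ E ⊓ centralizer (N : Set K) := ⟨hr'E, mem_centralizer_iff.2 fun n hn' => (hr'N n hn').eq.symm⟩
    rw [hCE, mem_bot, hr', conj_eq_one_iff] at h1
    exact h1

/-- In a dihedral group an element commuting with a non-central involution squares to one. -/
theorem dihedral_sq {n : ℕ} {r y : DihedralGroup n} (hy : y * y = 1) (hyc : ∃ z, z * y ≠ y * z)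
    (h : Commute r y) : r * r = 1 := by
  rcases r with k | k
  · rcases y with i | i
    · exfalso
      obtain ⟨z, hz⟩ := hyc
      rcases z with j | j
      · exact hz (by rw [DihedralGroup.r_mul_r, DihedralGroup.r_mul_r, add_comm])
      · rw [DihedralGroup.r_mul_r, DihedralGroup.one_def, DihedralGroup.r.injEq] at hy
        exact hz (by rw [DihedralGroup.sr_mul_r, DihedralGroup.r_mul_sr, sub_eq_add_neg,
          neg_eq_of_add_eq_zero_left hy])
    · have h' : DihedralGroup.r k * DihedralGroup.sr i = DihedralGroup.sr i * DihedralGroup.r k := h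
      rw [DihedralGroup.r_mul_sr, DihedralGroup.sr_mul_r, DihedralGroup.sr.injEq, sub_eq_add_neg] at h'
      rw [DihedralGroup.r_mul_r, DihedralGroup.one_def, DihedralGroup.r.injEq]
      have h2 : -k = k := add_left_cancel h'
      nth_rw 1 [← h2]
      exact neg_add_cancel k
  · rw [DihedralGroup.sr_mul_sr, sub_self, DihedralGroup.one_def]

/-- For `q ≠ 5` the centraliser of an involution is maximal and dihedral. -/
theorem cent_coatom [IsSimpleGroup K] {F : Type} [Field F] [Fintype F]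
    (h35 : Fintype.card F % 8 = 3 ∨ Fintype.card F % 8 = 5) (h5 : 5 < Fintype.card F)
    (e : K ≃* Matrix.ProjectiveSpecialLinearGroup (Fin 2) F) {T : Sylow 2 K} (hT : Cyc (T : Subgroup K))
    {x : K} (hx : x * x = 1) (hx1 : x ≠ 1) :
    IsCoatom (centralizer ({x} : Set K)) ∧ ∃ n : ℕ, Nonempty (centralizer ({x} : Set K) ≃* DihedralGroup n) := by
  haveI : Finite (Matrix.ProjectiveSpecialLinearGroup (Fin 2) F) := Finite.of_surjective _ Small.PSL2.pr_surjective
  have hg2 : Nat.gcd 2 (Fintype.card F - 1) = 2 := Nat.gcd_eq_left (by omega)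
  obtain ⟨H, hH, n, hn, ⟨i⟩⟩ : ∃ H : Subgroup (Matrix.ProjectiveSpecialLinearGroup (Fin 2) F), IsCoatom H ∧
      ∃ n : ℕ, (∃ m, 0 < m ∧ n = 2 * m) ∧ Nonempty (H ≃* DihedralGroup n) := by
    rcases h35 with h | h
    · obtain ⟨H, hH, hi⟩ := S0811.result (F := F) (q := Fintype.card F) rfl (by
        simp only [Finset.mem_insert, Finset.mem_singleton]; omega)
      exact ⟨H, hH, _, ⟨(Fintype.card F + 1) / 4, by omega, by rw [hg2]; omega⟩, hi⟩
    · obtain ⟨H, hH, hi⟩ := S0812.result (F := F) (q := Fintype.card F) rfl (by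
        simp only [Finset.mem_insert, Finset.mem_singleton]; omega)
      exact ⟨H, hH, _, ⟨(Fintype.card F - 1) / 4, by omega, by rw [hg2]; omega⟩, hi⟩
  obtain ⟨m, hm, rfl⟩ := hn
  obtain ⟨H', hH'⟩ : ∃ H', H' = H.map e.symm.toMonoidHom := ⟨_, rfl⟩
  have hco : IsCoatom H' := by
    rw [hH']
    exact (MulEquiv.mapSubgroup e.symm).isCoatom_iff H |>.2 hH
  let j : H' ≃* DihedralGroup (2 * m) := (MulEquiv.subgroupCongr hH').trans
    ((H.equivMapOfInjective e.symm.toMonoidHom e.symm.injective).symm.trans i)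
  obtain ⟨z, hz⟩ : ∃ z, z = (DihedralGroup.r ((m : ℕ) : ZMod (2 * m)) : DihedralGroup (2 * m)) := ⟨_, rfl⟩
  have hmm : ((m : ℕ) : ZMod (2 * m)) + (m : ℕ) = 0 := by
    rw [← Nat.cast_add, ← two_mul, ZMod.natCast_self]
  have hz2 : z * z = 1 := by rw [hz, DihedralGroup.r_mul_r, hmm, DihedralGroup.one_def]
  have hz1 : z ≠ 1 := by
    rw [hz, Ne, DihedralGroup.one_def, DihedralGroup.r.injEq, ZMod.natCast_eq_zero_iff]
    exact fun hd => by have := Nat.le_of_dvd hm hd; omega
  have hzc : ∀ y, y * z = z * y := by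
    intro y
    rw [hz]
    rcases y with k | k
    · rw [DihedralGroup.r_mul_r, DihedralGroup.r_mul_r, add_comm]
    · rw [DihedralGroup.sr_mul_r, DihedralGroup.r_mul_sr, sub_eq_add_neg, neg_eq_of_add_eq_zero_left hmm]
  obtain ⟨w, hw⟩ : ∃ w : K, w = ((j.symm z : H') : K) := ⟨_, rfl⟩
  have hw2 : w * w = 1 := by rw [hw, ← Subgroup.coe_mul, ← map_mul, hz2, map_one, Subgroup.coe_one]
  have hw1 : w ≠ 1 := fun h => hz1 (j.symm.injective (by rw [map_one]; exact Subtype.ext (hw ▸ h)))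
  have hle : H' ≤ centralizer ({w} : Set K) := by
    intro y hy
    refine mem_centralizer_singleton_iff.2 ?_
    have h1 := congrArg (fun d => ((j.symm d : H') : K)) (hzc (j ⟨y, hy⟩))
    simp only [map_mul, MulEquiv.symm_apply_apply, Subgroup.coe_mul] at h1
    rw [hw]
    exact h1
  have hne : centralizer ({w} : Set K) ≠ ⊤ := by
    intro h
    have hc : w ∈ center K := mem_center_iff.2 fun g => mem_centralizer_singleton_iff.1 (h ▸ mem_top g)
    rcases (inferInstance : (center K).Normal).eq_bot_or_eq_top with h' | h'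
    · rw [h', mem_bot] at hc
      exact hw1 hc
    · haveI := S0810.psl_simple_big (F := F) (by omega)
      refine S0810.psl_not_solvable (F := F) (by omega) ?_
      haveI : Group.IsSolvable K := Group.isSolvable_of_comm fun a b => mem_center_iff.1 (h' ▸ mem_top b) a
      exact Group.isSolvable_of_surjective (f := e.toMonoidHom) e.surjective
  have heq : H' = centralizer ({w} : Set K) := (hle.eq_or_lt).resolve_right fun hlt => hne (hco.2 _ hlt)
  obtain ⟨g, hg⟩ := conj_involutions hT hw2 hw1 hx hx1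
  have hmap : H'.map (MulAut.conj g).toMonoidHom = centralizer ({x} : Set K) := by
    rw [heq, ← hg]
    ext y
    rw [mem_map_equiv, MulAut.conj_symm_apply, mem_centralizer_singleton_iff, mem_centralizer_singleton_iff]
    constructor
    · intro h
      calc y * (g * w * g⁻¹) = g * (g⁻¹ * y * g * w) * g⁻¹ := by group
        _ = g * w * g⁻¹ * y := by rw [h]; group
    · intro h
      calc g⁻¹ * y * g * w = g⁻¹ * (y * (g * w * g⁻¹)) * g := by group
        _ = w * (g⁻¹ * y * g) := by rw [h]; group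
  refine ⟨hmap ▸ ((MulEquiv.mapSubgroup (MulAut.conj g)).isCoatom_iff H').2 hco, 2 * m, ⟨?_⟩⟩
  exact (MulEquiv.subgroupCongr hmap.symm).trans
    ((H'.equivMapOfInjective (MulAut.conj g).toMonoidHom (MulAut.conj g).injective).symm.trans j)

end Cfsg.Agent.Walter.R3
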