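import Cfsg.Agent.Lib.Walter.R3.Basic
import Cfsg.Agent.Lib.Walter.R3.Types
import Cfsg.Agent.Lib.Walter.CentralizerShape
import Cfsg.Agent.Lib.Solv.CoreSepFunctor
import Cfsg.Agent.Lib.Fusion.Reduction

/-!
# Rank three: a proper subgroup over `A` modulo its odd core

There is at most one component `K`. Either it contains the image of `A`, or its trace is a four group and its
centraliser is the image of one involution.
-/

set_option autoImplicit false
set_option linter.style.haveILetI false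
set_option linter.unusedSectionVars false

namespace Cfsg.Agent.Walter.R3

open Subgroup Cfsg.Agent.Solv.AbelianTwo
open scoped commutatorElement

universe u

variable {G : Type u} [Group G]

/-- `L` modulo its odd core. -/
abbrev Lq (L : Subgroup G) := ↥L ⧸ Cfsg.oddCore ↥L

/-- The projection. -/
abbrev pr (L : Subgroup G) : ↥L →* Lq L := QuotientGroup.mk' (Cfsg.oddCore ↥L)

/-- The layer of the quotient. -/
abbrev KK (L : Subgroup G) : Subgroup (Lq L) := Cfsg.layer (Lq L)

/-- The elements of `A` over the layer of the quotient. -/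
def tr (L A : Subgroup G) : Subgroup G := ((KK L).comap (pr L)).map L.subtype ⊓ A

theorem mem_tr {L A : Subgroup G} {a : G} (ha : a ∈ L) :
    a ∈ tr L A ↔ pr L ⟨a, ha⟩ ∈ KK L ∧ a ∈ A := by
  refine and_congr ?_ Iff.rfl
  exact mem_map_iff_mem L.subtype_injective (x := (⟨a, ha⟩ : ↥L))

theorem tr_le (L A : Subgroup G) : tr L A ≤ A := inf_le_right

variable [Finite G] {A : Subgroup G}

/-- The quotient has a component, the only one, and it is simple. -/
structure Base (A L : Subgroup G) : Prop where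
  le : A ≤ L
  comp : Cfsg.IsComponent (KK L)
  normal : (KK L).Normal
  simple : IsSimpleGroup (KK L)
  core : CoreFree (Lq L)
  ktype : KType (KK L)

/-- The component contains the image of `A`. -/
structure Full (A L : Subgroup G) : Prop extends Base A L where
  eq : A ≤ tr L A

/-- The trace is a four group, `w` generates the centraliser of the component. -/
structure Half (A L : Subgroup G) (w : G) : Prop extends Base A L where
  mem : w ∈ A
  ne : w ≠ 1
  notmem : w ∉ tr L A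
  four : Nat.card (tr L A) = 4
  split : ∀ a ∈ A, a ∈ tr L A ∨ w * a ∈ tr L A
  cent : ∀ x : Lq L, x ∈ centralizer (KK L : Set (Lq L)) → x = 1 ∨ x = pr L ⟨w, le mem⟩
  wcent : pr L ⟨w, le mem⟩ ∈ center (Lq L)

namespace Ctx

variable (c : Ctx A)
include c

theorem coreFree {L : Subgroup G} : CoreFree (Lq L) :=
  ⟨fun S => by
    haveI : Fact (Nat.Prime 2) := ⟨Nat.prime_two⟩
    obtain ⟨R⟩ : Nonempty (Sylow 2 ↥L) := inferInstance
    obtain ⟨g, hg⟩ := MulAction.exists_smul_eq (Lq L) (R.mapSurjective (QuotientGroup.mk'_surjective _)) S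
    have hab : Ab2 ↥L := of_injective c.min.ab L.subtype L.subtype_injective
    refine ⟨⟨fun a b => Subtype.ext ?_⟩⟩
    obtain ⟨x, rfl⟩ := QuotientGroup.mk'_surjective _ g
    have key : ∀ y ∈ (S : Subgroup (Lq L)), ∃ r ∈ (R : Subgroup ↥L), y = pr L (x * r * x⁻¹) := by
      intro y hy
      rw [← hg] at hy
      obtain ⟨z, ⟨r, hr, rfl⟩, rfl⟩ := hy
      exact ⟨r, hr, by simp⟩
    obtain ⟨a', ha', ea⟩ := key a a.2
    obtain ⟨b', hb', eb⟩ := key b b.2
    show (a : Lq L) * b = b * a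
    rw [ea, eb, ← map_mul, ← map_mul]
    refine congrArg _ ?_
    have hc := (commute_of_mem hab R.isPGroup' ha' hb').eq
    calc x * a' * x⁻¹ * (x * b' * x⁻¹) = x * (a' * b') * x⁻¹ := by group
      _ = x * b' * x⁻¹ * (x * a' * x⁻¹) := by rw [hc]; group, Fusion.pPrimeCore_quotient_eq_bot⟩

/-- The projection is injective on `A`. -/
theorem pr_inj {L : Subgroup G} {a b : G} (ha : a ∈ A) (hb : b ∈ A) (haL : a ∈ L) (hbL : b ∈ L)
    (h : pr L ⟨a, haL⟩ = pr L ⟨b, hbL⟩) : a = b := by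
  have h1 : a⁻¹ * b ∈ Ol L := (mem_Ol (L.mul_mem (L.inv_mem haL) hbL)).2 (QuotientGroup.eq.1 h)
  exact inv_mul_eq_one.1 (c.eq_one_of_odd (A.mul_mem (A.inv_mem ha) hb) (orderOf_odd (Ol_odd L) h1))

theorem pr_eq_one {L : Subgroup G} {a : G} (ha : a ∈ A) (haL : a ∈ L) (h : pr L ⟨a, haL⟩ = 1) : a = 1 :=
  c.pr_inj ha A.one_mem haL L.one_mem (h.trans (map_one (pr L)).symm)

/-- The image of `A` as a Sylow subgroup of the quotient. -/
theorem sylow_quot {L : Subgroup G} (hA : A ≤ L) :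
    ∃ P : Sylow 2 (Lq L), (P : Subgroup (Lq L)) = (A.subgroupOf L).map (pr L) := by
  haveI : Fact (Nat.Prime 2) := ⟨Nat.prime_two⟩
  obtain ⟨T, hT⟩ := c.sylow_in hA
  exact ⟨T.mapSurjective (QuotientGroup.mk'_surjective _), hT ▸ rfl⟩

/-- No component in the quotient makes `L` solvable. -/
theorem solvable_of_no_comp {L : Subgroup G} (h : ∀ J : Subgroup (Lq L), ¬ Cfsg.IsComponent J) :
    Group.IsSolvable L := by
  have hF : CoreFree (Lq L) := c.coreFree
  haveI := gfit_normal' (X := Lq L)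
  haveI hq : Group.IsSolvable (Lq L ⧸ Cfsg.generalizedFittingSubgroup (Lq L)) :=
    Bender.AbelianSolvable.odd_solvable' hF.gfit_odd_index
  have hle : Cfsg.generalizedFittingSubgroup (Lq L) ≤ Cfsg.fittingSubgroup (Lq L) :=
    sup_le (sSup_le fun J hJ => absurd hJ (h J)) le_rfl
  haveI : Group.IsNilpotent (Cfsg.fittingSubgroup (Lq L)) := Solv.fittingSubgroup_nilpotent
  haveI : Group.IsSolvable (Cfsg.generalizedFittingSubgroup (Lq L)) :=
    Group.isSolvable_of_isSolvable_injective (f := Subgroup.inclusion hle) (Subgroup.inclusion_injective hle)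
  haveI : Group.IsSolvable (Lq L) :=
    Group.isSolvable_of_ker_le_range (Cfsg.generalizedFittingSubgroup (Lq L)).subtype
      (QuotientGroup.mk' (Cfsg.generalizedFittingSubgroup (Lq L))) (by rw [QuotientGroup.ker_mk', range_subtype])
  haveI : Group.IsSolvable ↥(Cfsg.oddCore ↥L) :=
    Bender.AbelianSolvable.odd_solvable' (Nat.coprime_two_right.1 (Fusion.card_pPrimeCore_coprime 2 _))
  exact Group.isSolvable_of_ker_le_range (Cfsg.oddCore ↥L).subtype (pr L) (by rw [QuotientGroup.ker_mk', range_subtype])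

/-- The component, its uniqueness and the two cases. -/
theorem quot_cases {L : Subgroup G} (hA : A ≤ L) (hL : L ≠ ⊤) :
    Group.IsSolvable L ∨ Full A L ∨ ∃ w, Half A L w := by
  classical
  haveI : Fact (Nat.Prime 2) := ⟨Nat.prime_two⟩
  by_cases hno : ∀ J : Subgroup (Lq L), ¬ Cfsg.IsComponent J
  · exact Or.inl (c.solvable_of_no_comp hno)
  push Not at hno
  obtain ⟨J, hJ⟩ := hno
  refine Or.inr ?_
  have hF : CoreFree (Lq L) := c.coreFree
  obtain ⟨P, hP⟩ := c.sylow_quot hA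
  have hP8 : Nat.card (P : Subgroup (Lq L)) = 8 := by
    rw [← c.card]
    refine (Nat.card_eq_of_bijective (fun a : A => (⟨pr L ⟨a, hA a.2⟩, hP ▸ ⟨⟨a, hA a.2⟩, a.2, rfl⟩⟩ :
      (P : Subgroup (Lq L)))) ⟨fun a b e => Subtype.ext (c.pr_inj a.2 b.2 _ _ (congrArg Subtype.val e)), fun y => ?_⟩).symm
    obtain ⟨x, hx, hxy⟩ := hP.le y.2
    exact ⟨⟨x, hx⟩, Subtype.ext hxy⟩
  have hsh := (shape_of c.min.below (lt_of_le_of_lt (Nat.card_le_card_of_surjective _
    (QuotientGroup.mk'_surjective (Cfsg.oddCore ↥L))) (c.card_lt hL)) hF).1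
  have hbig : ∀ J : Subgroup (Lq L), Cfsg.IsComponent J →
      4 ≤ Nat.card ↥((P : Subgroup (Lq L)) ⊓ J) := by
    intro J hJ
    haveI := hF.comp_simple hJ
    obtain ⟨Q, hQ⟩ := (CoreFree.comp_sylIn hJ P).exists_sylow_subgroupOf
    have h := (cyc_of_ktype (of_injective hF.ab J.subtype J.subtype_injective) (hsh J hJ) Q).big
    rwa [hQ, Nat.card_congr (subgroupOfEquivOfLe inf_le_right).toEquiv] at h
  have huniq : ∀ J' : Subgroup (Lq L), Cfsg.IsComponent J' → J' = J := by
    intro J' hJ'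
    by_contra hne
    have hc := Subgroup.commutator_eq_bot_iff_le_centralizer.1 (Solv.components_commute hJ' hJ hne)
    have hinj : Function.Injective fun p : ↥((P : Subgroup (Lq L)) ⊓ J') × ↥((P : Subgroup (Lq L)) ⊓ J) =>
        (⟨(p.1 : Lq L) * p.2, mul_mem p.1.2.1 p.2.2.1⟩ : (P : Subgroup (Lq L))) := by
      rintro ⟨a, b⟩ ⟨a', b'⟩ h
      have h' : (a : Lq L) * b = a' * b' := congrArg Subtype.val h
      have h1 : (a' : Lq L)⁻¹ * a = b' * (b : Lq L)⁻¹ := by
        rw [inv_mul_eq_iff_eq_mul, ← mul_assoc, ← h', mul_inv_cancel_right]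
      have hz : (a' : Lq L)⁻¹ * a ∈ J := h1 ▸ mul_mem b'.2.2 (inv_mem b.2.2)
      have h2 : (⟨_, hz⟩ : J) ∈ center J := mem_center_iff.2 fun z =>
        Subtype.ext (mem_centralizer_iff.1 (hc (mul_mem (inv_mem a'.2.2) a.2.2)) z z.2)
      rw [hF.comp_center hJ, mem_bot] at h2
      have h3 : (a' : Lq L)⁻¹ * a = 1 := congrArg Subtype.val h2
      refine Prod.ext (Subtype.ext (inv_mul_eq_one.1 h3).symm) (Subtype.ext ?_)
      rw [h3] at h1
      exact (mul_inv_eq_one.1 h1.symm).symm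
    have h5 := Nat.card_le_card_of_injective _ hinj
    rw [Nat.card_prod, hP8] at h5
    have := Nat.mul_le_mul (hbig J' hJ') (hbig J hJ)
    omega
  have hKJ : KK L = J := le_antisymm (sSup_le fun J' hJ' => (huniq J' hJ').le) (Solv.component_le_layer hJ)
  have hn : (KK L).Normal := Local.layer_normal
  have hcomp : Cfsg.IsComponent (KK L) := hKJ.symm ▸ hJ
  have B : Base A L := ⟨hA, hcomp, hn, hF.comp_simple hcomp, hF, hsh _ hcomp⟩
  have hcard : Nat.card (tr L A) = Nat.card ↥((P : Subgroup (Lq L)) ⊓ KK L) := by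
    refine Nat.card_eq_of_bijective (fun a : tr L A => (⟨pr L ⟨a, hA (tr_le L A a.2)⟩,
      hP ▸ ⟨⟨a, hA (tr_le L A a.2)⟩, tr_le L A a.2, rfl⟩, ((mem_tr (hA (tr_le L A a.2))).1 a.2).1⟩ :
        ↥((P : Subgroup (Lq L)) ⊓ KK L)))
      ⟨fun a b e => Subtype.ext (c.pr_inj (tr_le L A a.2) (tr_le L A b.2) _ _ (congrArg Subtype.val e)), fun y => ?_⟩
    obtain ⟨x, hx, hxy⟩ := hP.le y.2.1
    exact ⟨⟨x, (mem_tr x.2).2 ⟨hxy ▸ y.2.2, hx⟩⟩, Subtype.ext hxy⟩
  have h4 : 4 ≤ Nat.card (tr L A) := hcard ▸ hbig _ hcomp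
  have hdvd : Nat.card (tr L A) ∣ 8 := c.card ▸ card_dvd_of_le (tr_le L A)
  rcases (show Nat.card (tr L A) = 4 ∨ Nat.card (tr L A) = 8 by
    have := Nat.le_of_dvd (by norm_num) hdvd
    interval_cases hq : Nat.card (tr L A) <;> simp at hdvd ⊢) with h | h
  swap
  · exact Or.inl ⟨B, (Subgroup.eq_of_le_of_card_ge (tr_le L A) (by rw [h, c.card])).ge⟩
  refine Or.inr ?_
  -- the element centralising the component
  have hsplit : ∀ a (ha : a ∈ A), ∃ v, ∃ hv : v ∈ tr L A,
      pr L ⟨v⁻¹ * a, L.mul_mem (L.inv_mem (hA (tr_le L A hv))) (hA ha)⟩ ∈ centralizer (KK L : Set (Lq L)) := by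
    intro a ha
    obtain ⟨v, ⟨hv, hvK⟩, hc⟩ := hF.split hcomp P
      (hP ▸ ⟨⟨a, hA ha⟩, ha, rfl⟩ : pr L ⟨a, hA ha⟩ ∈ (P : Subgroup (Lq L)))
    obtain ⟨x, hx, rfl⟩ := hP.le hv
    refine ⟨x, (mem_tr x.2).2 ⟨hvK, hx⟩, mem_centralizer_iff.2 fun y hy => ?_⟩
    exact (hc y hy).symm
  obtain ⟨a, haA, hat⟩ := SetLike.not_le_iff_exists.1 fun hle : A ≤ tr L A => by
    have := card_le_of_le hle
    rw [h, c.card] at this
    omega
  obtain ⟨v, hv, hvc⟩ := hsplit a haA
  have hwA : v⁻¹ * a ∈ A := A.mul_mem (A.inv_mem (tr_le L A hv)) haA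
  have hwt : v⁻¹ * a ∉ tr L A := fun hm => hat (by
    have := (tr L A).mul_mem hv hm
    rwa [mul_inv_cancel_left] at this)
  obtain ⟨w, hw⟩ : ∃ w, w = v⁻¹ * a := ⟨_, rfl⟩
  rw [← hw] at hwA hwt
  have hwc : pr L ⟨w, hA hwA⟩ ∈ centralizer (KK L : Set (Lq L)) := by
    simp only [hw]; exact hvc
  have hw1 : w ≠ 1 := fun e => hwt (e ▸ one_mem _)
  have key : ∀ (d : G) (hd : d ∈ L), d ∈ tr L A → pr L ⟨d, hd⟩ ∈ centralizer (KK L : Set (Lq L)) → d = 1 := by
    intro d hd hdt hdc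
    have h2 : (⟨_, ((mem_tr hd).1 hdt).1⟩ : KK L) ∈ center (KK L) := mem_center_iff.2 fun z =>
      Subtype.ext (mem_centralizer_iff.1 hdc z z.2)
    rw [hF.comp_center hcomp, mem_bot] at h2
    exact c.pr_eq_one (tr_le L A hdt) hd (congrArg Subtype.val h2)
  -- at most two elements of `A` centralise the component
  let D : Subgroup G := ((centralizer (KK L : Set (Lq L))).comap (pr L)).map L.subtype ⊓ A
  have hD : ∀ (d : G) (hd : d ∈ A), d ∈ D ↔ pr L ⟨d, hA hd⟩ ∈ centralizer (KK L : Set (Lq L)) := fun d hd =>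
    (and_iff_left hd).trans (mem_map_iff_mem L.subtype_injective (x := (⟨d, hA hd⟩ : ↥L)))
  have hDcard : Nat.card D ≤ 2 := by
    have hinj : Function.Injective fun p : D × tr L A =>
        (⟨(p.1 : G) * p.2, A.mul_mem p.1.2.2 (tr_le L A p.2.2)⟩ : A) := by
      rintro ⟨x, y⟩ ⟨x', y'⟩ he
      have he' : (x : G) * y = x' * y' := congrArg Subtype.val he
      have h1 : (x' : G)⁻¹ * x = y' * (y : G)⁻¹ := by
        rw [inv_mul_eq_iff_eq_mul, ← mul_assoc, ← he', mul_inv_cancel_right]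
      have hm : (x' : G)⁻¹ * x ∈ tr L A := h1 ▸ mul_mem y'.2 (inv_mem y.2)
      have hm2 : (x' : G)⁻¹ * x ∈ D := mul_mem (inv_mem x'.2) x.2
      have h2 := key _ _ hm ((hD _ hm.2).1 hm2)
      refine Prod.ext (Subtype.ext (inv_mul_eq_one.1 h2).symm) (Subtype.ext ?_)
      rw [h2] at h1
      exact (mul_inv_eq_one.1 h1.symm).symm
    have h5 := Nat.card_le_card_of_injective _ hinj
    rw [Nat.card_prod, h, c.card] at h5
    omega
  have hDw : ∀ d ∈ D, d = 1 ∨ d = w := by
    intro d hd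
    by_contra hne
    push Not at hne
    haveI := Fintype.ofFinite D
    rw [Nat.card_eq_fintype_card] at hDcard
    refine absurd hDcard (not_le.2 (Fintype.two_lt_card_iff.2 ⟨1, ⟨w, (hD w hwA).2 hwc⟩, ⟨d, hd⟩, ?_, ?_, ?_⟩))
    · exact fun e => hw1 (congrArg Subtype.val e).symm
    · exact fun e => hne.1 (congrArg Subtype.val e).symm
    · exact fun e => hne.2 (congrArg Subtype.val e).symm
  have hwsplit : ∀ b ∈ A, b ∈ tr L A ∨ w * b ∈ tr L A := by
    intro b hb
    obtain ⟨v', hv', hc'⟩ := hsplit b hb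
    rcases hDw _ ((hD _ (A.mul_mem (A.inv_mem (tr_le L A hv')) hb)).2 hc') with e | e
    · exact Or.inl ((inv_mul_eq_one.1 e) ▸ hv')
    · refine Or.inr ?_
      have hb' : b = v' * w := inv_mul_eq_iff_eq_mul.1 e
      rwa [hb', (c.comm (tr_le L A hv') hwA).eq, ← mul_assoc, c.sq hwA, one_mul]
  have hPc : ∀ x ∈ (P : Subgroup (Lq L)), x ∈ centralizer (KK L : Set (Lq L)) → x = 1 ∨ x = pr L ⟨w, hA hwA⟩ := by
    intro x hx hxc
    obtain ⟨b, hb, rfl⟩ := hP.le hx
    rcases hDw (b : G) ((hD _ hb).2 hxc) with e | e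
    · exact Or.inl (by rw [show b = 1 from Subtype.ext e, map_one])
    · exact Or.inr (congrArg (pr L) (Subtype.ext e))
  haveI hCn : (centralizer (KK L : Set (Lq L))).Normal :=
    haveI := hn; Solv.centralizer_normal_of_normal _
  haveI := Solv.fittingSubgroup_normal (G := Lq L)
  have hFc : Cfsg.fittingSubgroup (Lq L) ≤ centralizer (KK L : Set (Lq L)) := by
    rw [le_centralizer_iff]
    exact Subgroup.commutator_eq_bot_iff_le_centralizer.1 Solv.layer_commutator_fitting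
  have hFP : Cfsg.fittingSubgroup (Lq L) ≤ (P : Subgroup (Lq L)) :=
    (Fusion.le_pCore hF.fitting_two).trans (Fusion.pCore_le_sylow P)
  have hodd : ∀ r ∈ centralizer (KK L : Set (Lq L)), Odd (orderOf r) → r = 1 := by
    intro r hr hro
    have hrF : ∀ f ∈ Cfsg.fittingSubgroup (Lq L), f * r = r * f := by
      intro f hf
      have hconj : r * f * r⁻¹ ∈ Cfsg.fittingSubgroup (Lq L) :=
        (inferInstance : (Cfsg.fittingSubgroup (Lq L)).Normal).conj_mem f hf r
      rcases hPc f (hFP hf) (hFc hf) with e | e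
      · rw [e, one_mul, mul_one]
      rcases hPc _ (hFP hconj) (hFc hconj) with e' | e'
      · rw [conj_eq_one_iff] at e'
        rw [e', one_mul, mul_one]
      · rw [← e] at e'
        exact (mul_inv_eq_iff_eq_mul.1 e').symm
    have hrg : r ∈ centralizer (Cfsg.generalizedFittingSubgroup (Lq L) : Set (Lq L)) := by
      refine mem_centralizer_iff.2 fun y hy => ?_
      have : Cfsg.generalizedFittingSubgroup (Lq L) ≤ centralizer ({r} : Set (Lq L)) :=
        sup_le (fun k hk => mem_centralizer_singleton_iff.2 (mem_centralizer_iff.1 hr k hk))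
          (fun f hf => mem_centralizer_singleton_iff.2 (hrF f hf))
      exact mem_centralizer_singleton_iff.1 (this hy)
    haveI := gfit_normal' (X := Lq L)
    have hrF2 : r ∈ Cfsg.fittingSubgroup (Lq L) := by
      have hmem := Solv.centralizer_gfit_le hrg
      obtain ⟨k, hk, f, hf, rfl⟩ := mem_sup_of_normal_right.1 hmem
      have hkc : k ∈ centralizer (KK L : Set (Lq L)) := by
        have := mul_mem hr (inv_mem (hFc hf))
        rwa [mul_inv_cancel_right] at this
      have h2 : (⟨k, hk⟩ : KK L) ∈ center (KK L) := mem_center_iff.2 fun z =>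
        Subtype.ext (mem_centralizer_iff.1 hkc z z.2)
      rw [hF.comp_center hcomp, mem_bot] at h2
      rw [show k = 1 from congrArg Subtype.val h2, one_mul]
      exact hf
    obtain ⟨j, hj⟩ := IsPGroup.iff_orderOf.1 hF.fitting_two ⟨r, hrF2⟩
    rw [Subgroup.orderOf_mk] at hj
    exact orderOf_eq_one_iff.1 (Nat.eq_one_of_dvd_coprimes (hro.coprime_two_left.pow_left j) hj.dvd dvd_rfl)
  have hCp : IsPGroup 2 (centralizer (KK L : Set (Lq L))) := by
    intro x
    obtain ⟨i, m, hm, hxe⟩ := Nat.exists_eq_pow_mul_and_not_dvd (orderOf_pos (x : Lq L)).ne' 2 (by norm_num)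
    refine ⟨i, Subtype.ext ?_⟩
    rw [SubgroupClass.coe_pow, Subgroup.coe_one]
    refine hodd _ (pow_mem x.2 _) ?_
    rw [orderOf_pow, hxe, Nat.gcd_eq_right (Dvd.intro _ rfl), Nat.mul_div_cancel_left _ (by positivity)]
    exact Nat.odd_iff.2 (Nat.two_dvd_ne_zero.1 hm)
  have hCP : centralizer (KK L : Set (Lq L)) ≤ (P : Subgroup (Lq L)) :=
    (Fusion.le_pCore hCp).trans (Fusion.pCore_le_sylow P)
  have hcent : ∀ x : Lq L, x ∈ centralizer (KK L : Set (Lq L)) → x = 1 ∨ x = pr L ⟨w, hA hwA⟩ :=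
    fun x hx => hPc x (hCP hx) hx
  refine ⟨w, B, hwA, hw1, hwt, h, hwsplit, hcent, mem_center_iff.2 fun g => ?_⟩
  rcases hcent _ (hCn.conj_mem _ hwc g) with e | e
  · rw [conj_eq_one_iff] at e
    rw [e, one_mul, mul_one]
  · exact mul_inv_eq_iff_eq_mul.1 e

end Ctx

end Cfsg.Agent.Walter.R3
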